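import Cfsg.Agent.Lib.JR.Card
import Cfsg.Agent.Lib.CharFrobenius

/-!
# The Ree case: the action on the Sylow `3`-subgroups
-/

set_option autoImplicit false
set_option linter.unusedSimpArgs false
set_option linter.unusedSectionVars false

namespace CfsgLib.JR

open Subgroup Cfsg CfsgLib.FT CfsgLib.FT.BGN CfsgLib.FT.U4 CfsgLib.GW

variable {G : Type*} [Group G] [Fintype G] {q r s : ℤ} {p : ℕ} {c : Cfg G} {a b g x y z : G}
  {H M P U : Subgroup G}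

/-- The torus `⟨t⟩ × T`. -/
def Cfg.D (c : Cfg G) : Subgroup G := c.T ⊔ zpowers c.t

theorem exists_kernel (hTI : ∀ x ∈ M, ∀ g ∈ H, g ≠ 1 → x⁻¹ * g * x ∈ H → x ∈ H) :
    ∃ K : Subgroup G, ∀ g, g ∈ K ↔ g ∈ M ∧ ∀ x ∈ M, x⁻¹ * g * x ∈ H → g = 1 := by
  obtain ⟨N, -, h1, -⟩ := wielandt_frobenius (H.subgroupOf M) ⊥ bot_le (by simp)
    fun x hx g hg e => by
      by_contra e'
      exact hx (hTI x x.2 g hg (fun k => e' (by simp [show g = 1 from Subtype.ext k])) e)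
  refine ⟨N.map M.subtype, fun g => ⟨?_, fun ⟨hg, k⟩ => ⟨⟨g, hg⟩, (h1 _).2 fun x e => ?_, rfl⟩⟩⟩
  · rintro ⟨g, hg, rfl⟩
    refine ⟨g.2, fun x hx e => ?_⟩
    simpa [mul_assoc, inv_mul_eq_one] using (h1 g).1 hg ⟨x, hx⟩ e
  · simp [show (⟨g, hg⟩ : M) = 1 from Subtype.ext (k x x.2 e)]

theorem exists_ord (hp : p.Prime) (hP : IsPGroup p P) (hx : x ∈ P) (h1 : x ≠ 1) :
    ∃ y ∈ zpowers x, orderOf y = p := by
  have := Fact.mk hp
  obtain ⟨n, hn⟩ := (IsPGroup.iff_orderOf.1 hP) ⟨x, hx⟩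
  rw [← orderOf_coe] at hn
  exact exists_prime_pow (hn ▸ dvd_pow_self p (by rintro rfl; exact h1 (orderOf_eq_one_iff.1 hn)))

theorem LD.pQ (h : LD q r s p c) : IsPGroup p c.Q :=
  let ⟨_, hf⟩ := h.qp; IsPGroup.of_card (h.cardQ.trans hf)

theorem LD.norm_Q (h : LD q r s p c) (hg : g ∈ c.L) (hx : x ∈ c.Q) (h1 : x ≠ 1)
    (e : g * x * g⁻¹ ∈ c.Q) : g ∈ 𝐍(c.Q) := mem_norm_of fun y hy => by
  rw [← h.cent_eq_Q e (by simpa using h1)]
  exact mem_inf.2 ⟨cmem hg (h.QL hy), conj_cent g (h.commQ y hy x hx)⟩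

theorem LD.odd_norm_Q (h : LD q r s p c) (hq : q < 0) : Odd (Nat.card ↥(c.L ⊓ 𝐍(c.Q))) :=
  GW.odd_card_of_le (odd_sup' (h.TQ hq) h.oddT h.oddQ) fun g hg => h.normQ hq g hg.1 hg.2

namespace GD

variable (h : GD q r s p c)
include h

theorem mem_D : g ∈ c.D ↔ g ∈ c.T ∨ c.t * g ∈ c.T := mem_sup_inv h.tt (h.t_norm h.TL)

theorem card_D : Nat.card c.D = 2 * s.natAbs :=
  h.cardT ▸ card_sup_inv h.tt (h.t_norm h.TL) (notMem_of_odd h.ot h.oddT)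

theorem D_le_ct : c.D ≤ 𝐂[c.t] := sup_le (h.TL.trans h.L_le) (zpowers_le_cent1 _)

theorem eq_t (ha : a ∈ c.D) (ho : orderOf a = 2) : a = c.t := by
  have h1 := (h.mem_D.1 ha).resolve_left (notMem_of_odd ho h.oddT)
  have h2 := eq_one_of_odd_of_mul_self (odd_orderOf_of_mem h.oddT h1) (by
    rw [mul_assoc, ← mul_assoc a, mem_cent1.1 (h.D_le_ct ha), mul_assoc, mul_self_of_inv ho,
      mul_one, h.tt])
  rw [eq_inv_of_mul_eq_one_right h2, h.four_tu.ti]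

theorem mem_Od (ht : c.t ∈ M) (ho : Odd (Nat.card ↥(c.L ⊓ M))) (hg : g ∈ M) :
    g ∈ Od M ∨ c.t * g ∈ Od M := by
  have h4 := h.not_four_dvd h.ot ht (by rw [h.card_inf_ct ht]; have := Nat.odd_iff.1 ho; omega)
  have h1 := card_mul_relIndex (zpowers_le.2 ht)
  rw [card_zpowers_inv h.ot] at h1
  rw [← mem_sup_inv h.tt (le_norm_Od M ht), Od, (burnside (P := zpowers c.t)
    ⟨zpowers_le.2 ht, isPGroup_zpowers h.ot, by omega⟩ fun g hg => ?_).2]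
  · exact hg
  rw [U4.cent_zpowers]
  exact mem_cent1_of_conj_eq (((mem_zpowers_inv h.ot).1 (norm_mem hg.2 (mem_zpowers _))).resolve_left
    (by simpa using h.four_tu.t1))

theorem inf_ct (hP : IsPGroup p P) (hQ : c.Q ≤ P) : P ⊓ 𝐂[c.t] = c.Q := by
  have := Fact.mk h.pp
  exact IsSylowIn.eq_of_le ⟨h.QL, h.pQ, h.hall_Q h.pp h.p_dvd⟩ hP.to_inf_left
    (le_inf hQ (h.QL.trans h.L_le)) fun g hg => h.mem_L_of_odd hg.2
      (odd_orderOf_of_mem (odd_card_of_isPGroup h.pp h.p_ne_two hP) hg.1)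

theorem exists_conj_L (ha : orderOf a = 2) (hx : x ∈ 𝐂[a]) (ho : Odd (orderOf x)) :
    ∃ g, g * a * g⁻¹ = c.t ∧ g * x * g⁻¹ ∈ c.L := by
  obtain ⟨g, rfl⟩ := h.conj_t ha
  rw [cent1_conj, mem_conj] at hx
  exact ⟨g⁻¹, by group, by simpa using h.mem_L_of_odd hx (by rwa [H5.orderOf_conj''])⟩

theorem exists_conj_hall (ha : orderOf a = 2) (hx : x ∈ 𝐂[a]) (hk : (orderOf x).Prime)
    (ho : Odd (orderOf x)) (hH : H ≤ c.L) (hi : ¬ orderOf x ∣ H.relIndex c.L) :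
    ∃ g, g * a * g⁻¹ = c.t ∧ g * x * g⁻¹ ∈ H := by
  obtain ⟨g, h1, h2⟩ := h.exists_conj_L ha hx ho
  obtain ⟨z, hz, e⟩ := exists_conj_mem_of_hall hk hH hi (isPGroup_zpowers (U4.orderOf_conj g x))
    (zpowers_le.2 h2)
  refine ⟨z * g, ?_, by simpa [mul_assoc] using e (conj_mem_conj_iff.2 (mem_zpowers _))⟩
  rw [show z * g * a * (z * g)⁻¹ = z * (g * a * g⁻¹) * z⁻¹ by group, h1, h.comm z hz,
    mul_inv_cancel_right]

variable (hq : q < 0)
include hq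

theorem nonreal (ha : orderOf a = 2) (hx : x ∈ 𝐂[a]) (hk : orderOf x = p) (hb : b ∈ 𝐂[a])
    (e : b * x * b⁻¹ = x⁻¹) : False := by
  have ho : Odd (orderOf x) := hk ▸ h.pp.odd_of_ne_two h.p_ne_two
  obtain ⟨g, h1, h2⟩ := h.exists_conj_hall ha hx (hk ▸ h.pp) ho h.QL
    (hk ▸ h.hall_Q h.pp h.p_dvd)
  have h3 : g * x * g⁻¹ ≠ 1 := by
    rintro e'; rw [← U4.orderOf_conj g, e', orderOf_one] at hk; exact h.pp.one_lt.ne hk
  have h4 : g * b * g⁻¹ * (g * x * g⁻¹) * (g * b * g⁻¹)⁻¹ = (g * x * g⁻¹)⁻¹ := by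
    rw [mul_inv_rev (g * x), mul_inv_rev g, ← e]; group
  obtain ⟨l, hl, h5⟩ : ∃ l ∈ c.L, l * (g * x * g⁻¹) * l⁻¹ = (g * x * g⁻¹)⁻¹ := by
    rcases h.mem_ct.1 (h1 ▸ conj_cent g (mem_cent1.1 hb)) with k | k
    · exact ⟨_, k, h4⟩
    · refine ⟨_, k, ?_⟩
      rw [mul_inv_rev c.t, mul_assoc c.t, mul_assoc c.t, ← mul_assoc _ _ c.t⁻¹, h4, ← mul_assoc,
        ← h.comm _ (h.QL (inv_mem h2)), mul_inv_cancel_right]
  exact h3 (eq_one_of_odd_of_mul_self (odd_orderOf_of_mem h.oddQ h2) (eq_inv_iff_mul_eq_one.1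
    (eq_inv_of_odd (odd_orderOf_of_mem (h.odd_norm_Q hq)
      ⟨hl, h.norm_Q hl h2 h3 (h5 ▸ inv_mem h2)⟩) h5)))

theorem odd_norm (hP : IsPGroup p P) (hQ : c.Q ≤ P) : Odd (Nat.card ↥(c.L ⊓ 𝐍(P))) :=
  GW.odd_card_of_le (h.odd_norm_Q hq) fun g hg => ⟨hg.1, mem_norm_of fun x hx => by
    rw [← h.inf_ct hP hQ] at hx ⊢
    exact ⟨norm_mem hg.2 hx.1, cmem (h.L_le hg.1) hx.2⟩⟩

theorem inf_conj (hP : IsPGroup p P) (hQ : c.Q ≤ P) (ht : c.t ∈ 𝐍(P)) : P ⊓ c.u •ᶜ P = ⊥ := by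
  have ho := odd_card_of_isPGroup h.pp h.p_ne_two hP.to_inf_left (P := P ⊓ c.u •ᶜ P)
  have h1 : c.t ∈ 𝐍(P ⊓ c.u •ᶜ P) := mem_norm_of fun x hx => ⟨norm_mem ht hx.1, mem_conj.2 (by
    have := norm_mem ht (mem_conj.1 hx.2)
    rwa [show c.t * (c.u⁻¹ * x * c.u) * c.t⁻¹ = (c.u * c.t⁻¹)⁻¹ * x * (c.u * c.t⁻¹) by group,
      (Commute.inv_right (h.comm _ h.uL)).eq, show (c.t⁻¹ * c.u)⁻¹ * x * (c.t⁻¹ * c.u) =
        c.u⁻¹ * (c.t * x * c.t⁻¹) * c.u by group] at this)⟩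
  have h2 : c.u ∈ 𝐍(P ⊓ c.u •ᶜ P) := mem_norm_of fun x hx => mem_inf.2 ⟨by
    simpa only [h.four.ti] using mem_conj.1 hx.2, conj_mem_conj_iff.2 hx.1⟩
  have h3 : P ⊓ c.u •ᶜ P ⊓ 𝐂[c.t] = ⊥ := eq_bot_of_forall fun x hx => by
    by_contra e
    have k1 : x ∈ c.Q := h.inf_ct hP hQ ▸ ⟨hx.1.1, hx.2⟩
    have k2 : c.u * x * c.u⁻¹ ∈ c.Q := h.inf_ct hP hQ ▸
      ⟨(norm_mem h2 hx.1).1, cmem (h.L_le h.uL) hx.2⟩
    exact notMem_of_odd h.ou (h.odd_norm_Q hq) ⟨h.uL, h.norm_Q h.uL k1 e k2⟩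
  have h4 := inverts_of_inf_cent h.tt ho h1 h3
  have key : ∀ a, orderOf a = 2 → c.t ∈ 𝐂[a] → P ⊓ c.u •ᶜ P ⊓ 𝐂[a] ≤ ⊥ := fun a ha hc => by
    by_contra e
    obtain ⟨x, hx, k⟩ := SetLike.not_le_iff_exists.1 e
    obtain ⟨y, hy, k⟩ := exists_ord h.pp hP hx.1.1 k
    replace hy := zpowers_le.2 hx hy
    exact h.nonreal hq ha hy.2 k hc (h4 y hy.1)
  exact le_bot_iff.1 (h.four_tu.le_of_cent_le ho (le_norm_of_V h1 h2) h3.le
    (key _ h.ou h.four_tu.symm.s_cent) (key _ h.four_tu.ots h.four_tu.mul.symm.s_cent))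

variable (hN : ((𝐂[c.t]).index : ℤ) = q ^ 2 * (q ^ 2 + q + 1))
include hN

omit hq in
theorem hall_T' {k : ℕ} (hk : k.Prime) (hd : k ∣ s.natAbs) (hT : c.T ≤ U) :
    ¬ k ∣ c.T.relIndex U := fun e => by
  have h1 := e.trans (Dvd.intro _ (relIndex_mul_index hT))
  rw [← relIndex_mul_index (h.TL.trans h.L_le), ← relIndex_mul_relIndex _ _ _ h.TL h.L_le, h.idxL,
    hk.dvd_mul, hk.dvd_mul] at h1
  rcases h1 with (h1 | h1) | h1
  · exact h.hall_T hk hd h1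
  · rw [(Nat.prime_dvd_prime_iff_eq hk Nat.prime_two).1 h1] at hd
    exact Nat.not_even_iff_odd.2 h.odd_s' (even_iff_two_dvd.2 hd)
  · have h2 : IsCoprime s (q ^ 2 * (q ^ 2 + q + 1)) := IsCoprime.mul_right
      (Int.isCoprime_iff_nat_coprime.2 h.cop_qs).symm.pow_right
      ⟨2 - 4 * s, 1, by rw [h.hq, h.hs]; ring⟩
    exact (Nat.prime_iff_prime_int.1 hk).not_isUnit (h2.isUnit_of_dvd' (Int.natCast_dvd.2 hd)
      (hN ▸ Int.natCast_dvd_natCast.2 h1))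

theorem cent_T (hy : y ∈ c.T) (h1 : y ≠ 1) : 𝐂[y] = c.D := by
  have ht : c.t ∈ 𝐂[y] := mem_cent1'.2 (h.comm y (h.TL hy))
  have h2 := h.cent_eq_T hy h1
  have ho : Odd (Nat.card ↥(c.L ⊓ 𝐂[y])) := h2 ▸ h.oddT
  have h3 := (h.Od_inf_ct ht ho).trans h2
  have h4 : c.T ≤ Od 𝐂[y] := h3 ▸ inf_le_left
  have nt := le_norm_Od _ ht
  have nu : c.u ∈ 𝐍(Od 𝐂[y]) := norm_le_norm_Od _ (by
    rw [← U4.cent_zpowers]; exact U4.norm_le_norm_cent _ (inverts_zpowers (h.uT y hy)).mem_norm)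
  have key : ∀ a, orderOf a = 2 → c.t ∈ 𝐂[a] → Inverts a c.T → Od 𝐂[y] ⊓ 𝐂[a] ≤ c.T := by
    intro a ha hc hi
    have k1 := inverts_of_inf_cent (X := Od 𝐂[y] ⊓ 𝐂[a]) h.tt
      (GW.odd_card_of_le (odd_Od _) inf_le_left)
      (mem_norm_of fun x hx => ⟨norm_mem nt hx.1, cmem hc hx.2⟩)
      (by rw [inf_right_comm, h3, hi.inf_cent h.oddT])
    intro x hx
    by_contra e
    obtain ⟨k, hk, hd⟩ := exists_prime_dvd_orderOf (x := x) (by rintro rfl; exact e (one_mem _))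
    obtain ⟨x, hx', rfl⟩ := exists_prime_pow hd
    replace hx := zpowers_le.2 hx hx'
    have ox := odd_of_mem_Od hx.1
    obtain ⟨g, -, k2⟩ := h.exists_conj_L ha hx.2 ox
    rcases h.prime_cases hk (fun e => not_odd_of_inv e ox)
      (U4.orderOf_conj g x ▸ orderOf_dvd_card_of_mem k2) with k3 | k3 | k3
    · obtain ⟨g, -, k4⟩ := h.exists_conj_hall ha hx.2 hk ox h.RL (h.hall_R hk k3)
      have k5 := orderOf_dvd_card_of_mem (h.mem_R_of_odd' (g := g * y * g⁻¹) (h.W_le_cv (by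
        rw [← h.cent_R k4 fun e => hk.one_lt.ne' (by rw [← U4.orderOf_conj g, e, orderOf_one])]
        exact conj_cent g (mem_cent1'.1 (Od_le _ hx.1))))
        (by rw [U4.orderOf_conj]; exact odd_orderOf_of_mem h.oddT hy))
      rw [U4.orderOf_conj, h.cardR] at k5
      exact h1 (orderOf_eq_one_iff.1 (Nat.eq_one_of_dvd_coprimes h.cop_sr
        (h.cardT ▸ orderOf_dvd_card_of_mem hy) k5))
    · obtain ⟨z, hz, k4⟩ := exists_conj_mem_of_hall hk h4 (h.hall_T' hN hk k3 h4)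
        (isPGroup_zpowers rfl) (zpowers_le.2 hx.1)
      have k5 := h.comm _ (h.TL (k4 (conj_mem_conj_iff.2 (mem_zpowers x))))
      have k6 := eq_inv_of_odd (z := c.t * z⁻¹ * c.t⁻¹ * z) (x := x)
        (odd_of_mem_Od (mul_mem (norm_mem nt (inv_mem hz)) hz)) (by
          rw [← k1 x hx, show c.t * z⁻¹ * c.t⁻¹ * z * x * (c.t * z⁻¹ * c.t⁻¹ * z)⁻¹ =
            c.t * z⁻¹ * c.t⁻¹ * (z * x * z⁻¹ * c.t) * z * c.t⁻¹ by group, k5]
          group)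
      rw [eq_one_of_odd_of_mul_self ox (eq_inv_iff_mul_eq_one.1 k6), orderOf_one] at hk
      exact Nat.not_prime_one hk
    · exact h.nonreal hq ha hx.2 (h.eq_p hk k3) hc (k1 x hx)
  have h5 := h.four_tu.le_of_cent_le (odd_Od _) (le_norm_of_V nt nu) h3.le
    (key _ h.ou h.four_tu.symm.s_cent h.uT) (key _ h.four_tu.ots h.four_tu.mul.symm.s_cent
      fun x hx => by
        rw [mul_inv_rev, mul_assoc c.t, mul_assoc c.t, ← mul_assoc _ _ c.t⁻¹, h.uT x hx,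
          ← mul_assoc, ← h.comm _ (h.TL (inv_mem hx)), mul_inv_cancel_right])
  exact le_antisymm (fun g hg => h.mem_D.2 ((h.mem_Od ht ho hg).imp (fun e => h5 e) fun e => h5 e))
    (sup_le (h4.trans (Od_le _)) (zpowers_le.2 ht))

theorem ti_T (hx : Odd (orderOf x)) (hy : y ∈ c.T) (h1 : y ≠ 1) (e : x⁻¹ * y * x ∈ c.T) :
    x ∈ c.T := by
  have h2 : x * c.t * x⁻¹ ∈ c.D := by
    rw [← h.cent_T hq hN hy h1]
    simpa [mul_assoc] using conj_cent x (h.comm _ (h.TL e)).symm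
  have h3 := h.mem_L_of_odd (mem_cent1_of_conj_eq (h.eq_t h2 (by rw [U4.orderOf_conj, h.ot]))) hx
  by_contra h4
  have h5 := h.tiT.ti x⁻¹ (inv_mem h3) y ⟨hy, h1⟩ ⟨by simpa using e, by
    simpa [mul_assoc, inv_mul_eq_one] using h1⟩
  exact h4 (eq_one_of_odd_of_mul_self hx (h.inv_of_notMem_T (inv_mem_iff.1 h5) h4).1 ▸ one_mem _)

theorem exists_P : ∃ P, IsSylowIn p P ⊤ ∧ c.Q ≤ P ∧ c.D ≤ 𝐍(P) := by
  have := Fact.mk h.pp
  obtain ⟨P, hQ, ⟨hP, hD⟩, hm⟩ := Finite.exists_le_maximal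
    (p := fun P : Subgroup G => IsPGroup p P ∧ c.D ≤ 𝐍(P))
    ⟨h.pQ, sup_le (h.TQ hq) (zpowers_le.2 (h.t_norm h.QL))⟩
  have h1 := h.nilp2_of (hD (mem_sup_right (mem_zpowers _))) (h.odd_norm hq hP hQ)
  have h2 := h1.le_Od (le_sup_left.trans hD) h.oddT
  obtain ⟨K, hK⟩ := exists_kernel (M := Od 𝐍(P)) (H := c.T) fun x hx g hg k1 k2 =>
    h.ti_T hq hN (odd_of_mem_Od hx) hg k1 k2
  have h3 : ∀ X : Subgroup G, IsPGroup p X → X ≤ 𝐍(P) → X ≤ K := fun X k1 k2 g hg => (hK g).2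
    ⟨h1.le_Od k2 (odd_card_of_isPGroup h.pp h.p_ne_two k1) hg, fun x _ e => by
      obtain ⟨n, hn⟩ := (IsPGroup.iff_orderOf.1 k1) ⟨g, hg⟩
      have k3 := orderOf_dvd_card_of_mem e
      rw [H5.orderOf_conj'', h.cardT] at k3
      rw [← orderOf_coe] at hn
      exact orderOf_eq_one_iff.1 (Nat.eq_one_of_dvd_coprimes
        ((Nat.Coprime.coprime_dvd_left h.p_dvd h.cop_qs).pow_left n) hn.dvd k3)⟩
  have hT : c.D ≤ 𝐍(c.T) := sup_le le_normalizer (zpowers_le.2 (h.t_norm h.TL))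
  obtain ⟨P1, k1, k2, k3⟩ := Cop.exists_invariant_sylowOf_ge (A := c.D) (G := K)
    (fun d hd => mem_norm_of fun g hg => (hK _).2 ⟨norm_mem (le_norm_Od _ (hD hd)) ((hK g).1 hg).1,
      fun x hx e => by
        rw [((hK g).1 hg).2 _ (norm_mem' (le_norm_Od _ (hD hd)) hx)
          (by simpa [mul_assoc] using norm_mem' (hT hd) e)]; simp⟩)
    (Nat.coprime_of_dvd fun k hk k1 k2 => by
      have := Fact.mk hk
      obtain ⟨⟨g, hg⟩, k3⟩ := exists_prime_orderOf_dvd_card' k k2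
      replace k3 : orderOf g = k := (orderOf_coe (⟨g, hg⟩ : K)).trans k3
      obtain ⟨k4, k5⟩ := (hK g).1 hg
      rw [h.card_D, hk.dvd_mul, Nat.prime_dvd_prime_iff_eq hk Nat.prime_two] at k1
      obtain ⟨z, hz, e⟩ := exists_conj_mem_of_hall hk h2 (h.hall_T' hN hk (k1.resolve_left
        fun e => not_odd_of_inv (k3.trans e) (odd_of_mem_Od k4)) h2) (isPGroup_zpowers k3)
        (zpowers_le.2 k4)
      rw [k5 _ (inv_mem hz) (by simpa using e (conj_mem_conj_iff.2 (mem_zpowers g))),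
        orderOf_one] at k3
      exact hk.one_lt.ne k3)
    (Or.inr (solvable_of_odd (GW.odd_card_of_le (odd_Od _) fun g hg => ((hK g).1 hg).1))) hP
    (h3 P hP le_normalizer) hD
  obtain rfl := le_antisymm k3 (hm ⟨Cop.isPGroup_of_isPiHallOf k1, k2⟩ k3)
  refine ⟨P, Cop.isPiHallOf_singleton_iff.1 (Cop.sylowOf_of_sylowOf_normalizer
    (Cop.isPiHallOf_singleton_iff.2 (IsSylowIn.of_maximal (le_inf le_top le_normalizer) hP
      fun X k4 k5 k6 => (Cop.eq_of_sylowOf_le k1 k4 (h3 X k4 (k6.trans inf_le_right)) k5).ge))),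
    hQ, hD⟩

theorem exists_P0 [Fact p.Prime] : ∃ P : Sylow p G, c.Q ≤ P ∧ c.t ∈ 𝐍((P : Subgroup G)) ∧
    ¬ (P : Subgroup G) ≤ 𝐂[c.t] ∧ (P : Subgroup G) ⊓ (c.u • P : Sylow p G) = ⊥ ∧
      ∀ P' : Sylow p G, P' ≠ P → ∃ x ∈ P, x • c.u • P = P' := by
  obtain ⟨P, h1, hQ, hD⟩ := h.exists_P hq hN
  obtain ⟨P, rfl⟩ := IsSylowIn.top_iff.1 h1
  have ht := hD (mem_sup_right (mem_zpowers _))
  have h2 : (P : Subgroup G) ⊓ (c.u • P : Sylow p G) = ⊥ := h.inf_conj hq P.isPGroup' hQ ht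
  have h3 : Nat.card G = q.natAbs ^ 3 * (2 * s.natAbs) * (q.natAbs ^ 3 + 1) := by
    have := h.card_eq
    have := h.hq
    have := h.hs
    zify at *
    rw [‹(Nat.card G : ℤ) = _›, hN, abs_of_neg hq, abs_of_neg (by omega : r < 0), h.hq]
    ring
  obtain ⟨f, hf⟩ := h.qp
  have h4 : Nat.card P = q.natAbs ^ 3 := by
    have k1 := card_mul_index (P : Subgroup G)
    obtain ⟨n, hn⟩ := IsPGroup.iff_card.1 P.isPGroup'
    rw [h3, mul_assoc] at k1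
    refine Nat.dvd_antisymm (Nat.Coprime.dvd_of_dvd_mul_right ?_ ⟨_, k1.symm⟩)
      (Nat.Coprime.dvd_of_dvd_mul_right ?_ ⟨_, k1⟩)
    · rw [hn]
      refine (Nat.Coprime.coprime_dvd_left h.p_dvd (((Nat.coprime_two_right.2 h.odd_q').mul_right
        h.cop_qs).mul_right ?_)).pow_left n
      rw [pow_succ, Nat.coprime_mul_right_add_right]; exact Nat.coprime_one_right _
    · rw [hf, ← pow_mul]
      exact (h.pp.coprime_iff_not_dvd.2 P.not_dvd_index).pow_left _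
  have h5 : Nat.card (Sylow p G) ≤ q.natAbs ^ 3 + 1 := by
    have k1 := card_dvd_of_le (sup_le le_normalizer hD)
    rw [sup_comm, card_sup_of_disjoint hD (disjoint_of_coprime_natCard (by
      rw [h4, h.card_D]
      exact (((Nat.coprime_two_right.2 h.odd_q').mul_right h.cop_qs).pow_left 3).symm)).eq_bot, h4,
      h.card_D, mul_comm] at k1
    have k2 := card_mul_index 𝐍((P : Subgroup G))
    obtain ⟨m, hm⟩ := k1
    rw [hm, h3, mul_assoc] at k2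
    rw [P.card_eq_index_normalizer]
    exact Nat.le_of_dvd (Nat.succ_pos _) (Dvd.intro_left _ (Nat.eq_of_mul_eq_mul_left (by
      have := h.five_le; have := h.three_le; positivity) k2))
  have h6 : ¬ (P : Subgroup G) ≤ 𝐂[c.t] := fun e => by
    rw [(inf_eq_left.2 e).symm.trans (h.inf_ct P.isPGroup' hQ), h.cardQ] at h4
    have := h.five_le
    exact (Nat.pow_lt_pow_right (by omega) (by norm_num : 1 < 3)).ne ((pow_one _).trans h4)
  have h7 : c.u • P ≠ P := fun e => h6 (by rw [e, inf_idem] at h2; exact h2.le.trans bot_le)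
  refine ⟨P, hQ, ht, h6, h2, fun P' hP' => ?_⟩
  obtain ⟨x, e⟩ := (Function.Injective.bijective_of_nat_card_le
    (f := fun x : (P : Subgroup G) => (⟨(x : G) • c.u • P, fun e => h7 (by
      rw [(smul_eq_iff_eq_inv_smul _).1 e, Sylow.smul_eq_iff_mem_normalizer]
      exact le_normalizer (inv_mem x.2))⟩ : {Q : Sylow p G // Q ≠ P})) (fun x y e => by
      obtain ⟨n, hn⟩ := IsPGroup.iff_orderOf.1 P.isPGroup' (y⁻¹ * x)
      have k1 := (H4.sylow_smul_eq_iff_mem ((orderOf_coe _).trans hn) (c.u • P)).1 (by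
        rw [Subgroup.coe_mul, mul_smul, Subtype.mk.inj e, Subgroup.coe_inv, inv_smul_smul])
      exact (inv_mul_eq_one.1 (Subtype.ext (mem_bot.1 (h2 ▸ ⟨(y⁻¹ * x).2, k1⟩)))).symm) (by
      classical
      have := Fintype.ofFinite (Sylow p G)
      rw [h4, Nat.card_eq_fintype_card, Fintype.card_subtype_compl, Fintype.card_subtype_eq,
        ← Nat.card_eq_fintype_card]
      omega)).2 ⟨P', hP'⟩
  exact ⟨x, x.2, Subtype.mk.inj e⟩

theorem two_trans [Fact p.Prime] : MulAction.IsMultiplyPretransitive G (Sylow p G) 2 := by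
  obtain ⟨P, -, -, h1, h2, h3⟩ := h.exists_P0 hq hN
  have key : ∀ A B : Sylow p G, A ≠ B → ∃ g : G, g • P = A ∧ g • c.u • P = B := fun A B e => by
    obtain ⟨g, rfl⟩ := MulAction.exists_smul_eq G P A
    obtain ⟨x, hx, k⟩ := h3 (g⁻¹ • B) fun e' => e (by rw [← e', smul_inv_smul])
    exact ⟨g * x, by rw [mul_smul, Sylow.smul_eq_iff_mem_normalizer.2 (le_normalizer hx)],
      by rw [mul_smul, k, smul_inv_smul]⟩
  refine MulAction.is_two_pretransitive_iff.2 fun e e' => ?_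
  obtain ⟨g, rfl, rfl⟩ := key _ _ e
  obtain ⟨g', rfl, rfl⟩ := key _ _ e'
  exact ⟨g' * g⁻¹, by simp [mul_smul], by simp [mul_smul]⟩

theorem sylow_ti [Fact p.Prime] {A B : Sylow p G} (e : A ≠ B) : (A : Subgroup G) ⊓ B = ⊥ := by
  obtain ⟨P, -, -, h1, h2, -⟩ := h.exists_P0 hq hN
  obtain ⟨g, rfl, rfl⟩ := MulAction.is_two_pretransitive_iff.1 (h.two_trans hq hN)
    (fun e : P = c.u • P => h1 (by rw [← e, inf_idem] at h2; exact h2.le.trans bot_le)) e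
  rw [Sylow.coe_subgroup_smul, Sylow.coe_subgroup_smul (P := c.u • P), ← smul_inf, h2, smul_bot]

theorem exists_odd : ∃ y : G, orderOf y = p ∧ Odd (Nat.card 𝐂[y]) := by
  have := Fact.mk h.pp
  obtain ⟨P, hQ, ht, h1, -⟩ := h.exists_P0 hq hN
  have ho := odd_card_of_isPGroup h.pp h.p_ne_two P.isPGroup'
  obtain ⟨x, hx, x1, e⟩ := exists_inverted h.tt ho ht h1
  obtain ⟨y, hy, k⟩ := exists_ord h.pp P.isPGroup' hx x1
  have h2 := inverts_zpowers e y hy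
  replace hy := zpowers_le.2 hx hy
  have y1 : y ≠ 1 := by rintro rfl; exact h.pp.one_lt.ne (orderOf_one.symm.trans k)
  refine ⟨y, k, odd_card_of_forall fun a ha oa => y1 (eq_one_of_odd_of_mul_self
    (odd_orderOf_of_mem ho hy) (eq_inv_iff_mul_eq_one.1 (eq_inv_of_odd (z := c.t * a)
      (odd_of_mem_Od ((h.mem_Od ht (h.odd_norm hq P.isPGroup' hQ) ?_).resolve_left
        (notMem_Od oa))) ?_)))⟩
  · refine Sylow.smul_eq_iff_mem_normalizer.1 ?_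
    by_contra e'
    refine y1 (mem_bot.1 (h.sylow_ti hq hN e' ▸ ⟨?_, hy⟩))
    rw [← conj_eq_of_mem_cent1 ha]
    exact conj_mem_conj_iff.2 hy
  · rw [← h2, mul_inv_rev, mul_assoc c.t, mul_assoc c.t, ← mul_assoc _ _ c.t⁻¹,
      conj_eq_of_mem_cent1 ha, mul_assoc]

end GD

universe u

variable {G : Type u} [Group G] [Finite G] {t : G} {L : Subgroup G} {q : ℕ}

theorem Hyp.exists_ree (h : Hyp t L q) (h5 : q ≠ 5) : ∃ (q' r s : ℤ) (c : Cfg G), GD q' r s 3 c ∧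
    q' < 0 ∧ ((𝐂[c.t]).index : ℤ) = q' ^ 2 * (q' ^ 2 + q' + 1) ∧ q'.natAbs = q ∧ c.t = t ∧
      c.L = L := by
  have := Fintype.ofFinite G
  obtain ⟨q', r, s, p, c, h1, rfl, h2⟩ := h.exists_gd
  have := h1.r_mod
  have := h1.hq
  have := h1.rne
  obtain ⟨⟨n, -, h3⟩, h4⟩ := h1.big (by rw [Int.abs_eq_natAbs]; omega)
  obtain rfl : 3 = p := h1.eq_p Nat.prime_three (by
    rw [h3, Int.natAbs_neg, Int.natAbs_pow]; exact dvd_pow_self 3 (by omega))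
  exact ⟨q', r, s, c, h1, by rw [h3]; exact neg_neg_of_pos (by positivity), h4, rfl, h2⟩

/-- Ree case: `G` is doubly transitive on its Sylow `3`-subgroups. -/
theorem Hyp.two_trans (h : Hyp t L q) (h5 : q ≠ 5) :
    MulAction.IsMultiplyPretransitive G (Sylow 3 G) 2 := by
  have := Fintype.ofFinite G
  obtain ⟨_, _, _, _, h1, h2, h3, -⟩ := h.exists_ree h5
  exact h1.two_trans h2 h3

/-- Ree case: distinct Sylow `3`-subgroups meet trivially. -/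
theorem Hyp.sylow_ti (h : Hyp t L q) (h5 : q ≠ 5) (P Q : Sylow 3 G) (hPQ : P ≠ Q) :
    (P : Subgroup G) ⊓ Q = ⊥ := by
  have := Fintype.ofFinite G
  obtain ⟨_, _, _, _, h1, h2, h3, -⟩ := h.exists_ree h5
  exact h1.sylow_ti h2 h3 hPQ

/-- Ree case: there is an element of order `3` whose centralizer has odd order (the elements of
order `3` of `L` have centralizers of even order). -/
theorem Hyp.exists_three (h : Hyp t L q) (h5 : q ≠ 5) :
    ∃ y : G, orderOf y = 3 ∧ Odd (Nat.card (centralizer ({y} : Set G))) := by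
  have := Fintype.ofFinite G
  obtain ⟨_, _, _, _, h1, h2, h3, -⟩ := h.exists_ree h5
  exact h1.exists_odd h2 h3

end CfsgLib.JR
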