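import Cfsg.Agent.Lib.JR.BTr

/-!
# The case `3 ∤ |F|` and the main theorem: `F = 1`
-/

set_option autoImplicit false
set_option linter.unusedSimpArgs false
set_option linter.unusedSectionVars false
set_option linter.unusedVariables false

namespace CfsgLib.JR

open Subgroup Cfsg CfsgLib.FT CfsgLib.FT.BGN CfsgLib.FT.U4 CfsgLib.GW

variable {G : Type*} [Group G] [Fintype G] {q r s : ℤ} {c : Cfg G} {a b d f g j x y z φ : G}
  {B F H K N P U X Z : Subgroup G} {lam : G → ℂ}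

local instance : Fact (Nat.Prime 3) := ⟨Nat.prime_three⟩

theorem exists_relIndex_eq (h1 : X ≤ H) (h2 : X ≤ B) (h3 : ¬ H ≤ B)
    (h : ∀ g ∉ B, ∀ x ∈ X, g⁻¹ * x * g ∈ B → x = 1) :
    ∃ j, B.relIndex H = Nat.card X * (j + 1) + 1 := by
  have h4 := Frob.card_dvd_ncard_of_free (A := X) (MulAction.orbit H ((1 : G) : G ⧸ B) \ {↑(1 : G)})
    (fun x ω hω => ⟨by
      obtain ⟨g, e⟩ := hω.1
      exact ⟨⟨x, h1 x.2⟩ * g, by rw [← e]; exact mul_smul _ _ _⟩, fun e => hω.2 (by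
        rw [Set.mem_singleton_iff, smul_eq_iff_eq_inv_smul] at e
        rw [e]; exact QuotientGroup.eq.2 (by simpa using h2 x.2))⟩)
    fun ω hω x e => by
      obtain ⟨g, rfl⟩ := QuotientGroup.mk_surjective ω
      exact Subtype.ext (h g (fun k => hω.2 (QuotientGroup.eq.2 (by simpa using k))) x x.2
        (by simpa [mul_assoc] using QuotientGroup.eq.1 e.symm))
  rw [Set.ncard_sdiff_singleton_of_mem (MulAction.mem_orbit_self _),
    ← ClassCount.relIndex_eq_ncard_orbit] at h4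
  obtain ⟨j, e⟩ := h4
  have h5 : B.relIndex H ≠ 0 := index_ne_zero_of_finite
  have h6 := mt relIndex_eq_one.1 h3
  rcases j with _ | j
  · omega
  · exact ⟨j, by omega⟩

namespace GB

variable (h : GB q r s c F) (hU : MU c F U) (hK : KB c F U 𝐍(U) K) (hF : F ≠ ⊥) (hZ : ZB c U Z)
include h hU hK hF hZ

theorem mem_U (hx : x ∈ 𝐍(U)) (hP : IsPGroup 3 (zpowers x)) : x ∈ U :=
  h.mem_U_of_N hU hK (mem_of_cop (sup_le le_normalizer (h.F_N hU hK)) (h.B_eq hU hK ▸ hx)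
    (cop_of_pgroup Nat.prime_three hP (mem_zpowers x) fun e =>
      h.not_three hU hK hF hZ (e.trans (relIndex_sup_dvd (h.F_N hU hK)).1))) hP

theorem ti_B (hg : g ∉ 𝐍(U)) (hx : x ∈ U) (e : g⁻¹ * x * g ∈ 𝐍(U)) : x = 1 := by
  by_contra x1
  rw [← inv_inv g, inv_inv g⁻¹] at e
  exact hg (inv_mem_iff.1 (h.ti_U hU hK hF hZ hx x1 (h.mem_U hU hK hF hZ e
    (zpowers_conj g⁻¹ x ▸ (hU.pU.to_le (zpowers_le.2 hx)).map _))))

theorem u_notMem : c.u ∉ 𝐍(U) := fun e =>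
  hK.four (h.four_tu.card_V ▸ card_dvd_of_le (V_le hU.tU e))

theorem card_K : Nat.card K = q.natAbs ^ 3 := by
  obtain ⟨f, hf, hk, -⟩ := h.exists_f hF
  have := Fact.mk hk
  obtain ⟨m, j, m1, m2, -, m3, -⟩ := h.fix' hf hk
  obtain ⟨d, hd, d1, dF⟩ := h.dQ
  have FH : F ≤ 𝐂[f] := fun φ hφ => mem_cent1.2 (h.commF hφ hf)
  have h1 : IsSylowIn 3 (U ⊓ 𝐂[f]) 𝐂[f] := IsSylowIn.of_maximal inf_le_right hU.pU.to_inf_left
    fun Y k1 k2 k3 => by
      obtain ⟨P, hP⟩ := IsSylowIn.exists_in (p := 3) 𝐍(U)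
      obtain ⟨g, -, e⟩ := (h.sylow_B hU hK hF hZ hP).2.2.exists_conj_le k1 le_top
      have k4 : g •ᶜ Y ≤ U := fun x hx => h.mem_U hU hK hF hZ (hP.le (e hx))
        (hP.isPGroup.to_le (zpowers_le.2 (e hx)))
      have k5 := h.ti_U hU hK hF hZ (hU.QU hd) d1
        (k4 (conj_mem_conj_iff.2 (k2 ⟨hU.QU hd, U4.cent_le_cent1 hf dF⟩)))
      exact le_inf (fun x hx => by
        simpa [mul_assoc] using norm_mem' k5 (k4 (conj_mem_conj_iff.2 hx))) k3
  have h2 : (m + 1) ^ 3 ∣ Nat.card ↥(U ⊓ 𝐂[f]) := by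
    refine Nat.Coprime.dvd_of_dvd_mul_right (m1 ▸ ((Nat.prime_three.coprime_iff_not_dvd.2
      h1.not_dvd).pow_left _).pow_left _) ?_
    rw [card_mul_relIndex h1.le, m3]
    exact ((dvd_mul_right _ _).mul_right _).mul_left _
  obtain ⟨i, h3⟩ := exists_relIndex_eq (X := U ⊓ 𝐂[f]) inf_le_right (inf_le_left.trans le_normalizer)
    (fun e => h.u_notMem hU hK hF hZ (e (mem_cent1_comm.1 (h.F_le h.u_S hf))))
    fun g hg x hx => h.ti_B hU hK hF hZ hg hx.1
  have h4 := card_mul_relIndex (inf_le_right : 𝐍(U) ⊓ 𝐂[f] ≤ _)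
  have h5 := card_mul_relIndex (show K ⊓ 𝐂[f] ⊔ F ≤ 𝐍(U) ⊓ 𝐂[f] from sup_le
    (inf_le_inf_right _ (hK.le.trans (Od_le _))) (le_inf hU.FU FH))
  rw [card_sup' (fun φ hφ => mem_norm_of fun x hx => mem_inf.2 ⟨norm_mem (hK.norm (hU.FU hφ)) hx.1,
    cmem (FH hφ) hx.2⟩) (le_bot_iff.1 ((inf_le_inf_right _ (inf_le_left.trans le_sup_left)).trans
    (h.NF_bot hU hK).le))] at h5
  obtain ⟨e, h6⟩ := h2
  obtain ⟨a, h7⟩ := (Dvd.intro _ h6.symm).trans
    (card_dvd_of_le (inf_le_inf_right 𝐂[f] hK.UK))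
  rw [inf_relIndex_right, h3, ← h5, h6, h7, m3] at h4
  generalize (K ⊓ 𝐂[f] ⊔ F).relIndex (𝐍(U) ⊓ 𝐂[f]) = w at h4
  have h8 : a * w * ((m + 1) ^ 3 * e * (i + 1) + 1) = (m + 1) ^ 3 * m + m :=
    Nat.eq_of_mul_eq_mul_left (Nat.mul_pos (Nat.card_pos (α := F)) (by positivity : 0 < (m + 1) ^ 3))
      (by linear_combination h4)
  have e0 : 0 < e := Nat.pos_of_ne_zero fun k => (Nat.card_pos (α := ↥(U ⊓ 𝐂[f]))).ne' (by rw [h6, k, mul_zero])
  have h9 : a * w = m := by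
    have k1 : m < (m + 1) ^ 3 := (Nat.lt_succ_self m).trans_le (Nat.le_self_pow (by norm_num) _)
    generalize (m + 1) ^ 3 = n at *
    generalize a * w = v at *
    have k2 : v ≤ m := Nat.le_of_mul_le_mul_right (c := n + 1) (by
      calc _ ≤ v * (n * (e * (i + 1)) + 1) := by
            gcongr; exact Nat.le_mul_of_pos_right _ (by positivity)
        _ = _ := by rw [← mul_assoc n, h8]; ring) n.succ_pos
    have k3 := congrArg (· % n) h8
    simp only [show v * (n * e * (i + 1) + 1) = n * (v * e * (i + 1)) + v by ring,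
      Nat.mul_add_mod] at k3
    rwa [Nat.mod_eq_of_lt k1, Nat.mod_eq_of_lt (k2.trans_lt k1)] at k3
  have k1 : a ∣ Nat.card K := (Dvd.intro_left _ h7.symm).trans (card_dvd_of_le inf_le_left)
  have k2 : a = 1 := Nat.eq_one_of_dvd_coprimes (Nat.Coprime.mul_right (Nat.coprime_two_right.2
    (GW.odd_card_of_le (odd_Od _) hK.le)) (h.cardT ▸ hK.cop)) k1 ((Dvd.intro _ h9).trans (by
      have := Nat.sub_one_dvd_pow_sub_one (m + 1) (orderOf f)
      rwa [m2, h.qs] at this))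
  rw [k2, mul_one] at h7
  have k3 : (orderOf f).Coprime (Nat.card K) := hk.coprime_iff_not_dvd.2 fun e => by
    have := (H1.card_modEq_card_inf_centralizer_elem (isPGroup_zpowers rfl)
      (hK.norm (hU.FU hf))).dvd_iff dvd_rfl |>.1 e
    rw [h7, m1, ← pow_mul] at this
    exact h.not_three hU hK hF hZ (((Nat.prime_dvd_prime_iff_eq hk Nat.prime_three).1
      (hk.dvd_of_dvd_pow this)) ▸ orderOf_dvd_natCard _ hf)
  have fT := zpowers_le.2 (h.FT hf)
  have k4 := Cop.commutator_inf_centralizer_eq_bot fT (by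
    rw [Nat.card_zpowers, h.cardT]; exact h.cop_Fs.coprime_dvd_left (orderOf_dvd_natCard _ hf))
    (le_centralizer_iff_isMulCommutative.1 (le_cent_of_isCyclic h.cycT))
  have k5 := U4.comm_le_left fT
  obtain ⟨y, hy, y1⟩ := exists_ne_one (H := ⁅c.T, zpowers f⁆) fun e => ne_one_of_prime hk
    (h.faithT hf (le_centralizer_iff.1 (commutator_eq_bot_iff_le_centralizer.1 e) (mem_zpowers f)))
  have k6 : ∀ Y, ⁅c.T, zpowers f⁆ ≤ Y → Nat.card ↥(K ⊓ 𝐂(Y)) = 1 := fun Y e => card_eq_one.2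
    (le_bot_iff.1 (hK.reg y (k5 hy) y1 ▸ inf_le_inf_left _ (U4.cent_le_cent1 (e hy))))
  have k7 := Frobenius_Wielandt_fixpoint (normalizer_commutator_ge_right c.T (zpowers f))
    (fun x hx x1 => le_bot_iff.1 (k4 ▸ inf_le_inf_left _ (U4.cent_zpowers f ▸
      cent1_le_cent1 (mem_zpowers_of_prime hk hx x1)))) ((k5.trans hU.TU).trans hK.norm)
    (zpowers_le.2 (hK.norm (hU.FU hf))) (by have := hK.nil; infer_instance)
    (hK.cop.symm.coprime_dvd_left (card_dvd_of_le k5)) (by rwa [Nat.card_zpowers])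
  rwa [k6 _ le_sup_left, k6 _ le_rfl, one_pow, one_mul, mul_one, U4.cent_zpowers, h7,
    Nat.card_zpowers, pow_right_comm, m2] at k7

theorem card_U : Nat.card U = q.natAbs ^ 3 := by
  obtain ⟨n, hn⟩ := h.qp
  have h1 := h.card_K hU hK hF hZ
  rwa [le_antisymm hK.UK fun x hx => hK.mem_U hx ((IsPGroup.of_card (n := n * 3)
    (by rw [h1, hn, pow_mul])).to_le (zpowers_le.2 hx))]

theorem real_mem (hg : g ∈ 𝐍(U)) (e : j * g * j⁻¹ = g⁻¹) : g ∈ K ⊔ c.D := by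
  refine le_of_forall_primePow_mem (fun x hx p k hp ox => ?_) (mem_zpowers g)
  have := Fact.mk hp
  have h1 := zpowers_le.2 hg hx
  rw [h.B_eq hU hK] at h1
  have h2 := isPGroup_zpowers_iff.2 ⟨k, ox⟩
  by_cases hd : p ∣ Nat.card F
  · obtain ⟨z, -, k1⟩ := exists_conj_mem_of_hall hp le_sup_right (fun k1 => by
      have k2 := k1.trans (relIndex_sup_dvd (h.F_N hU hK)).2
      rw [sup_comm] at k2
      replace k2 := k2.trans (card_sup_dvd_mul (hU.DU.trans hK.norm))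
      obtain ⟨n, hn⟩ := h.qp
      rw [h.card_D, h.card_K hU hK hF hZ, hn, ← pow_mul] at k2
      simp only [hp.dvd_mul] at k2
      rcases k2 with (k2 | k2) | k2
      · exact hp.coprime_iff_not_dvd.1 ((Nat.coprime_two_right.2 h.oddF).coprime_dvd_left hd) k2
      · exact hp.coprime_iff_not_dvd.1 (h.cop_Fs.coprime_dvd_left hd) k2
      · exact h.not_three hU hK hF hZ (((Nat.prime_dvd_prime_iff_eq hp Nat.prime_three).1
          (hp.dvd_of_dvd_pow k2)) ▸ hd)) h2 (zpowers_le.2 h1)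
    replace k1 := k1 (conj_mem_conj_iff.2 (mem_zpowers x))
    have k2 : z * j * z⁻¹ * (z * x * z⁻¹) * (z * j * z⁻¹)⁻¹ = (z * x * z⁻¹)⁻¹ := by
      rw [conj_inv (a := x), ← inverts_zpowers e x hx]; group
    have k3 := eq_one_of_odd_of_mul_self (h.ordF k1) (eq_inv_iff_mul_eq_one.1
      ((h.eq_of_conj k1 (k2 ▸ inv_mem k1)).symm.trans k2))
    exact conj_eq_one_iff.1 k3 ▸ one_mem _
  · exact mem_of_cop (sup_le le_normalizer (h.F_N hU hK)) h1 (cop_of_pgroup hp h2 (mem_zpowers x)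
      fun e => hd (e.trans (relIndex_sup_dvd (h.F_N hU hK)).1))

theorem count : ((𝐂[c.t]).index - (𝐂[c.t]).relIndex 𝐍(U)) * (Nat.card U * Nat.card F) +
    Nat.card 𝐍(U) ≤ Nat.card G := by
  set I := {y : G | ∃ x ∈ (⊤ : Subgroup G), x * c.t * x⁻¹ = y}
  set J := {y : G | ∃ x ∈ 𝐍(U), x * c.t * x⁻¹ = y}
  have h0 : ∀ y ∈ I, orderOf y = 2 := by rintro _ ⟨x, -, rfl⟩; rw [U4.orderOf_conj, h.ot]
  have h1 : ∀ y ∈ I \ J, y ∉ 𝐍(U) := fun y hy e =>
    hy.2 (GF.conj_of_not_four h.ot hU.tU (h0 y hy.1) e hK.four)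
  have h2 : Function.Injective fun p : ↥(I \ J) × U × F => (p.1 * (p.2.1 * p.2.2) : G) :=
    fun ⟨⟨i, hi⟩, ⟨x, hx⟩, ⟨φ, hφ⟩⟩ ⟨⟨j, hj⟩, ⟨y, hy⟩, ⟨ψ, hψ⟩⟩ e => by
      replace e : i * (x * φ) = j * (y * ψ) := e
      have ii := mul_self_of_inv (h0 i hi.1)
      have jj := mul_self_of_inv (h0 j hj.1)
      have k1 : i * j = x * (φ * ψ⁻¹) * y⁻¹ := by
        calc _ = i * (j * (y * ψ)) * ψ⁻¹ * y⁻¹ := by group
          _ = i * i * (x * (φ * ψ⁻¹) * y⁻¹) := by rw [← e]; group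
          _ = _ := by rw [ii, one_mul]
      have k2 : i * (i * j) * i⁻¹ = (i * j)⁻¹ := by
        rw [← mul_assoc, ii, one_mul, mul_inv_rev, inv_eq_of_mul_eq_one_right jj]
      have UN := hK.UK.trans (le_sup_left (b := c.D))
      have k3 := h.real_mem hU hK hF hZ (k1 ▸ mul_mem (mul_mem (le_normalizer hx)
        (hU.FU (mul_mem hφ (inv_mem hψ)))) (le_normalizer (inv_mem hy))) k2
      rw [k1, mul_mem_cancel_right (UN (inv_mem hy)), mul_mem_cancel_left (UN hx)] at k3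
      obtain rfl := mul_inv_eq_one.1 (eq_one_of_mem_inf (h.NF_bot hU hK) k3 (mul_mem hφ (inv_mem hψ)))
      rw [mul_inv_cancel, mul_one] at k1
      have k4 : x * y⁻¹ = 1 := by
        by_contra k
        exact h1 i hi (h.ti_U hU hK hF hZ (mul_mem hx (inv_mem hy)) k (by
          rw [← k1, k2, k1]; exact inv_mem (mul_mem hx (inv_mem hy))))
      obtain rfl := mul_inv_eq_one.1 k4
      obtain rfl := mul_right_cancel e
      rfl
  have h3 := Set.ncard_le_ncard (s := Set.range fun p : ↥(I \ J) × U × F => (p.1 * (p.2.1 * p.2.2) : G))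
    (t := (𝐍(U) : Set G)ᶜ) (by
      rintro _ ⟨⟨i, x, φ⟩, rfl⟩ e
      exact h1 i i.2 ((mul_mem_cancel_right (mul_mem (le_normalizer x.2) (hU.FU φ.2))).1 e))
  have h4 := Set.ncard_add_ncard_compl (𝐍(U) : Set G)
  rw [← Nat.card_coe_set_eq, SetLike.coe_sort_coe] at h4
  rw [Set.ncard_range_of_injective h2, Nat.card_prod, Nat.card_prod, Nat.card_coe_set_eq,
    Set.ncard_sdiff (show J ⊆ I from fun y ⟨x, _, e⟩ => ⟨x, mem_top x, e⟩), Frob.ncard_conj_subgroup,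
    Frob.ncard_conj_subgroup, relIndex_top_right] at h3
  omega

theorem card_G : Nat.card G = Nat.card 𝐍(U) * (Nat.card U + 1) := by
  obtain ⟨j, h1⟩ := exists_relIndex_eq (X := U) le_top le_normalizer
    (fun e => h.u_notMem hU hK hF hZ (e (mem_top _))) fun g hg x hx => h.ti_B hU hK hF hZ hg hx
  have h2 := h.count hU hK hF hZ
  have h3 := (𝐂[c.t]).card_mul_index
  have h4 := (𝐍(U)).card_mul_index
  have h5 := card_mul_relIndex (inf_le_right : 𝐂[c.t] ⊓ 𝐍(U) ≤ _)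
  have hL : c.Q ⊔ c.T ⊔ F ≤ c.L ⊔ F := sup_le_sup_right (sup_le h.QL h.TL) _
  have h6 := card_le_of_le (show c.Q ⊔ c.T ⊔ F ⊔ zpowers c.t ≤ 𝐂[c.t] ⊓ 𝐍(U) from le_inf
    (sup_le (hL.trans h.E_le) (zpowers_le_cent1 _)) (sup_le (sup_le (sup_le
      (hU.QU.trans le_normalizer) hU.TU) hU.FU) (zpowers_le.2 hU.tU)))
  rw [card_sup_inv h.tt (mem_norm_of_comm fun x hx => mem_cent1.1 (h.E_le (hL hx)))
    fun e => h.tE (hL e), card_sup' h.QT_norm (le_bot_iff.1 ((inf_le_inf_right _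
      (sup_le h.QL h.TL)).trans h.inf_LF.le)), h.card_QT h.hq0] at h6
  rw [relIndex_top_right] at h1
  rw [inf_relIndex_right] at h5
  rw [h.card_ct] at h3
  rcases j with _ | j
  · rw [← h4, h1, zero_add, mul_one]
  exfalso
  have h7 := h.qs
  have h8 := h.qr
  have h9 : 0 < (𝐂[c.t]).relIndex 𝐍(U) := Nat.pos_of_ne_zero index_ne_zero_of_finite
  have h10 : 0 < Nat.card F := Nat.card_pos
  have h11 := h.three_le
  rw [h1, ← h5, ← h3] at h4
  rw [← h5, ← h3] at h2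
  rw [h.card_U hU hK hF hZ] at h2 h4
  generalize (𝐂[c.t]).relIndex 𝐍(U) = b at *
  generalize (𝐂[c.t]).index = a at *
  generalize Nat.card ↥(𝐂[c.t] ⊓ 𝐍(U)) = z at *
  generalize Nat.card F = m at *
  generalize q.natAbs = q at *
  generalize r.natAbs = r at *
  generalize s.natAbs = s at *
  have k0 : 0 < q * m := Nat.mul_pos (by omega) h10
  have k1 : b * (q ^ 3 * 2 + 1) ≤ (q + 1) * a := Nat.le_of_mul_le_mul_left (c := 2 * (q * s * m)) (by
    have : 2 * (q * s * m) * (b * (q ^ 3 * 2 + 1)) ≤ z * (b * (q ^ 3 * (j + 1 + 1) + 1)) := by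
      gcongr; exact Nat.le_add_left 2 j
    rw [← mul_assoc z, h4] at this
    rw [h8]; linarith) (by have : 0 < q := by omega
                           have : 0 < s := by omega
                           positivity)
  have k2 : (a - b) * q ^ 2 + 2 * s * b ≤ 2 * s * (q + 1) * a := Nat.le_of_mul_le_mul_left (by
    rw [h8]; nlinarith [Nat.mul_le_mul_right b h6]) k0
  obtain rfl : q = 2 * s + 1 := h7
  rcases le_total a b with e | e
  · nlinarith [Nat.zero_le (b * s ^ 3), Nat.zero_le (b * s ^ 2), Nat.zero_le (b * s)]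
  · obtain ⟨a, rfl⟩ := Nat.exists_eq_add_of_le e
    rw [Nat.add_sub_cancel_left] at k2
    nlinarith [Nat.zero_le (b * s ^ 3), Nat.zero_le (b * s ^ 2), Nat.zero_le (b * s)]

theorem false : False := by
  have := h.simpleG
  obtain ⟨lam, hl⟩ := h.exists_lam hU hK
  obtain ⟨k, hk, m, hm⟩ := U4.exists_prime_dvd_card hF
  obtain ⟨-, n, on, hn⟩ := h.exists_n
  have m0 : m ≠ 0 := fun e => (Nat.card_pos (α := F)).ne' (by simp [hm, e])
  have ui : c.u⁻¹ = c.u := inv_eq_of_mul_eq_one_right h.uu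
  have hu := h.u_notMem hU hK hF hZ
  have h1 : HK 𝐍(U) U c.u fun g => lam g ^ m := ⟨le_normalizer, le_rfl, h.uu, hu,
    h.card_G hU hK hF hZ, fun x hx e => h.ti_B hU hK hF hZ hu hx (by rwa [ui]),
    fun a ha b hb => by rw [hl.mul a ha b hb, mul_pow],
    fun x hx => by rw [(hl.ker x).2 (mem_sup_left (hK.UK hx)), one_pow],
    fun g hg => by rw [hl.zero g hg, zero_pow m0], fun b hb e => by
      rw [← hl.eq_of (h.real_mem hU hK hF hZ (j := c.u) (mul_mem e (inv_mem hb))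
        (by simp [ui, mul_assoc, ← mul_assoc c.u c.u, h.uu])) hb, inv_mul_cancel_right]⟩
  obtain ⟨φ, rfl⟩ := exists_zpowers_eq h.cycF
  have hφ := mem_zpowers φ
  have h2 := h1.eq_one' (by rw [h.card_U hU hK hF hZ, hn]) (hn ▸ h.qs) on.pos.ne' hk
    (fun e => Nat.not_even_iff_odd.2 h.oddF (even_iff_two_dvd.2 ⟨m, e ▸ hm⟩))
    (fun e => h.not_three hU hK hF hZ ⟨m, e ▸ hm⟩) (by
      have := Fact.mk hk
      refine hn ▸ (mul_eq_zero.1 (h.key_mod hk ⟨m, hm⟩)).resolve_left fun e => ?_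
      rw [pow_eq_zero_iff two_ne_zero, ZMod.natCast_eq_zero_iff] at e
      exact h.not_three hU hK hF hZ ⟨m, h.eq_p hk e ▸ hm⟩)
    (Complex.isPrimitiveRoot_exp k hk.ne_zero) (fun b hb => by
      obtain ⟨x, hx, ψ, hψ, rfl⟩ := (mem_sup_iff_of_le_normalizer' (h.F_N hU hK)).1 (h.B_eq hU hK ▸ hb)
      rw [hl.eq_of hx (hU.FU hψ), ← pow_mul, mul_comm, ← hm, ← hl.pow (hU.FU hψ),
        orderOf_dvd_iff_pow_eq_one.1 (orderOf_dvd_natCard _ hψ), hl.one])
    h.cardT hU.TU h.uT (fun y hy => by rw [(hl.ker y).2 (mem_sup_right (mem_sup_left hy)), one_pow])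
    (fun y hy y1 => h.U_reg hF hU hy y1) (hU.FU hφ)
  have h3 := orderOf_dvd_of_pow_eq_one (eq_one_of_mem_inf (h.NF_bot hU hK)
    ((hl.ker _).1 ((hl.pow (hU.FU hφ) m).trans h2)) (pow_mem hφ m))
  rw [← Nat.card_zpowers, hm] at h3
  have := Nat.le_of_dvd (Nat.pos_of_ne_zero m0) h3
  nlinarith [hk.two_le, Nat.pos_of_ne_zero m0]

end GB

/-- **There are no field automorphisms in a simple group of Ree type.** -/
theorem GF.eq_bot {G : Type*} [Group G] [Finite G] {q r s : ℤ} {c : Cfg G} {F : Subgroup G}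
    (h : GF q r s c F) : F = ⊥ := by
  by_contra hF
  have := Fintype.ofFinite G
  obtain ⟨c', h'⟩ := h.exists_gb
  obtain ⟨U, hU⟩ := h'.exists_MU
  obtain ⟨K, hK⟩ := h'.exists_K hF hU
  obtain ⟨Z, hZ⟩ := h'.exists_Z hU hK hF
  exact h'.false hU hK hF hZ

end CfsgLib.JR
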