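import Cfsg.Agent.Lib.JR.Ree

/-!
# Groups of Ree type with field automorphisms in the centralizer of an involution
-/

set_option autoImplicit false
set_option linter.unusedSimpArgs false
set_option linter.unusedSectionVars false

namespace CfsgLib.JR

open Subgroup Cfsg CfsgLib.FT CfsgLib.FT.BGN CfsgLib.FT.U4 CfsgLib.GW

variable {G : Type*} [Group G]

/-- `C(t) = ⟨t⟩ × L F` with `L ≅ PSL₂(q)`, `q` a power of `3`, and `F` a cyclic group of odd order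
centralizing the Sylow `2`-subgroup `S`; the orders of the centralizers of the elements of prime
order of `F` are known. -/
structure GF (q r s : ℤ) (c : Cfg G) (F : Subgroup G) : Prop extends LD q r s 3 c where
  ot : orderOf c.t = 2
  comm : ∀ x ∈ c.L, x * c.t = c.t * x
  tL : c.t ∉ c.L
  oddF : Odd (Nat.card F)
  cycF : IsCyclic F
  FS : F ≤ 𝐂(c.S)
  FL : F ≤ 𝐍(c.L)
  faith : F ⊓ 𝐂(c.L) = ⊥
  cent : ∀ g : G, g * c.t = c.t * g → g ∈ c.L ⊔ F ∨ c.t * g ∈ c.L ⊔ F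
  odd : Odd (𝐂[c.t]).index
  simpleG : IsSimpleGroup G
  fix : ∀ f ∈ F, (orderOf f).Prime → ∃ q0 : ℕ, q0 ^ orderOf f = q.natAbs ∧
    2 * Nat.card ↥(c.L ⊓ 𝐂[f]) = q0 * (q0 ^ 2 - 1) ∧
    Nat.card 𝐂[f] = Nat.card F * (q0 ^ 3 * (q0 ^ 3 + 1) * (q0 - 1)) ∧
    orderOf f ∣ q0 ^ 2 * (q0 ^ 2 - q0 + 1)

end CfsgLib.JR
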