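import Cfsg.Agent.Lib.JR.Defs
import Cfsg.Agent.Lib.H5SL2Tori
import Cfsg.Agent.Lib.SL2Card

/-!
# `PSL₂(q)` has the local data `LD`
-/

set_option autoImplicit false

namespace CfsgLib.JR

open Subgroup Cfsg CfsgLib.FT CfsgLib.FT.BGN CfsgLib.FT.U4 CfsgLib.GW CfsgLib.H1 CfsgLib.H5
open Matrix MatrixGroups Polynomial

variable {F : Type*} [Field F]

/-- The projection. -/
abbrev pr (F : Type*) [Field F] : SL(2, F) →* PSL(2, F) := QuotientGroup.mk' (center SL(2, F))

theorem pr_surj : Function.Surjective (pr F) := QuotientGroup.mk'_surjective _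

theorem pr_eq_one {x : SL(2, F)} : pr F x = 1 ↔ x ∈ center SL(2, F) :=
  QuotientGroup.eq_one_iff x

theorem pr_neg (x : SL(2, F)) : pr F (-x) = pr F x := by
  rw [← neg_one_mul, map_mul, pr_eq_one.2 (SL2_mem_center_iff'.2 (Or.inr rfl)), one_mul]

theorem pr_eq {x y : SL(2, F)} (h : pr F x = pr F y) : x = y ∨ x = -y := by
  have : pr F (x * y⁻¹) = 1 := by rw [map_mul, map_inv, h, mul_inv_cancel]
  rcases SL2_mem_center_iff'.1 (pr_eq_one.1 this) with e | e
  · exact Or.inl (mul_inv_eq_one.1 e)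
  · right; rw [mul_inv_eq_iff_eq_mul] at e; rw [e, neg_one_mul]

theorem neg_apply' (x : SL(2, F)) (i j : Fin 2) : (-x) i j = -x i j := by simp

theorem card_map_pr [Finite F] (h2 : (2 : F) ≠ 0) {H : Subgroup SL(2, F)}
    (hZ : center SL(2, F) ≤ H) : Nat.card H = 2 * Nat.card (H.map (pr F)) := by
  have h1 := card_mul_index ((center SL(2, F)).subgroupOf H)
  rw [Nat.card_congr (subgroupOfEquivOfLe hZ).toEquiv, SL2C.card_center_SL2 h2] at h1
  rw [← relIndex_ker, QuotientGroup.ker_mk', relIndex, h1]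

theorem comm_of_cent {x y z : SL(2, F)} (hx : x ∉ center SL(2, F)) (hy : x * y = y * x)
    (hz : x * z = z * x) : y * z = z * y := by
  obtain ⟨a, b, h1, h2, h3, h4⟩ := SL2_exists_lin hx hy
  obtain ⟨c, d, h5, h6, h7, h8⟩ := SL2_exists_lin hx hz
  apply SL2_ext <;> simp only [SL2_mul_apply, h1, h2, h3, h4, h5, h6, h7, h8] <;> ring

theorem inv_of_cent {g x z : SL(2, F)} (hx : x ∉ center SL(2, F)) (h : g * x * g⁻¹ = x⁻¹)
    (hz : x * z = z * x) : g * z * g⁻¹ = z⁻¹ := by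
  obtain ⟨a, b, h1, h2, h3, h4⟩ := SL2_exists_lin hx hz
  rw [mul_inv_eq_iff_eq_mul] at h ⊢
  have e := fun i j => congrArg (fun m : SL(2, F) => m i j) h
  have e1 := e 0 0; have e2 := e 0 1; have e3 := e 1 0; have e4 := e 1 1
  simp only [SL2_mul_apply, SL2_inv_00, SL2_inv_01, SL2_inv_10, SL2_inv_11] at e1 e2 e3 e4
  apply SL2_ext <;>
    simp only [SL2_mul_apply, SL2_inv_00, SL2_inv_01, SL2_inv_10, SL2_inv_11, h1, h2, h3, h4]
  · linear_combination b * e1
  · linear_combination b * e2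
  · linear_combination b * e3
  · linear_combination b * e4

theorem exists_inverting [Fintype F] (hF : Fintype.card F % 2 = 1) (h2 : (2 : F) ≠ 0)
    {x : SL(2, F)} (hx : (x 0 0 + x 1 1) ^ 2 ≠ 4) :
    ∃ g : SL(2, F), g 0 0 + g 1 1 = 0 ∧ g * x * g⁻¹ = x⁻¹ := by
  have hd := SL2_det x
  have key : ∀ a b c : F, -a * a - b * c = 1 → a * (x 0 0 - x 1 1) + b * x 1 0 + c * x 0 1 = 0 →
      ∃ g : SL(2, F), g 0 0 + g 1 1 = 0 ∧ g * x * g⁻¹ = x⁻¹ := by
    intro a b c h1 h3
    let g : SL(2, F) := ⟨!![a, b; c, -a], by rw [det_fin_two_of]; linear_combination h1⟩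
    refine ⟨g, by simp [g], ?_⟩
    rw [mul_inv_eq_iff_eq_mul]
    apply SL2_ext <;>
      simp only [SL2_mul_apply, SL2_inv_00, SL2_inv_01, SL2_inv_10, SL2_inv_11] <;> simp [g]
    · linear_combination h3
    · ring
    · ring
    · linear_combination h3
  have hD : (4 - (x 0 0 + x 1 1) ^ 2) ≠ 0 := fun e => hx (by linear_combination -e)
  have quad : ∀ e : F, ∃ X Y : F, X ^ 2 + (4 - (x 0 0 + x 1 1) ^ 2) * Y ^ 2 + e = 0 := by
    intro e
    obtain ⟨X, Y, h⟩ := FiniteField.exists_root_sum_quadratic (R := F)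
      (f := C 1 * X ^ 2 + C 0 * X + C 0) (g := C (4 - (x 0 0 + x 1 1) ^ 2) * X ^ 2 + C 0 * X + C e)
      (degree_quadratic one_ne_zero) (degree_quadratic hD) hF
    refine ⟨X, Y, ?_⟩
    simp only [eval_add, eval_mul, eval_C, eval_pow, eval_X] at h
    linear_combination h
  by_cases hb : x 0 1 = 0
  · by_cases hc : x 1 0 = 0
    · exact key 0 1 (-1) (by ring) (by simp [hb, hc])
    · obtain ⟨X, Y, h⟩ := quad (4 * x 1 0 ^ 2)
      refine key ((X + (x 0 0 - x 1 1) * Y) / (2 * x 1 0))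
        (-((X + (x 0 0 - x 1 1) * Y) / (2 * x 1 0) * (x 0 0 - x 1 1) + Y * x 0 1) / x 1 0) Y ?_ ?_
      · field_simp
        linear_combination -h - 4 * Y ^ 2 * hd
      · field_simp; ring
  · obtain ⟨X, Y, h⟩ := quad (4 * x 0 1 ^ 2)
    refine key ((X + (x 0 0 - x 1 1) * Y) / (2 * x 0 1)) Y
      (-((X + (x 0 0 - x 1 1) * Y) / (2 * x 0 1) * (x 0 0 - x 1 1) + Y * x 1 0) / x 0 1) ?_ ?_
    · field_simp
      linear_combination -h - 4 * Y ^ 2 * hd
    · field_simp; ring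

theorem sq_of_trace {g : SL(2, F)} (h : g 0 0 + g 1 1 = 0) : g * g = -1 := by
  have hd := SL2_det g
  apply SL2_ext <;> simp only [SL2_mul_apply, neg_apply'] <;> simp
  · linear_combination g 0 0 * h - hd
  · linear_combination g 0 1 * h
  · linear_combination g 1 0 * h
  · linear_combination g 1 1 * h - hd

theorem neg_one_ne (h2 : (2 : F) ≠ 0) : (-1 : SL(2, F)) ≠ 1 := fun e => by
  have := congrArg (fun m : SL(2, F) => m 0 0) e
  simp only [neg_apply'] at this
  simp at this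
  exact h2 (by linear_combination -this)

theorem four_ne (h2 : (2 : F) ≠ 0) : (4 : F) ≠ 0 := by
  rw [show (4 : F) = 2 * 2 by norm_num]; exact mul_ne_zero h2 h2

theorem trace_sq_of_zero (h2 : (2 : F) ≠ 0) {g : SL(2, F)} (h : g 0 0 + g 1 1 = 0) :
    (g 0 0 + g 1 1) ^ 2 ≠ 4 := by
  rw [h]; intro e; exact four_ne h2 (by linear_combination -e)

theorem orderOf_pr_of_trace (h2 : (2 : F) ≠ 0) {g : SL(2, F)} (h : g 0 0 + g 1 1 = 0) :
    orderOf (pr F g) = 2 := by
  refine inv_of_mul_self ?_ fun e => SL2_not_mem_center_of_trace (trace_sq_of_zero h2 h)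
    (pr_eq_one.1 e)
  rw [← map_mul, sq_of_trace h, pr_neg, map_one]

theorem orderOf_of_trace (h2 : (2 : F) ≠ 0) {g : SL(2, F)} (h : g 0 0 + g 1 1 = 0) :
    orderOf g = 4 := by
  have := orderOf_eq_prime_pow (p := 2) (n := 1) (x := g)
    (by rw [pow_one, sq, sq_of_trace h]; exact neg_one_ne h2)
    (by rw [show 2 ^ (1 + 1) = 2 * 2 by norm_num, pow_mul, sq g, sq_of_trace h]; simp)
  simpa using this

/-- A lift of an element commuting with an element of odd order. -/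
theorem comm_of_pr (h2 : (2 : F) ≠ 0) {g z : SL(2, F)} (ho : orderOf (pr F z) ≠ 2)
    (h : pr F g * pr F z = pr F z * pr F g) : g * z = z * g := by
  rw [← map_mul, ← map_mul] at h
  refine (pr_eq h).resolve_right fun e => ho (orderOf_pr_of_trace h2 ?_)
  have e1 : g * z * g⁻¹ = -z := by rw [e, neg_mul, mul_inv_cancel_right]
  have := SL2_trace_conj g z
  rw [e1, neg_apply', neg_apply'] at this
  have h3 : 2 * (z 0 0 + z 1 1) = 0 := by linear_combination -this
  exact (mul_eq_zero.1 h3).resolve_left h2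

/-- The upper unitriangular group. -/
def uni (F : Type*) [Field F] : Subgroup SL(2, F) where
  carrier := {x | x 1 0 = 0 ∧ x 0 0 = 1 ∧ x 1 1 = 1}
  one_mem' := by simp
  mul_mem' := by
    rintro a b ⟨h1, h2, h3⟩ ⟨h4, h5, h6⟩
    simp only [Set.mem_ofPred_eq, SL2_mul_apply, h1, h2, h3, h4, h5, h6]; simp
  inv_mem' := by
    rintro a ⟨h1, h2, h3⟩
    simp only [Set.mem_ofPred_eq, SL2_inv_00, SL2_inv_10, SL2_inv_11, h1, h2, h3]; simp

theorem mem_uni {x : SL(2, F)} : x ∈ uni F ↔ x 1 0 = 0 ∧ x 0 0 = 1 ∧ x 1 1 = 1 := Iff.rfl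

theorem upT_mem (c : F) : upT c ∈ uni F := ⟨upT_10 c, upT_00 c, upT_11 c⟩

theorem card_uni : Nat.card (uni F) = Nat.card F := by
  refine (Nat.card_congr (Equiv.ofBijective (fun c : F => (⟨upT c, upT_mem c⟩ : uni F)) ⟨?_, ?_⟩)).symm
  · intro a b h
    have := congrArg (fun m : uni F => (m : SL(2, F)) 0 1) h
    simpa only [upT_01] using this
  · rintro ⟨x, h1, h2, h3⟩
    refine ⟨x 0 1, Subtype.ext (SL2_ext ?_ ?_ ?_ ?_)⟩ <;>
      simp only [upT_00, upT_01, upT_10, upT_11, h1, h2, h3]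

theorem card_map_uni (h2 : (2 : F) ≠ 0) : Nat.card ((uni F).map (pr F)) = Nat.card F := by
  rw [← relIndex_ker, ← card_uni, relIndex]
  have : (pr F).ker.subgroupOf (uni F) = ⊥ := by
    refine eq_bot_of_forall fun x hx => Subtype.ext ?_
    rw [mem_subgroupOf, MonoidHom.mem_ker, pr_eq_one, SL2_mem_center_iff'] at hx
    refine hx.resolve_right fun e => ?_
    have := x.2.2.1
    rw [e, neg_apply'] at this
    simp at this
    exact h2 (by linear_combination -this)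
  rw [this, index_bot]

theorem exists_par {n : ℕ} (h5 : 5 ≤ n) (h8 : n % 8 = 3 ∨ n % 8 = 5) {p f : ℕ} (hp : p.Prime)
    (hn : n = p ^ f) : ∃ q r s : ℤ, Par q r s p ∧ q.natAbs = n := by
  rcases h8 with h | h
  · refine ⟨-n, -((n + 1) / 4 : ℕ), -((n - 1) / 2 : ℕ), ⟨by omega, by omega, ?_, by omega, hp,
      f, by simp [hn]⟩, by simp⟩
    exact ⟨-((n + 5) / 8 : ℕ), by omega⟩
  · refine ⟨n, ((n - 1) / 4 : ℕ), ((n + 1) / 2 : ℕ), ⟨by omega, by omega, ?_, by omega, hp,
      f, by simp [hn]⟩, by simp⟩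
    exact ⟨((n - 5) / 8 : ℕ), by omega⟩

theorem exists_ld [Fintype F] {q r s : ℤ} {p : ℕ} (h : Par q r s p)
    (hF : q.natAbs = Fintype.card F) :
    ∃ c : Cfg PSL(2, F), c.L = ⊤ ∧ LD q r s p c := by
  classical
  have hpp := h.pp
  have := Fact.mk hpp
  obtain ⟨f, hf⟩ := h.qp
  have : CharP F p := charP_of_card_eq_prime_pow (hF ▸ hf)
  have hq := h.hq; have hs := h.hs; have hrc := h.r_cases
  have h2 : (2 : F) ≠ 0 := fun e => h.p_ne_two
    ((Nat.prime_dvd_prime_iff_eq hpp Nat.prime_two).1 ((CharP.cast_eq_zero_iff F p 2).1 (by simpa using e)))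
  have hodd : Fintype.card F % 2 = 1 := hF ▸ Nat.odd_iff.1 h.odd_q'
  have hF' : Nat.card F = q.natAbs := by rw [hF, Nat.card_eq_fintype_card]
  have hsimple : IsSimpleGroup PSL(2, F) :=
    Matrix.ProjectiveSpecialLinearGroup.rank_two_simple (by have := h.five_le; omega)
  have hqq : q.natAbs ^ 2 - 1 = 8 * r.natAbs * s.natAbs := by
    have e1 : (q.natAbs : ℤ) ^ 2 = 8 * (r.natAbs * s.natAbs : ℕ) + 1 := by
      rw [← Int.natAbs_mul, Int.natAbs_of_nonneg h.rs_pos.le, Int.natAbs_sq, hq, hs]; ring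
    zify [show 1 ≤ q.natAbs ^ 2 from Nat.one_le_pow _ _ (by have := h.five_le; omega)]
    push_cast at e1 ⊢
    linear_combination e1
  have hcard : Nat.card PSL(2, F) = 4 * q.natAbs * r.natAbs * s.natAbs := by
    rw [SL2C.card_PSL2 h2, hF', hqq]
    rw [show q.natAbs * (8 * r.natAbs * s.natAbs) = 2 * (4 * q.natAbs * r.natAbs * s.natAbs) by ring]
    exact Nat.mul_div_cancel_left _ two_pos
  have hcent : ∀ x : SL(2, F), (x 0 0 + x 1 1) ^ 2 ≠ 4 → IsCyclic 𝐂[x] ∧
      (Nat.card 𝐂[x] = 4 * r.natAbs ∨ Nat.card 𝐂[x] = 2 * s.natAbs) := fun x hx => by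
    obtain ⟨h1, h3⟩ := SL2_centralizer hx
    refine ⟨h1, ?_⟩
    rw [hF'] at h3
    omega
  have htr : ∀ x : SL(2, F), ¬ orderOf x ∣ 2 * p → (x 0 0 + x 1 1) ^ 2 ≠ 4 := fun x hx e =>
    hx (orderOf_dvd_of_pow_eq_one (by rw [pow_mul]; exact SL2_pow_of_trace_sq e))
  have hoq := h.odd_q'; have hor := h.odd_r'; have hos := h.odd_s'
  have hE4 : E4 PSL(2, F) := by
    refine ⟨?_, fun g hg => ?_⟩
    · rw [hcard, mul_assoc, mul_assoc, show 8 = 4 * 2 by norm_num, Nat.mul_dvd_mul_iff_left (by norm_num)]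
      exact fun e => Nat.not_even_iff_odd.2 (hoq.mul (hor.mul hos)) (even_iff_two_dvd.2 e)
    · obtain ⟨x, rfl⟩ := pr_surj g
      have h8 : 8 ∣ orderOf x := by
        by_contra h8
        have h4 : 4 ∣ orderOf x := hg.trans (orderOf_map_dvd _ _)
        obtain ⟨k, hk⟩ := h4
        have hk' : Odd k := Nat.not_even_iff_odd.1 fun ⟨j, hj⟩ => h8 ⟨j, by rw [hk, hj]; ring⟩
        have e1 : x ^ (2 * k) ∈ center SL(2, F) := SL2_mem_center_of_sq h2 (by
          rw [← pow_mul, show 2 * k * 2 = 4 * k by ring, ← hk, pow_orderOf_eq_one])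
        rw [← pr_eq_one, map_pow] at e1
        obtain ⟨j, hj⟩ := hg.trans (orderOf_dvd_of_pow_eq_one e1)
        obtain ⟨i, hi⟩ := hk'
        omega
      have hx := htr x fun e => by
        obtain ⟨j, hj⟩ := h8.trans e
        have := hpp.eq_two_or_odd
        have := h.p_ne_two
        omega
      have h9 := h8.trans (Subgroup.orderOf_dvd_natCard _ (self_mem_cent1 x))
      obtain ⟨i, hi⟩ := hor; obtain ⟨j, hj⟩ := hos
      rcases (hcent x hx).2 with e | e <;> rw [e] at h9 <;> omega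
  -- the torus `T`
  obtain ⟨l, hl, hls⟩ := Nat.exists_prime_and_dvd (show s.natAbs ≠ 1 by have := h.three_le; omega)
  have := Fact.mk hl
  have hl2 : l ≠ 2 := by rintro rfl; exact Nat.not_even_iff_odd.2 hos (even_iff_two_dvd.2 hls)
  obtain ⟨y, hy, hyd⟩ : ∃ y : SL(2, F), orderOf y = l ∧ (q < 0 → y 0 1 = 0 ∧ y 1 0 = 0) := by
    by_cases hq0 : q < 0
    · obtain ⟨a, ha⟩ := exists_prime_orderOf_dvd_card' (G := Fˣ) l (by
        rw [Nat.card_units, hF', show q.natAbs - 1 = 2 * s.natAbs by omega]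
        exact hls.mul_left 2)
      let ψ : Fˣ → SL(2, F) :=
        fun a => ⟨!![(a : F), 0; 0, ((a⁻¹ : Fˣ) : F)], by simp [det_fin_two_of]⟩
      let φ : Fˣ →* SL(2, F) :=
        { toFun := ψ
          map_one' := by apply SL2_ext <;> simp [ψ]
          map_mul' := fun a b => by
            apply SL2_ext <;> simp only [SL2_mul_apply] <;> simp [ψ, mul_comm] }
      refine ⟨φ a, ?_, fun _ => ⟨rfl, rfl⟩⟩
      rw [orderOf_injective φ (fun a b e => ?_), ha]
      exact Units.ext (congrArg (fun m : SL(2, F) => m 0 0) e)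
    · obtain ⟨y, hy⟩ := exists_prime_orderOf_dvd_card' (G := SL(2, F)) l (by
        rw [SL2C.card_SL2, hF', hqq]; exact (hls.mul_left _).mul_left _)
      exact ⟨y, hy, fun e => absurd e hq0⟩
  have hytr := htr y (by
    rw [hy, hl.dvd_mul, Nat.prime_dvd_prime_iff_eq hl Nat.prime_two,
      Nat.prime_dvd_prime_iff_eq hl hpp]
    rintro (e | rfl)
    · exact hl2 e
    · exact hl.one_lt.ne' (Nat.eq_one_of_dvd_coprimes h.cop_qs h.p_dvd hls))
  have hyc := SL2_not_mem_center_of_trace hytr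
  have hCT : Nat.card 𝐂[y] = 2 * s.natAbs := (hcent y hytr).2.resolve_left fun e => by
    have h1 : l ∣ 4 * r.natAbs := by
      rw [← e, ← hy]; exact Subgroup.orderOf_dvd_natCard _ (self_mem_cent1 y)
    rcases hl.dvd_mul.1 h1 with h3 | h3
    · exact hl2 ((Nat.prime_dvd_prime_iff_eq hl Nat.prime_two).1
        (hl.dvd_of_dvd_pow (show l ∣ 2 ^ 2 from h3)))
    · exact hl.one_lt.ne' (Nat.eq_one_of_dvd_coprimes h.cop_sr hls h3)
  have hZ : ∀ x : SL(2, F), center SL(2, F) ≤ 𝐂[x] := fun x => center_le_centralizer _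
  have hT : Nat.card ((𝐂[y]).map (pr F)) = s.natAbs := by
    have := card_map_pr h2 (hZ y); omega
  obtain ⟨g0, hg0, hg0y⟩ := exists_inverting hodd h2 hytr
  have hg0tr := trace_sq_of_zero h2 hg0
  have hg0c := SL2_not_mem_center_of_trace hg0tr
  obtain ⟨g1, hg1, hg1g⟩ := exists_inverting hodd h2 hg0tr
  have hg0i : g0⁻¹ = -g0 := by
    rw [inv_eq_iff_mul_eq_one, mul_neg, sq_of_trace hg0, neg_neg]
  have hCK : Nat.card 𝐂[g0] = 4 * r.natAbs := (hcent g0 hg0tr).2.resolve_right fun e => by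
    have h1 : 4 ∣ 2 * s.natAbs := by
      rw [← e, ← orderOf_of_trace h2 hg0]
      exact Subgroup.orderOf_dvd_natCard _ (self_mem_cent1 g0)
    obtain ⟨j, hj⟩ := hos
    omega
  have hK : Nat.card ((𝐂[g0]).map (pr F)) = 2 * r.natAbs := by
    have := card_map_pr h2 (hZ g0); omega
  have cyc : ∀ x : SL(2, F), IsCyclic 𝐂[x] → IsCyclic ((𝐂[x]).map (pr F)) := fun x hx =>
    isCyclic_of_surjective _ ((pr F).subgroupMap_surjective 𝐂[x])
  obtain ⟨κ, hκ⟩ := exists_zpowers_eq (cyc g0 (hcent g0 hg0tr).1)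
  have hoκ : orderOf κ = 2 * r.natAbs := by rw [← Nat.card_zpowers, hκ, hK]
  have hr0 : r.natAbs ≠ 0 := Int.natAbs_ne_zero.2 h.r_ne
  have hR : Nat.card (zpowers (κ ^ 2)) = r.natAbs := by
    rw [Nat.card_zpowers, orderOf_pow' _ two_ne_zero, hoκ, Nat.gcd_mul_right_left]; simp
  have hou := orderOf_pr_of_trace h2 hg0
  have hRK : zpowers (κ ^ 2) ≤ (𝐂[g0]).map (pr F) := by
    rw [← hκ]; exact zpowers_le.2 (pow_mem (mem_zpowers κ) 2)
  have hsplit : ∀ g ∈ (𝐂[g0]).map (pr F), g ∈ zpowers (κ ^ 2) ∨ pr F g0 * g ∈ zpowers (κ ^ 2) := by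
    have hev : ∀ n : ℤ, Even n → κ ^ n ∈ zpowers (κ ^ 2) := fun n ⟨k, hk⟩ =>
      ⟨k, by simp only; rw [← zpow_natCast, ← _root_.zpow_mul, hk]; congr 1; push_cast; ring⟩
    intro g hg
    have hu : pr F g0 ∈ zpowers κ := hκ ▸ mem_map_of_mem _ (self_mem_cent1 g0)
    rw [← hκ] at hg
    obtain ⟨n, rfl⟩ := hg
    obtain ⟨m, hm⟩ := hu
    simp only at hm ⊢
    have hm' : Odd m := Int.not_even_iff_odd.1 fun e => by
      have := odd_orderOf_of_mem (hR ▸ hor) (hev m e)
      rw [hm, hou] at this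
      exact absurd this (by decide)
    rcases Int.even_or_odd n with e | e
    · exact Or.inl (hev n e)
    · right; rw [← hm, ← _root_.zpow_add]; exact hev _ (hm'.add_odd e)
  have hne2 : ∀ {H : Subgroup PSL(2, F)}, Odd (Nat.card H) → ∀ x ∈ H, orderOf x ≠ 2 :=
    fun hH x hx e => by
      have := odd_orderOf_of_mem hH hx
      rw [e] at this; exact absurd this (by decide)
  have huv : pr F g0 * pr F g1 = pr F g1 * pr F g0 := by
    rw [mul_inv_eq_iff_eq_mul, hg0i, neg_mul] at hg1g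
    rw [← map_mul, ← map_mul, hg1g, pr_neg]
  refine ⟨⟨1, pr F g0, pr F g1, ⊤, zpowers (κ ^ 2), (𝐂[y]).map (pr F), (uni F).map (pr F)⟩, rfl,
    { toPar := h
      card := by simp only [card_top, hcard]
      four := ⟨hou, orderOf_pr_of_trace h2 hg1, huv, fun e => ?_⟩
      uL := mem_top _
      vL := mem_top _
      one := ?_
      RL := le_top
      cycR := inferInstanceAs (IsCyclic (zpowers _))
      cardR := hR
      uR := ?_
      vR := ?_
      centu := ?_
      centR := ?_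
      TL := le_top
      cycT := cyc y (hcent y hytr).1
      cardT := hT
      uT := ?_
      centT := ?_
      normT := ?_
      QL := le_top
      cardQ := by simp only [card_map_uni h2, hF']
      commQ := ?_
      centQ := ?_
      TQ := ?_
      normQ := ?_
      simple := topEquiv.isSimpleGroup }⟩
  · have e1 : g0⁻¹ = g0 := by
      rcases pr_eq e with e | e
      · rw [← hg1g, ← e, mul_inv_cancel_right]
      · rw [← hg1g, e, mul_neg, neg_mul, mul_inv_cancel_right]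
    rw [inv_eq_iff_mul_eq_one, sq_of_trace hg0] at e1
    exact neg_one_ne h2 e1
  · refine ((nilp2_or_oneCl hE4 ⊤).resolve_left fun hn => ?_).2
    have hyo : orderOf (pr F y) ∣ l := hy ▸ orderOf_map_dvd _ _
    have h1 := hn (pr F y) (mem_top _) ((hl.odd_of_ne_two hl2).of_dvd_nat hyo)
    rcases hsimple.eq_bot_or_eq_top_of_normal (Od ⊤)
      (normalizer_eq_top_iff.1 (top_le_iff.1 (le_norm_Od ⊤))) with e | e
    · rw [e, mem_bot] at h1; exact hyc (pr_eq_one.1 h1)
    · exact notMem_Od hou (e ▸ mem_top _)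
  · intro x hx
    obtain ⟨z, hz, rfl⟩ := hRK hx
    simp only [← map_mul, mem_cent1.1 hz]
  · intro x hx
    obtain ⟨z, hz, rfl⟩ := hRK hx
    simp only [← map_mul, ← map_inv, inv_of_cent hg0c hg1g (mem_cent1'.1 hz)]
  · intro g _ e
    obtain ⟨g, rfl⟩ := pr_surj g
    simp only [← map_mul] at e ⊢
    rcases pr_eq e with e | e
    · rcases hsplit _ (mem_map_of_mem _ (mem_cent1.2 e)) with h1 | h1
      · exact Or.inl h1
      · exact Or.inr (Or.inl (by rwa [map_mul]))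
    · have e1 : g1 * g ∈ 𝐂[g0] := by
        rw [mul_inv_eq_iff_eq_mul, hg0i, neg_mul] at hg1g
        rw [mem_cent1, mul_assoc, e, mul_neg, ← mul_assoc, hg1g, neg_mul, neg_neg, mul_assoc]
      rcases hsplit _ (mem_map_of_mem _ e1) with h1 | h1
      · exact Or.inr (Or.inr (Or.inl h1))
      · exact Or.inr (Or.inr (Or.inr (by rwa [mul_assoc, map_mul])))
  · intro x hx h1 g _ e
    have ho := hne2 (hR ▸ hor) x hx
    obtain ⟨z, hz, rfl⟩ := hRK hx
    obtain ⟨g, rfl⟩ := pr_surj g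
    have e1 := comm_of_pr h2 ho e
    exact hsplit _ (mem_map_of_mem _ (mem_cent1.2
      (comm_of_cent (fun e => h1 (pr_eq_one.2 e)) e1.symm (mem_cent1.1 hz))))
  · rintro _ ⟨z, hz, rfl⟩
    simp only [← map_mul, ← map_inv, inv_of_cent hyc hg0y (mem_cent1'.1 hz)]
  · intro x hx h1 g _ e
    have ho := hne2 (hT ▸ hos) x hx
    obtain ⟨z, hz, rfl⟩ := hx
    obtain ⟨g, rfl⟩ := pr_surj g
    have e1 := comm_of_pr h2 ho e
    exact mem_map_of_mem _ (mem_cent1.2
      (comm_of_cent (fun e => h1 (pr_eq_one.2 e)) e1.symm (mem_cent1.1 hz)))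
  · intro g _ hg
    obtain ⟨g, rfl⟩ := pr_surj g
    obtain ⟨z, hz, e⟩ := (mem_normalizer_iff.1 hg (pr F y)).1 (mem_map_of_mem _ (self_mem_cent1 y))
    rw [← map_inv, ← map_mul, ← map_mul] at e
    have e1 : y * (g * y * g⁻¹) = (g * y * g⁻¹) * y := by
      have := mem_cent1'.1 hz
      rcases pr_eq e with e | e
      · rwa [e] at this
      · rw [e, mul_neg, neg_mul, neg_inj] at this; exact this
    rcases SL2_eq_or_eq_inv hytr e1 (SL2_trace_conj g y) with e2 | e2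
    · exact Or.inl (mem_map_of_mem _ (mem_cent1_of_conj_eq e2))
    · right
      simp only [← map_mul]
      refine mem_map_of_mem _ (mem_cent1_of_conj_eq ?_)
      calc g0 * g * y * (g0 * g)⁻¹ = g0 * (g * y * g⁻¹) * g0⁻¹ := by group
        _ = (g0 * y * g0⁻¹)⁻¹ := by rw [e2]; group
        _ = y := by rw [hg0y, inv_inv]
  · rintro _ ⟨a, ⟨h1, h3, h4⟩, rfl⟩ _ ⟨b, ⟨h5, h6, h7⟩, rfl⟩
    rw [← map_mul, ← map_mul]
    congr 1
    apply SL2_ext <;> simp only [SL2_mul_apply, h1, h3, h4, h5, h6, h7] <;> ring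
  · intro x hx h1 g _ e
    have ho := hne2 (by rw [card_map_uni h2, hF']; exact hoq) x hx
    obtain ⟨z, ⟨h3, h4, h5⟩, rfl⟩ := hx
    obtain ⟨g, rfl⟩ := pr_surj g
    obtain ⟨a, b, h6, -, h8, h9⟩ := SL2_exists_lin (fun e => h1 (pr_eq_one.2 e))
      (comm_of_pr h2 ho e).symm
    have hd := SL2_det g
    rw [h3, mul_zero] at h8
    rw [h4] at h6; rw [h5, ← h6] at h9
    rw [h8, h9, mul_zero, sub_zero] at hd
    rcases mul_self_eq_one_iff.1 hd with e1 | e1
    · exact mem_map_of_mem _ ⟨h8, e1, h9.trans e1⟩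
    · rw [← pr_neg g]
      refine mem_map_of_mem _ (mem_uni.2 ⟨?_, ?_, ?_⟩)
      · rw [neg_apply', h8, neg_zero]
      · rw [neg_apply', e1, neg_neg]
      · rw [neg_apply', h9, e1, neg_neg]
  · rintro hq0 _ ⟨z, hz, rfl⟩
    obtain ⟨h3, h4⟩ := hyd hq0
    obtain ⟨a, b, -, h6, h7, -⟩ := SL2_exists_lin hyc (mem_cent1'.1 hz)
    rw [h3, mul_zero] at h6; rw [h4, mul_zero] at h7
    refine le_normalizer_map (pr F) (mem_map_of_mem _ ?_)
    have hd := SL2_det z
    rw [h6, zero_mul, sub_zero] at hd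
    refine mem_normalizer_fintype fun x ⟨h8, h9, h10⟩ => ⟨?_, ?_, ?_⟩ <;>
      simp only [SL2_mul_apply, SL2_inv_00, SL2_inv_01, SL2_inv_10, SL2_inv_11, h6, h7, h8, h9, h10]
    · ring
    · linear_combination hd
    · linear_combination hd
  · intro hq0 g _ hg
    obtain ⟨h3, h4⟩ := hyd hq0
    obtain ⟨g, rfl⟩ := pr_surj g
    obtain ⟨z, hz, e⟩ := (mem_normalizer_iff.1 hg (pr F (upT 1))).1 (mem_map_of_mem _ (upT_mem 1))
    rw [← map_inv, ← map_mul, ← map_mul] at e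
    have e1 : (g * upT (1 : F) * g⁻¹ : SL(2, F)) 1 0 = 0 := by
      rcases pr_eq e with e | e
      · rw [← e, hz.1]
      · have := hz.1
        rwa [e, neg_apply', neg_eq_zero] at this
    simp only [SL2_mul_apply, SL2_inv_00, SL2_inv_10, upT_00, upT_01, upT_10, upT_11] at e1
    have hc : g 1 0 = 0 := by
      have : g 1 0 ^ 2 = 0 := by linear_combination -e1
      exact pow_eq_zero_iff two_ne_zero |>.1 this
    have hd := SL2_det g
    rw [hc, mul_zero, sub_zero] at hd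
    let d : SL(2, F) := ⟨!![g 0 0, 0; 0, g 1 1], by rw [det_fin_two_of]; linear_combination hd⟩
    have hd1 : d ∈ 𝐂[y] := by
      rw [mem_cent1]
      apply SL2_ext <;> simp only [SL2_mul_apply] <;> simp [d, h3, h4, mul_comm]
    have hd2 : g * d⁻¹ ∈ uni F := by
      refine ⟨?_, ?_, ?_⟩ <;>
        simp only [SL2_mul_apply, SL2_inv_00, SL2_inv_01, SL2_inv_10, SL2_inv_11, hc] <;>
        simp [d]
      · exact hd
      · rw [mul_comm]; exact hd
    rw [show g = g * d⁻¹ * d by group, map_mul]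
    exact mul_mem (mem_sup_left (mem_map_of_mem _ hd2)) (mem_sup_right (mem_map_of_mem _ hd1))

end CfsgLib.JR
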