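import Cfsg.Agent.Lib.JR.BCfg

/-!
# Centralizers of elements of `R` have order prime to `s`
-/

set_option autoImplicit false
set_option linter.unusedSimpArgs false
set_option linter.unusedSectionVars false

namespace CfsgLib.JR

open Subgroup Cfsg CfsgLib.FT CfsgLib.FT.BGN CfsgLib.FT.U4 CfsgLib.GW

variable {G : Type*} [Group G] [Fintype G] {q r s : ℤ} {c : Cfg G} {a b g n t u w x y z : G}
  {F O P X : Subgroup G} {l : ℕ}

theorem V4.card_le (h4 : V4 X u O) (ft : Four t u) (tX : t ∈ X)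
    (hV : ∀ a ∈ X, a ∈ 𝐂[u] → orderOf a = 2 → a ∈ V t u) (hO : O ≤ 𝐂(V t u)) :
    Nat.card X ≤ 60 * Nat.card O := by
  classical
  obtain ⟨a, b, e, x1, x2, x3, hE⟩ := h4.exists_eta
  have h2 := h4.sigma hE
  have h3 : ∀ g ∈ O, ∀ a ∈ invs X (u * g), a ∈ V t u ∧ g = 1 := fun g hg a ha => by
    have hi := inverts_of_mem_invs ha
    have ho := odd_orderOf_of_mem h4.odd hg
    have hc := mem_cent1.1 (h4.le hg).2
    rw [mul_inv_rev, ft.si, (Commute.inv_left hc).eq] at hi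
    obtain ⟨k1, k2⟩ := conj_eq_of_odd h4.ou h4.ou ho (by rwa [orderOf_inv]) hc
      (Commute.inv_left hc).eq hi
    have k3 := hV a ha.1.1 (mem_cent1_of_conj_eq k1) ha.1.2
    exact ⟨k3, eq_one_of_inv_of_comm ho k2 (mem_cent.1 (hO hg) a k3).symm⟩
  have h5 : invs X (u * 1) = {t, t * u} := by
    ext a
    refine ⟨fun ha => ?_, ?_⟩
    · rcases ft.mem_V.1 (h3 1 (one_mem _) a ha).1 with e | e | e | e
      · exact absurd e (ne_one_of_inv ha.1.2)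
      · exact Or.inl e
      · exact absurd (by rw [e, mul_one, ft.ss]) (ne_one_of_inv ha.2.2)
      · exact Or.inr e
    · have k2 : t * u ∈ X := mul_mem tX h4.uX
      rintro (rfl | rfl)
      · exact ⟨⟨tX, ft.ot⟩, by rw [mul_one]; exact ⟨k2, ft.ots⟩⟩
      · exact ⟨⟨k2, ft.ots⟩, by rw [mul_one, mul_assoc, ft.ss, mul_one]; exact ⟨tX, ft.ot⟩⟩
  rw [Finset.sum_eq_single_of_mem 1 (mem_elems.2 O.one_mem) fun g hg h6 => by
    rw [th, Set.eq_empty_of_forall_notMem fun a ha => h6 (h3 g (mem_elems.1 hg) a ha).2]; simp,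
    th, h5, Set.ncard_pair (by simpa using ft.s1)] at h2
  have h6 : (1 + 1 / x1 + 1 / x2 + 1 / x3 : ℚ) * Nat.card X = 32 * Nat.card O := by
    refine Rat.cast_injective (α := ℂ) ?_
    push_cast at h2 ⊢
    linear_combination h2
  have h7 := num_lower' hE.mx hE.my hE.mz hE.sum
  have : (Nat.card X : ℚ) ≤ 60 * Nat.card O := by
    nlinarith [(Nat.cast_nonneg _ : (0 : ℚ) ≤ Nat.card X)]
  exact_mod_cast this

namespace GF

variable (h : GF q r s c F)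
include h

theorem mem_V_or (ha : a ∈ c.S) : a ∈ V c.t c.u ∨ Inverts a c.R := by
  have k : ∀ b ∈ V c.u c.v, b ∈ V c.t c.u ∨ Inverts b c.R := fun b hb => by
    rcases h.four.mem_V.1 hb with rfl | rfl | rfl | rfl
    exacts [Or.inl (one_mem _), Or.inl (s_mem_V _ _), Or.inr h.vR, Or.inr h.uvR]
  rcases h.mem_S.1 ha with e | e
  · exact k a e
  · refine (k _ e).imp (mul_mem_cancel_left (t_mem_V _ _)).1 fun e x hx => ?_
    have := e x hx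
    rw [conj_conj, mul_inv_eq_iff_eq_mul, h.comm _ (h.RL (inv_mem hx))] at this
    exact mul_left_cancel this

variable (hx : x ∈ c.R) (h1 : x ≠ 1)
include hx h1

theorem ct_le (hg : g ∈ 𝐂[c.t]) (e : g ∈ 𝐂[x]) : g ∈ 𝐂(V c.t c.u) := by
  rw [cent_V]
  refine ⟨hg, ?_⟩
  obtain ⟨z, hz, φ, hφ, rfl⟩ := h.dec_ct hg
  have key : ∀ z ∈ c.L, z * φ ∈ 𝐂[x] → z ∈ 𝐂[c.u] := fun z hz e => by
    refine mem_cent1_of_conj_eq (h.eq_u_of_mem_K (by rw [U4.orderOf_conj, h.ou]) ?_)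
    rw [← h.cent_eq_K hx h1, ← conj_eq_of_mem_cent1 e, conj_conj]
    exact mem_inf.2 ⟨cmem hz h.uL, conj_cent z (h.uR _ (norm_mem (h.FR hφ) hx)).symm⟩
  refine mul_mem (hz.elim (fun k => key z k e) fun k => ?_) (h.F_le h.u_S hφ)
  exact (mul_mem_cancel_left (h.S_comm h.u_S h.t_S)).1 (key _ k (by
    rw [mul_assoc]; exact mul_mem (mem_cent1_comm.1 (h.L_le (h.RL hx))) e))

theorem ca_le (ha : a ∈ V c.t c.u) (ha1 : a ≠ 1) (hg : g ∈ 𝐂[a]) (e : g ∈ 𝐂[x]) :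
    g ∈ 𝐂(V c.t c.u) := by
  obtain ⟨w, hw⟩ := h.exists_w
  obtain ⟨z, hz, rfl⟩ := h.conj_w hw ha ha1
  have hz' := zpowers_le.2 (h.w_nv hw) hz
  rw [cent1_conj, mem_conj] at hg
  have := norm_mem (U4.norm_le_norm_cent _ hz') (h.ct_le (norm_mem' (h.nv_R hz') hx)
    (fun e' => h1 (by rw [← conj_eq_one_iff (a := z⁻¹), inv_inv, e'])) hg (by
      simpa only [inv_inv] using conj_cent z⁻¹ (mem_cent1.1 e)))
  simpa [mul_assoc] using this

theorem V_le_cx : V c.t c.u ≤ 𝐂[x] :=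
  fun a ha => mem_cent1.2 (mem_cent.1 (h.RF_le (mem_sup_left hx)) a ha)

theorem dec_cx (hg : g ∈ 𝐂(V c.t c.u)) (e : g ∈ 𝐂[x]) :
    ∃ a ∈ V c.t c.u, a * g ∈ 𝐂[x] ⊓ (c.R ⊔ F) := by
  obtain ⟨a, ha, k⟩ := h.dec_cv hg
  rcases h.mem_V_or ha with k1 | k1
  · exact ⟨a, k1, mul_mem (h.V_le_cx hx h1 k1) e, k⟩
  · exact absurd (eq_one_of_odd_of_mul_self (odd_orderOf_of_mem h.oddR hx) (eq_inv_iff_mul_eq_one.1
      (eq_inv_of_odd (odd_orderOf_of_mem h.odd_RF k)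
        (by rw [conj_conj, conj_eq_of_mem_cent1 e, k1 x hx])))) h1

theorem mem_V (hg : g ∈ 𝐂(V c.t c.u)) (e : g ∈ 𝐂[x]) (h2 : g * g = 1) : g ∈ V c.t c.u := by
  obtain ⟨a, ha, k⟩ := h.dec_cx hx h1 hg e
  have := eq_one_of_odd_of_mul_self (odd_orderOf_of_mem h.odd_RF k.2) (by
    rw [mul_assoc, ← mul_assoc g, ← mem_cent.1 hg a ha, mul_assoc, h2, mul_one,
      h.four_tu.mul_self_of_mem ha])
  rw [eq_inv_of_mul_eq_one_right this]
  exact inv_mem ha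

theorem sylowV : IsSylowIn 2 (V c.t c.u) 𝐂[x] :=
  IsSylowIn.of_maximal (h.V_le_cx hx h1) h.four_tu.isPGroup_V fun _ hT h2 h3 _ hg =>
    h.mem_V hx h1 (h.ct_le hx h1 (mem_cent1.2 (h.two_comm hT hg (h2 (t_mem_V _ _)))) (h3 hg))
      (h3 hg) (h.two_sq hT hg)

theorem not_dvd_cx (hl : l.Prime) (hd : l ∣ s.natAbs) : ¬ l ∣ Nat.card 𝐂[x] := fun e => by
  obtain ⟨l2, l3, lF, lr, -⟩ := h.cop_s hl hd
  have h4 := h.four_tu
  have hV := h.V_le_cx hx h1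
  have k0 : ¬ l ∣ r.natAbs * Nat.card F := fun e => (hl.dvd_mul.1 e).elim lr lF
  have k2 : ∀ m, ¬ l ∣ 2 ^ m := fun m e =>
    l2 ((Nat.prime_dvd_prime_iff_eq hl Nat.prime_two).1 (hl.dvd_of_dvd_pow e))
  by_cases hn : 𝐂[x] ⊓ 𝐍(V c.t c.u) ≤ 𝐂(V c.t c.u)
  · have key : ∀ a ∈ V c.t c.u, a ≠ 1 → Od 𝐂[x] ⊓ 𝐂[a] ≤ 𝐂(V c.t c.u) := fun a ha a1 g hg =>
      h.ca_le hx h1 ha a1 hg.2 (Od_le _ hg.1)
    have h2 : 𝐂[x] ≤ 𝐂(V c.t c.u) := by
      rw [← (burnside (h.sylowV hx h1) hn).2]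
      exact sup_le (h4.le_of_cent_le (odd_Od _) (hV.trans (le_norm_Od _)) (key _ (t_mem_V _ _) h4.t1)
        (key _ (s_mem_V _ _) h4.s1) (key _ (mul_mem (t_mem_V _ _) (s_mem_V _ _)) h4.ts1)) h4.V_le_cent
    have := e.trans (card_dvd_of_le h2)
    rw [h.card_cv, hl.dvd_mul] at this
    exact this.elim (k2 3) k0
  obtain ⟨n, hn, hc⟩ := SetLike.not_le_iff_exists.1 hn
  set O := 𝐂[x] ⊓ (c.R ⊔ F)
  have oO : Odd (Nat.card O) := GW.odd_card_of_le h.odd_RF inf_le_right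
  have hO : O ≤ 𝐂(V c.t c.u) := inf_le_right.trans h.RF_le
  have nO : 𝐂[x] ⊓ 𝐍(V c.t c.u) ≤ 𝐍(O) := fun g hg => mem_norm_of fun y hy =>
    ⟨cmem hg.1 hy.1, norm_mem (h.nv_RF hg.2) hy.2⟩
  have h2 : 𝐂[x] ⊓ 𝐂[c.u] = O ⊔ V c.t c.u := le_antisymm (fun g hg => by
    obtain ⟨a, ha, k⟩ := h.dec_cx hx h1 (h.ca_le hx h1 (s_mem_V _ _) h4.s1 hg.2 hg.1) hg.1
    exact (mul_mem_cancel_left (mem_sup_right ha)).1 (mem_sup_left k))
    (le_inf (sup_le inf_le_left hV) ((sup_le hO h4.V_le_cent).trans (U4.cent_le_cent1 (s_mem_V _ _))))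
  have h3 : O.relIndex (𝐂[x] ⊓ 𝐂[c.u]) = 4 := by
    rw [h2, relIndex_sup ((le_inf hV le_normalizer).trans nO) (disjoint_of_coprime_natCard
      (h4.coprime_V oO).symm).eq_bot, h4.card_V]
  have h5 : V4 𝐂[x] c.u O := by
    refine ⟨h.ou, hV (s_mem_V _ _), h2 ▸ le_sup_left, h2 ▸ sup_le le_normalizer
      ((le_inf hV le_normalizer).trans nO), oO, fun g hg e ho => ⟨hg, h.mem_RF (h.ca_le hx h1
      (s_mem_V _ _) h4.s1 (mem_cent1.2 e) hg) ho⟩, h3, fun g hg e => ?_, c.t, hV (t_mem_V _ _),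
      h4.symm⟩
    obtain ⟨a, ha, ho⟩ := exists_inv_pow e
    obtain ⟨z, hz, k1⟩ := (h.sylowV hx h1).exists_conj_le (isPGroup_zpowers ho)
      (zpowers_le.2 (zpowers_le.2 hg ha))
    obtain ⟨b, hb, k3⟩ := h.dec_cx hx h1 (h.ca_le hx h1
      (k1 (conj_mem_conj_iff.2 (mem_zpowers a))) (conj_ne_one_iff.2 (ne_one_of_inv ho))
      (conj_cent z (comm_of_mem_zpowers ha)) (cmem hz hg)) (cmem hz hg)
    obtain ⟨z1, hz1, e1⟩ := h.trans_of hn hc hb (by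
      rintro rfl
      have := odd_orderOf_of_mem oO k3
      rw [one_mul, U4.orderOf_conj] at this
      exact Nat.not_even_iff_odd.2 this (even_iff_two_dvd.2 e))
    obtain ⟨z2, hz2, e2⟩ := h.trans_of hn hc (s_mem_V _ _) h4.s1
    refine ⟨z2 * z1⁻¹ * z, mul_mem (mul_mem hz2.1 (inv_mem hz1.1)) hz, _,
      norm_mem (nO (mul_mem hz2 (inv_mem hz1))) k3, ?_⟩
    rw [← conj_mul, conj_conj z2 _ b, ← e1, show z1⁻¹ * (z1 * c.t * z1⁻¹) * z1⁻¹⁻¹ = c.t by group,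
      e2, ← mul_assoc c.u, h.uu, one_mul, conj_conj]
  have h6 := h5.card_le h4 (hV (t_mem_V _ _)) (fun a ha k ho => h.mem_V hx h1
    (h.ca_le hx h1 (s_mem_V _ _) h4.s1 k ha) ha (mul_self_of_inv ho)) hO
  have h7 := card_mul_relIndex h5.le
  have h8 := card_mul_relIndex (inf_le_right : 𝐂(V c.t c.u) ⊓ (𝐂[x] ⊓ 𝐍(V c.t c.u)) ≤ _)
  have h9 := card_mul_relIndex (inf_le_left : 𝐂[x] ⊓ 𝐍(V c.t c.u) ≤ _)
  rw [inf_relIndex_right, h.idx_of hn hc, show 𝐂(V c.t c.u) ⊓ (𝐂[x] ⊓ 𝐍(V c.t c.u)) =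
    𝐂[x] ⊓ 𝐂[c.u] from le_antisymm (le_inf (inf_le_right.trans inf_le_left) (inf_le_left.trans
      (U4.cent_le_cent1 (s_mem_V _ _)))) fun g hg => by
        have := h.ca_le hx h1 (s_mem_V _ _) h4.s1 hg.2 hg.1
        exact ⟨this, hg.1, U4.cent_le_norm _ this⟩, ← h7, h3] at h8
  rw [← h9, ← h8] at e h6
  generalize (𝐂[x] ⊓ 𝐍(V c.t c.u)).relIndex 𝐂[x] = m at *
  have k3 : l ∣ m := by
    simp only [hl.dvd_mul] at e
    rcases e with ((e | e) | e) | e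
    · exact absurd (e.trans (h.card_RF ▸ card_dvd_of_le inf_le_right)) k0
    · exact absurd e (k2 2)
    · exact absurd ((Nat.prime_dvd_prime_iff_eq hl Nat.prime_three).1 e) l3
    · exact e
  have k4 : 0 < Nat.card O := Nat.card_pos
  have k5 : m ≤ 5 := by nlinarith
  have k6 : m ≠ 0 := by
    rintro rfl
    exact (Nat.card_pos (α := 𝐂[x])).ne (by simpa using h9)
  have k7 := Nat.le_of_dvd (Nat.pos_of_ne_zero k6) k3
  have := hl.two_le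
  obtain rfl | rfl : l = 4 ∨ l = 5 := by omega
  · exact absurd hl (by decide)
  · exact h.not_five_s hd

end GF

end CfsgLib.JR
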