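import Cfsg.Agent.Lib.JR.BNorm
import Cfsg.Agent.Lib.ClassCount

/-!
# An `F`-invariant Borel subgroup of `L`
-/

set_option autoImplicit false
set_option linter.unusedSimpArgs false
set_option linter.unusedSectionVars false

namespace CfsgLib.JR

open Subgroup Cfsg CfsgLib.FT CfsgLib.FT.BGN CfsgLib.FT.U4 CfsgLib.GW

variable {G : Type*} [Group G] [Fintype G] {q r s : ℤ} {c : Cfg G} {a b f g i n w x y z φ : G}
  {F H M N P : Subgroup G} {p l : ℕ}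

theorem mem_of_odd' (ha : a * a = 1) (hn : a ∈ 𝐍(M)) (ho : Odd (orderOf g)) (e : a * g ∈ M) :
    g ∈ M := by
  refine zpowers_le.2 ?_ (mem_zpowers_sq ho)
  have := mul_mem (norm_mem' hn e) e
  rwa [show a⁻¹ * (a * g) * a * (a * g) = g * (a * a) * g by group, ha, mul_one] at this

theorem exists_prime_elem (h : x ≠ 1) : ∃ y ∈ zpowers x, (orderOf y).Prime := by
  obtain ⟨k, hk, hd⟩ := exists_prime_dvd_orderOf h
  obtain ⟨y, hy, rfl⟩ := exists_prime_pow hd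
  exact ⟨y, hy, hk⟩

omit [Fintype G] in
theorem ne_one_of_prime (h : (orderOf x).Prime) : x ≠ 1 :=
  fun e => by simp [e, Nat.not_prime_one] at h

theorem cop_of_pgroup (hp : p.Prime) (hP : IsPGroup p P) (hx : x ∈ P) {m : ℕ} (h : ¬ p ∣ m) :
    (orderOf x).Coprime m := by
  have := Fact.mk hp
  obtain ⟨n, hn⟩ := (IsPGroup.iff_orderOf.1 hP) ⟨x, hx⟩
  rw [← orderOf_coe] at hn
  rw [hn]; exact (hp.coprime_iff_not_dvd.2 h).pow_left n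

namespace LD

variable (h : LD q r s p c)
include h

theorem sylow_Q : IsSylowIn p c.Q c.L := ⟨h.QL, h.pQ, h.hall_Q h.pp h.p_dvd⟩

theorem card_QT (hq : q < 0) : Nat.card ↥(c.Q ⊔ c.T) = q.natAbs * s.natAbs := by
  rw [card_sup' (h.TQ hq) (disjoint_of_coprime_natCard (by
    rw [h.cardQ, h.cardT]; exact h.cop_qs)).eq_bot, h.cardQ, h.cardT]

theorem inv_norm_Q (hq : q < 0) (ha : a ∈ c.L) (ho : orderOf a = 2) (hx : x ∈ c.Q)
    (e : a * x * a⁻¹ ∈ c.Q) : x = 1 := by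
  by_contra h1
  exact notMem_of_odd ho (h.odd_norm_Q hq) ⟨ha, h.norm_Q ha hx h1 e⟩

theorem mem_T_of (hq : q < 0) (hg : g ∈ c.L ⊓ 𝐍(c.Q)) (e : c.u * g * c.u⁻¹ ∈ 𝐍(c.Q)) :
    g ∈ c.T := by
  have := Fact.mk h.pp
  obtain ⟨x, hx, y, hy, rfl⟩ := (mem_sup_iff_of_le_normalizer' (h.TQ hq)).1 (h.normQ hq g hg.1 hg.2)
  rw [← conj_mul, h.uT y hy, mul_mem_cancel_right (h.TQ hq (inv_mem hy))] at e
  have h1 : IsPGroup p (zpowers (c.u * x * c.u⁻¹)) := by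
    rw [zpowers_conj]; exact (h.pQ.to_le (zpowers_le.2 hx)).map _
  have h2 := (h.sylow_Q.eq_of_le (H1.isPGroup_sup_of_le_normalizer h1 h.pQ (zpowers_le.2 e))
    le_sup_right (sup_le (zpowers_le.2 (cmem h.uL (h.QL hx))) h.QL)).le (mem_sup_left (mem_zpowers _))
  rwa [h.inv_norm_Q hq h.uL h.ou hx h2, one_mul]

end LD

/-- The configuration with `F` normalizing `Q` and `T`. -/
structure GB (q r s : ℤ) (c : Cfg G) (F : Subgroup G) : Prop extends GF q r s c F where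
  FQ : F ≤ 𝐍(c.Q)
  FT : F ≤ 𝐍(c.T)
  dQ : ∃ d ∈ c.Q, d ≠ 1 ∧ d ∈ 𝐂(F)

namespace GF

variable (h : GF q r s c F)
include h

theorem exists_gb : ∃ c' : Cfg G, GB q r s c' F := by
  obtain ⟨d, hd, od, -, -, dS⟩ := h.exists_d
  obtain ⟨z, hz, e⟩ := h.conj_Q (isPGroup_zpowers od) (zpowers_le.2 hd)
  replace e := e (conj_mem_conj_iff.2 (mem_zpowers d))
  have hB : c.Q ⊔ c.T ≤ c.L := sup_le h.QL h.TL
  have h1 := card_mul_relIndex hB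
  rw [h.card_QT h.hq0, h.card, show 4 * q.natAbs * r.natAbs * s.natAbs =
    q.natAbs * s.natAbs * (4 * r.natAbs) by ring] at h1
  obtain ⟨⟨b, b0⟩, hb, ⟨g, g0⟩, hg, e1⟩ := ClassCount.exists_mul_of_coprime_index
    (K := (c.Q ⊔ c.T).subgroupOf c.L) (H := (c.L ⊓ 𝐂[c.u]).subgroupOf c.L) (Nat.Coprime.symm <| by
      rw [← relIndex, ← relIndex, h.idx_cu, Nat.eq_of_mul_eq_mul_left
        (Nat.mul_pos (Int.natAbs_pos.2 h.q_ne) (Int.natAbs_pos.2 h.s_ne)) h1]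
      exact ((Nat.coprime_two_right.2 (h.odd_q'.mul h.odd_s')).pow_right 2).mul_right
        (h.cop_qr.mul_left h.cop_sr)) ⟨z, hz⟩
  replace hb : b ∈ c.Q ⊔ c.T := hb
  replace hg : g ∈ c.L ⊓ 𝐂[c.u] := hg
  obtain rfl : z = b * g := by simpa using (congrArg Subtype.val e1)
  have e2 : d ∈ g⁻¹ •ᶜ c.Q := by
    have := norm_mem' (sup_le le_normalizer (h.TQ h.hq0) hb) e
    rw [mem_conj]; simpa [mul_assoc] using this
  have h' := h.toLD.conj g⁻¹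
  have hL : g⁻¹ •ᶜ c.L = c.L := conj_eq_of_mem (inv_mem hg.1)
  have hu : g⁻¹ * c.u * g⁻¹⁻¹ = c.u := conj_eq_of_mem_cent1 (inv_mem hg.2)
  have h2 : LD q r s 3 { c with T := g⁻¹ •ᶜ c.T, Q := g⁻¹ •ᶜ c.Q } :=
    { h.toLD with
      TL := hL ▸ h'.TL, cycT := h'.cycT, cardT := h'.cardT, uT := hu ▸ h'.uT
      centT := hL ▸ h'.centT, normT := hu ▸ hL ▸ h'.normT, QL := hL ▸ h'.QL, cardQ := h'.cardQ
      commQ := h'.commQ, centQ := hL ▸ h'.centQ, TQ := h'.TQ, normQ := hL ▸ h'.normQ }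
  have h3 : GF q r s { c with T := g⁻¹ •ᶜ c.T, Q := g⁻¹ •ᶜ c.Q } F := { h2, h with }
  have d1 : d ≠ 1 := fun e => by simp [e] at od
  have dF := h.ns_cent dS
  have h4 : F ≤ 𝐍(g⁻¹ •ᶜ c.Q) := fun φ hφ => h3.norm_Q' (h.F_le h.t_S hφ) e2 d1
    (by rwa [mem_cent.1 dF φ hφ, mul_inv_cancel_right])
  refine ⟨_, h3, h4, fun φ hφ => mem_norm_of fun y hy => h2.mem_T_of h.hq0
    ⟨norm_mem (h.FL hφ) (h2.TL hy), cmem (h4 hφ) (h2.TQ h.hq0 hy)⟩ ?_, d, e2, d1, dF⟩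
  have h5 := cmem (h4 hφ) (h2.TQ h.hq0 (inv_mem hy))
  rw [← h2.uT y hy, ← conj_conj, mem_cent1.1 (h.F_le h.u_S hφ), conj_conj] at h5
  exact h5

theorem three_le_ord (hf : f ∈ F) (hk : (orderOf f).Prime) : 3 ≤ orderOf f := by
  have := hk.two_le
  have := Nat.odd_iff.1 (h.ordF hf)
  omega

theorem faithT (hφ : φ ∈ F) (hc : φ ∈ 𝐂(c.T)) : φ = 1 := by
  by_contra h1
  obtain ⟨f, hf, hk⟩ := exists_prime_elem h1
  have hf' := zpowers_le.2 hφ hf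
  obtain ⟨m, j, h2, h3, h4, -⟩ := h.fix' hf' hk
  have h5 : 2 * s.natAbs ∣ (m + 1) * (m * (m + 2)) := h4 ▸ Nat.mul_dvd_mul_left 2 (h.cardT ▸
    card_dvd_of_le (le_inf h.TL fun y hy => mem_cent1.2 (mem_cent.1 (zpowers_le.2 hc hf) y hy)))
  have h6 : (2 * s.natAbs).Coprime (m + 1) := by
    refine Nat.Coprime.coprime_dvd_right (h3 ▸ dvd_pow_self _ hk.ne_zero : m + 1 ∣ q.natAbs) ?_
    rw [h.qs]; simp
  have h7 : 2 ≤ m := by have := Nat.one_le_pow j 3 (by norm_num); omega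
  have h8 := Nat.le_of_dvd (by positivity) (h6.dvd_of_dvd_mul_left h5)
  have h9 := Nat.pow_le_pow_right (Nat.succ_pos m) (h.three_le_ord hf' hk)
  have := h.qs
  nlinarith

theorem faithQ (hφ : φ ∈ F) (hc : φ ∈ 𝐂(c.Q)) : φ = 1 := by
  by_contra h1
  obtain ⟨f, hf, hk⟩ := exists_prime_elem h1
  have hf' := zpowers_le.2 hφ hf
  obtain ⟨m, j, h2, h3, h4, -⟩ := h.fix' hf' hk
  have h5 : q.natAbs ∣ (m + 1) * (m * (m + 2)) := h4 ▸ Dvd.dvd.mul_left (h.cardQ ▸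
    card_dvd_of_le (le_inf h.QL fun y hy => mem_cent1.2 (mem_cent.1 (zpowers_le.2 hc hf) y hy))) 2
  have h6 : q.natAbs.Coprime (m * (m + 2)) := by
    rw [← h3]
    exact Nat.Coprime.pow_left _ (Nat.Coprime.mul_right (by simp) (by simp [show m + 2 = m + 1 + 1 from rfl]))
  have h7 : 2 ≤ m := by have := Nat.one_le_pow j 3 (by norm_num); omega
  have h8 := Nat.le_of_dvd (by positivity) (h6.dvd_of_dvd_mul_right h5)
  have h9 : (m + 1) ^ 3 ≤ _ := Nat.pow_le_pow_right (Nat.succ_pos m) (h.three_le_ord hf' hk)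
  nlinarith [Nat.zero_le (m ^ 3), Nat.zero_le (m ^ 2)]

theorem irrQ (hP : P ≤ c.Q) (hT : c.T ≤ 𝐍(P)) (h1 : P ≠ ⊥) : P = c.Q := by
  have h2 := semiregular_card_dvd hT fun y hy y1 => eq_bot_of_forall fun x hx =>
    eq_one_of_mem_inf (disjoint_of_coprime_natCard (by
      rw [h.cardQ, h.cardT]; exact h.cop_qs)).eq_bot (hP hx.1)
      (h.centT y hy y1 x (h.QL (hP hx.1)) (mem_cent1.1 hx.2))
  have h3 := card_mul_relIndex hP
  have h4 := (one_lt_card_iff_ne_bot P).2 h1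
  have h5 := Nat.le_of_dvd (by omega) h2
  have h6 : Odd (P.relIndex c.Q) := h.oddQ.of_dvd_nat (Dvd.intro_left _ h3)
  rw [h.cardT] at h5
  rw [h.cardQ, h.qs] at h3
  refine le_antisymm hP (relIndex_eq_one.1 ?_)
  obtain ⟨k, hk⟩ := h6
  rw [hk] at h3 ⊢
  rcases k with _ | k
  · rfl
  · nlinarith [Nat.sub_add_cancel h4.le]

theorem cop_s (hl : l.Prime) (hd : l ∣ s.natAbs) : l ≠ 2 ∧ l ≠ 3 ∧ ¬ l ∣ Nat.card F ∧
    ¬ l ∣ r.natAbs ∧ ¬ l ∣ q.natAbs := by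
  have k : ∀ m, s.natAbs.Coprime m → ¬ l ∣ m := fun m hm =>
    hl.coprime_iff_not_dvd.1 (hm.coprime_dvd_left hd)
  exact ⟨fun e => k 2 (Nat.coprime_two_right.2 h.odd_s') e.dvd, fun e => h.not_three_s (e ▸ hd),
    k _ h.cop_Fs.symm, k _ h.cop_sr, k _ h.cop_qs.symm⟩

theorem mem_T (hy : y ∈ c.T) (h1 : y ≠ 1) (hg : g ∈ 𝐂[c.t]) (e : g ∈ 𝐂[y]) (ho : Odd (orderOf g))
    (hc : (orderOf g).Coprime (Nat.card F)) : g ∈ c.T :=
  h.centT y hy h1 g (h.mem_L' hg ho hc) (mem_cent1.1 e)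

theorem le_L (hl : l.Prime) (hd : l ∣ s.natAbs) (hP : IsPGroup l P) (hc : P ≤ 𝐂[c.t]) : P ≤ c.L :=
  fun _ hx => h.mem_L' (hc hx) (odd_orderOf_of_mem (odd_card_of_isPGroup hl (h.cop_s hl hd).1 hP) hx)
    (cop_of_pgroup hl hP hx (h.cop_s hl hd).2.2.1)

theorem conj_T (hl : l.Prime) (hd : l ∣ s.natAbs) (hP : IsPGroup l P) (hi : orderOf i = 2)
    (hc : P ≤ 𝐂[i]) : ∃ g, g * i * g⁻¹ = c.t ∧ g •ᶜ P ≤ c.T := by
  obtain ⟨g, e⟩ := h.conj_inv2 hi h.ot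
  obtain ⟨z, hz, e'⟩ := exists_conj_mem_of_hall hl h.TL (h.hall_T hl hd) (hP.map _)
    (h.le_L (P := g •ᶜ P) hl hd (hP.map _) (by rw [← e, cent1_conj]; exact map_mono hc))
  exact ⟨z * g, by rw [conj_conj, e, conj_eq_of_mem_cent1 (h.L_le hz)], by rwa [map_conj_mul]⟩

theorem cyc_of_inv (hl : l.Prime) (hd : l ∣ s.natAbs) (hP : IsPGroup l P) (hi : orderOf i = 2)
    (hc : P ≤ 𝐂[i]) : IsCyclic P :=
  let ⟨_, _, e⟩ := h.conj_T hl hd hP hi hc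
  isCyclic_conj.1 (isCyclic_of_le' h.cycT e)

theorem mem_D : g ∈ c.D ↔ g ∈ c.T ∨ c.t * g ∈ c.T := mem_sup_inv h.tt (h.t_norm h.TL)

theorem card_D : Nat.card c.D = 2 * s.natAbs :=
  h.cardT ▸ card_sup_inv h.tt (h.t_norm h.TL) (notMem_of_odd h.ot h.oddT)

theorem D_le_ct : c.D ≤ 𝐂[c.t] := sup_le (h.TL.trans h.L_le) (zpowers_le_cent1 _)

theorem invT (ha : a ∈ V c.t c.u) (h1 : a ≠ 1) (ht : a ≠ c.t) : Inverts a c.T := by
  rcases h.four_tu.mem_V.1 ha with rfl | rfl | rfl | rfl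
  exacts [absurd rfl h1, absurd rfl ht, h.uT, fun x hx => by
    rw [conj_conj, h.uT x hx, ← h.comm _ (h.TL (inv_mem hx)), mul_inv_cancel_right]]

end GF

namespace GB

variable (h : GB q r s c F)
include h

theorem card_TF : Nat.card ↥(c.T ⊔ F) = s.natAbs * Nat.card F := by
  rw [card_sup' h.FT (le_bot_iff.1 ((inf_le_inf_right _ h.TL).trans h.inf_LF.le)), h.cardT]

theorem odd_TF : Odd (Nat.card ↥(c.T ⊔ F)) := h.card_TF ▸ h.odd_s'.mul h.oddF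

theorem decT (hg : g ∈ c.T ⊔ F) : ∃ y ∈ c.T, ∃ φ ∈ F, y * φ = g :=
  (mem_sup_iff_of_le_normalizer' h.FT).1 hg

theorem TF_norm : c.T ⊔ F ≤ 𝐍(c.T) := sup_le le_normalizer h.FT

theorem mem_TF0 (hy : y ∈ c.T) (h1 : y ≠ 1) (hg : g ∈ c.L ⊔ F) (e : g * y * g⁻¹ ∈ c.T) :
    g ∈ c.T ⊔ F ∨ c.u * g ∈ c.T ⊔ F := by
  obtain ⟨x, hx, φ, hφ, rfl⟩ := h.dec hg
  rw [conj_conj] at e
  have h2 := h.tiT.ti x hx _ ⟨norm_mem (h.FT hφ) hy, conj_ne_one_iff.2 h1⟩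
    ⟨e, conj_ne_one_iff.2 (conj_ne_one_iff.2 h1)⟩
  exact (h.normT x hx h2.2).imp (fun e => mul_mem_sup e hφ) fun e => by
    rw [← mul_assoc]; exact mul_mem_sup e hφ

theorem mem_TF (hy : y ∈ c.T) (h1 : y ≠ 1) (hg : g ∈ 𝐂[c.t]) (ho : Odd (orderOf g))
    (e : g * y * g⁻¹ ∈ c.T) : g ∈ c.T ⊔ F :=
  (h.mem_TF0 hy h1 (h.mem_E hg ho) e).elim id (mem_of_odd' h.uu (mem_norm_sup h.uT.mem_norm
    (U4.cent_le_norm _ (h.S_cent_F h.u_S))) ho)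

theorem QT_norm : F ≤ 𝐍(c.Q ⊔ c.T) := fun _ hφ => mem_norm_sup (h.FQ hφ) (h.FT hφ)

theorem decQ (hg : g ∈ c.L ⊔ F) (hn : g ∈ 𝐍(c.Q)) :
    ∃ x ∈ c.Q, ∃ y ∈ c.T, ∃ φ ∈ F, x * y * φ = g := by
  obtain ⟨z, hz, φ, hφ, rfl⟩ := h.dec hg
  obtain ⟨x, hx, y, hy, rfl⟩ := (mem_sup_iff_of_le_normalizer' (h.TQ h.hq0)).1
    (h.normQ h.hq0 z hz ((mul_mem_cancel_right (h.FQ hφ)).1 hn))
  exact ⟨x, hx, y, hy, φ, hφ, rfl⟩

/-- An element of `T F` centralizing `T` lies in `T`. -/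
theorem mem_T_of_cent (hg : g ∈ c.T ⊔ F) (hc : g ∈ 𝐂(c.T)) : g ∈ c.T := by
  obtain ⟨y, hy, φ, hφ, rfl⟩ := h.decT hg
  rwa [h.faithT hφ ((mul_mem_cancel_left (le_cent_of_isCyclic h.cycT hy)).1 hc), mul_one]

theorem mem_Q_of_cent (hg : g ∈ c.L ⊔ F) (hc : g ∈ 𝐂(c.Q)) : g ∈ c.Q := by
  obtain ⟨d, hd, d1, dF⟩ := h.dQ
  obtain ⟨z, hz, φ, hφ, rfl⟩ := h.dec hg
  have h1 := h.centQ d hd d1 z hz (mem_cent1.1 ((mul_mem_cancel_right
    (mem_cent1.2 (mem_cent.1 dF φ hφ))).1 (U4.cent_le_cent1 hd hc)))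
  rwa [h.faithQ hφ ((mul_mem_cancel_left (mem_cent.2 fun x hx => h.commQ x hx z h1)).1 hc), mul_one]

theorem not_cyclic (hP : IsPGroup 3 P) (hT : c.T ≤ 𝐍(P)) (h1 : P ≠ ⊥)
    (hc : ∀ y ∈ c.T, y ≠ 1 → P ⊓ 𝐂[y] = ⊥) : ¬ IsCyclic P := fun hcyc => by
  have : Fact (Nat.Prime 3) := ⟨Nat.prime_three⟩
  obtain ⟨x, hx, x1⟩ := exists_ne_one h1
  obtain ⟨z, hz, oz⟩ := exists_ord Nat.prime_three hP hx x1
  replace hz := zpowers_le.2 hx hz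
  obtain ⟨y, hy, y1⟩ := exists_ne_one h.T_ne
  have z1 : z ≠ 1 := fun e => by simp [e] at oz
  rcases mem_zpowers_three oz (norm_mem (norm_le_norm_of_le_cyclic hcyc (zpowers_le.2 hz) (hT hy))
    (mem_zpowers z)) with e | e | e
  · exact conj_ne_one_iff.2 z1 e
  · exact z1 (mem_bot.1 (hc y hy y1 ▸ ⟨hz, mem_cent1_comm.1 (mem_cent1_of_conj_eq e)⟩))
  · exact z1 (eq_one_of_odd_of_mul_self (by rw [oz]; decide) (eq_inv_iff_mul_eq_one.1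
      (eq_inv_of_odd (odd_orderOf_of_mem h.oddT hy) e)))

theorem not_cyclic_Q : ¬ IsCyclic c.Q := by
  obtain ⟨d, hd, d1, -⟩ := h.dQ
  exact h.not_cyclic h.pQ (h.TQ h.hq0) (U4.ne_bot_of_mem hd d1) fun y hy y1 =>
    eq_bot_of_forall fun x hx => eq_one_of_mem_inf (disjoint_of_coprime_natCard (by
      rw [h.cardQ, h.cardT]; exact h.cop_qs)).eq_bot hx.1
      (h.centT y hy y1 x (h.QL hx.1) (mem_cent1.1 hx.2))

end GB

end CfsgLib.JR
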