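import Cfsg.Agent.Lib.JR.BDefs

/-!
# The centralizer of an involution and the fusion of involutions
-/

set_option autoImplicit false
set_option linter.unusedSimpArgs false
set_option linter.unusedSectionVars false

namespace CfsgLib.JR

open Subgroup Cfsg CfsgLib.FT CfsgLib.FT.BGN CfsgLib.FT.U4 CfsgLib.GW

variable {G : Type*} [Group G] [Finite G] {q r s : ℤ} {c : Cfg G} {a b f g n x y : G}
  {F H M N P : Subgroup G}

omit [Finite G] in
theorem card_conj (g : G) (H : Subgroup G) : Nat.card ↥(g •ᶜ H) = Nat.card H :=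
  card_map_of_injective (MulAut.conj g).injective

omit [Finite G] in
theorem Cfg.conj_S (c : Cfg G) (g : G) : (c.conj g).S = g •ᶜ c.S := by
  simp only [Cfg.S, Cfg.conj, conj_sup, V_conj, zpowers_conj]

omit [Finite G] in
theorem conj_conj (g n a : G) : g * n * a * (g * n)⁻¹ = g * (n * a * n⁻¹) * g⁻¹ := by group

theorem mem_of_cop (hn : M ≤ 𝐍(H)) (hg : g ∈ M) (hc : (orderOf g).Coprime (H.relIndex M)) :
    g ∈ H :=
  Cop.le_of_coprime_relIndex (zpowers_le.2 hg) hn (by rwa [Nat.card_zpowers]) (mem_zpowers g)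

theorem relIndex_sup (hn : P ≤ 𝐍(H)) (hd : H ⊓ P = ⊥) : H.relIndex (H ⊔ P) = Nat.card P := by
  have := card_mul_relIndex (le_sup_left : H ≤ H ⊔ P)
  rw [sup_comm, card_sup_of_disjoint hn (inf_comm H P ▸ hd), mul_comm (Nat.card P), sup_comm] at this
  exact Nat.eq_of_mul_eq_mul_left Nat.card_pos this

theorem card_sup' (hn : P ≤ 𝐍(H)) (hd : H ⊓ P = ⊥) :
    Nat.card ↥(H ⊔ P) = Nat.card H * Nat.card P := by
  rw [← relIndex_sup hn hd, card_mul_relIndex le_sup_left]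

namespace GF

variable (h : GF q r s c F)
include h

omit [Finite G] in
theorem conj (g : G) : GF q r s (c.conj g) (g •ᶜ F) where
  toLD := h.toLD.conj g
  ot := by simp only [Cfg.conj]; rw [U4.orderOf_conj, h.ot]
  comm := by
    rintro _ ⟨x, hx, rfl⟩
    exact mem_cent1.1 (conj_cent g (h.comm x hx))
  tL := by simpa only [Cfg.conj, conj_mem_conj_iff] using h.tL
  oddF := by rw [card_conj]; exact h.oddF
  cycF := isCyclic_conj.2 h.cycF
  FS := by rw [Cfg.conj_S, centralizer_map_conj]; exact map_mono h.FS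
  FL := le_norm_conj h.FL g
  faith := by
    simp only [Cfg.conj]
    rw [centralizer_map_conj, ← map_conj_inf, h.faith, Subgroup.map_bot]
  cent := by
    intro x e
    simp only [Cfg.conj, ← conj_sup, mem_conj] at e ⊢
    have := h.cent (g⁻¹ * x * g) (by
      calc g⁻¹ * x * g * c.t = g⁻¹ * (x * (g * c.t * g⁻¹)) * g := by group
        _ = _ := by rw [e]; group)
    simpa [mul_assoc] using this
  odd := by
    simp only [Cfg.conj]
    rw [cent1_conj, index_map_of_bijective (MulAut.conj g).bijective]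
    exact h.odd
  simpleG := h.simpleG
  fix := by
    rintro _ ⟨f, hf, rfl⟩ hp
    simp only [Cfg.conj, MulEquiv.coe_toMonoidHom, MulAut.conj_apply, U4.orderOf_conj, cent1_conj,
      ← map_conj_inf, card_conj] at hp ⊢
    exact h.fix f hf hp

theorem tt : c.t * c.t = 1 := mul_self_of_inv h.ot
theorem L_le : c.L ≤ 𝐂[c.t] := fun x hx => mem_cent1.2 (h.comm x hx)
theorem t_norm (hH : H ≤ c.L) : c.t ∈ 𝐍(H) := mem_norm_of_comm fun x hx => h.comm x (hH hx)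
theorem VL_le : V c.u c.v ≤ c.L := V_le h.uL h.vL
theorem mem_S : g ∈ c.S ↔ g ∈ V c.u c.v ∨ c.t * g ∈ V c.u c.v :=
  mem_sup_inv h.tt (h.t_norm h.VL_le)
theorem card_S : Nat.card c.S = 8 := by
  rw [Cfg.S, card_sup_inv h.tt (h.t_norm h.VL_le) fun e => h.tL (h.VL_le e), h.four.card_V]
theorem S_le : c.S ≤ 𝐂[c.t] := sup_le (h.VL_le.trans h.L_le) (zpowers_le_cent1 _)
theorem t_S : c.t ∈ c.S := mem_sup_right (mem_zpowers _)
theorem u_S : c.u ∈ c.S := mem_sup_left (t_mem_V _ _)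
theorem v_S : c.v ∈ c.S := mem_sup_left (s_mem_V _ _)
theorem F_le (ha : a ∈ c.S) : F ≤ 𝐂[a] := h.FS.trans (U4.cent_le_cent1 ha)
theorem E_le : c.L ⊔ F ≤ 𝐂[c.t] := sup_le h.L_le (h.F_le h.t_S)
theorem E_norm : c.L ⊔ F ≤ 𝐍(c.L) := sup_le le_normalizer h.FL
theorem dec (hg : g ∈ c.L ⊔ F) : ∃ x ∈ c.L, ∃ φ ∈ F, x * φ = g :=
  (mem_sup_iff_of_le_normalizer' h.FL).1 hg
theorem commF (ha : a ∈ F) (hb : b ∈ F) : a * b = b * a :=
  mem_cent.1 (le_cent_of_isCyclic h.cycF hb) a ha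
theorem ordF (ha : a ∈ F) : Odd (orderOf a) := odd_orderOf_of_mem h.oddF ha

theorem mem_ct : g ∈ 𝐂[c.t] ↔ g ∈ c.L ⊔ F ∨ c.t * g ∈ c.L ⊔ F := by
  refine ⟨fun hg => h.cent g (mem_cent1.1 hg), fun hg => hg.elim (fun e => h.E_le e) fun e => ?_⟩
  exact (mul_mem_cancel_left (self_mem_cent1 _)).1 (h.E_le e)

theorem ct_norm : 𝐂[c.t] ≤ 𝐍(c.L) := fun _ hg => (h.mem_ct.1 hg).elim (fun e => h.E_norm e)
  fun e => (mul_mem_cancel_left (h.t_norm le_rfl)).1 (h.E_norm e)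

theorem inf_LF : c.L ⊓ F = ⊥ := eq_bot_of_forall fun x hx =>
  eq_one_of_inv_of_comm (h.ordF hx.2) (h.vR x (h.mem_R_of_odd ⟨hx.1, h.F_le h.u_S hx.2⟩
    (h.ordF hx.2))) (mem_cent1.1 (h.F_le h.v_S hx.2))

theorem mem_L (hg : g ∈ c.L ⊔ F) (hc : (orderOf g).Coprime (Nat.card F)) : g ∈ c.L :=
  mem_of_cop h.E_norm hg (by rwa [relIndex_sup h.FL h.inf_LF])

theorem inv_mem_L (hg : g ∈ c.L ⊔ F) (ho : orderOf g = 2) : g ∈ c.L :=
  h.mem_L hg (ho ▸ Nat.coprime_two_left.2 h.oddF)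

theorem tE : c.t ∉ c.L ⊔ F := fun e => h.tL (h.inv_mem_L e h.ot)

theorem idxE : (c.L ⊔ F).relIndex 𝐂[c.t] = 2 :=
  relIndex_two (self_mem_cent1 _) h.tE fun _ hg => h.mem_ct.1 hg

theorem card_ct : Nat.card 𝐂[c.t] = 8 * (q.natAbs * r.natAbs * s.natAbs * Nat.card F) := by
  rw [card_two h.E_le h.idxE, card_sup' h.FL h.inf_LF, h.card]; ring

theorem mem_E (hg : g ∈ 𝐂[c.t]) (ho : Odd (orderOf g)) : g ∈ c.L ⊔ F :=
  (h.mem_ct.1 hg).elim id (mem_of_odd h.tt (mem_cent1.1 hg) ho)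

theorem mem_L' (hg : g ∈ 𝐂[c.t]) (ho : Odd (orderOf g)) (hc : (orderOf g).Coprime (Nat.card F)) :
    g ∈ c.L := h.mem_L (h.mem_E hg ho) hc

/-- Every element of `C(t)` is `tⁱ x φ`. -/
theorem dec_ct (hg : g ∈ 𝐂[c.t]) : ∃ x, (x ∈ c.L ∨ c.t * x ∈ c.L) ∧ ∃ φ ∈ F, x * φ = g := by
  rcases h.mem_ct.1 hg with e | e <;> obtain ⟨x, hx, φ, hφ, e⟩ := h.dec e
  · exact ⟨x, Or.inl hx, φ, hφ, e⟩
  · exact ⟨c.t * x, Or.inr (by rwa [← mul_assoc, h.tt, one_mul]), φ, hφ, by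
      rw [mul_assoc, e, ← mul_assoc, h.tt, one_mul]⟩

theorem sq_S (hg : g ∈ c.S) : g * g = 1 := by
  rcases h.mem_S.1 hg with e | e
  · exact h.four.mul_self_of_mem e
  · have := h.four.mul_self_of_mem e
    rwa [mul_assoc, ← mul_assoc g, mem_cent1.1 (h.S_le hg), ← mul_assoc, ← mul_assoc, h.tt,
      one_mul] at this

theorem sylow_S : IsSylowIn 2 c.S ⊤ := by
  refine ⟨le_top, IsPGroup.of_card (n := 3) h.card_S, ?_⟩
  have h1 := card_mul_relIndex h.S_le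
  rw [h.card_S, h.card_ct] at h1
  rw [relIndex_top_right, ← relIndex_mul_index h.S_le, Nat.eq_of_mul_eq_mul_left (by norm_num) h1,
    ← even_iff_two_dvd, Nat.not_even_iff_odd]
  exact (((h.odd_q'.mul h.odd_r').mul h.odd_s').mul h.oddF).mul h.odd

theorem two_sq (hP : IsPGroup 2 P) (hg : g ∈ P) : g * g = 1 := by
  obtain ⟨z, -, hz⟩ := h.sylow_S.exists_conj_le hP le_top
  have := h.sq_S (hz (conj_mem_conj_iff.2 hg))
  rwa [conj_mul, conj_eq_one_iff] at this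

theorem two_comm (hP : IsPGroup 2 P) (ha : a ∈ P) (hb : b ∈ P) : a * b = b * a := by
  have h1 := h.two_sq hP (mul_mem ha hb)
  rw [← eq_inv_iff_mul_eq_one, mul_inv_rev, ← eq_inv_iff_mul_eq_one.2 (h.two_sq hP ha),
    ← eq_inv_iff_mul_eq_one.2 (h.two_sq hP hb)] at h1
  exact h1

theorem S_comm (ha : a ∈ c.S) : c.S ≤ 𝐂[a] :=
  fun _ hb => mem_cent1.2 (h.two_comm h.sylow_S.isPGroup hb ha)

theorem odd_sq (g : G) : Odd (orderOf (g * g)) := by
  refine (odd_or_two_dvd _).resolve_right fun e => ?_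
  have h4 : 2 ^ 2 ∣ orderOf g := by
    rw [← sq, orderOf_pow] at e
    rcases (Nat.dvd_prime Nat.prime_two).1 (Nat.gcd_dvd_right (orderOf g) 2) with e1 | e1
    · rw [e1, Nat.div_one] at e
      have := Nat.dvd_gcd e (dvd_refl 2)
      omega
    · have := Nat.gcd_dvd_left (orderOf g) 2
      rw [e1] at e this
      omega
  obtain ⟨a, -, ha⟩ := exists_prime_pow h4
  have := h.two_sq (IsPGroup.of_card (n := 2) (by rw [Nat.card_zpowers, ha])) (mem_zpowers a)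
  have := orderOf_dvd_of_pow_eq_one (sq a ▸ this)
  rw [ha] at this
  omega

theorem cent_of_norm (hP : IsPGroup 2 P) (hn : n ∈ 𝐍(P)) (ha : a ∈ P)
    (h2 : n * n * a * (n * n)⁻¹ = a) : n * a * n⁻¹ = a := by
  rw [← conj_pow_odd (h.odd_sq n) h2]
  refine conj_eq_of_mem_cent1 (mem_cent1.2 (h.two_comm (H1.isPGroup_sup_of_le_normalizer
    (isPGroup_of_mul_self ?_) hP (zpowers_le.2 (pow_mem hn _))) (mem_sup_left (mem_zpowers _))
    (mem_sup_right ha)))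
  rw [← (Commute.refl n).mul_pow, pow_orderOf_eq_one]

theorem cyc_of_norm (h4 : Four a b) (hn : n ∈ 𝐍(V a b)) (e : n * a * n⁻¹ = b) :
    n * b * n⁻¹ = a * b := by
  rcases h4.mem_V.1 (norm_mem hn (s_mem_V a b)) with e1 | e1 | e1 | e1
  · exact absurd e1 (conj_ne_one_iff.2 h4.s1)
  · refine absurd (e ▸ h.cent_of_norm h4.isPGroup_V hn (t_mem_V a b) ?_).symm h4.ne
    rw [conj_conj, e, e1]
  · rw [← e1] at e
    exact absurd (by simpa using e) h4.ne
  · exact e1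

theorem fix_of_norm (h4 : Four a b) (hn : n ∈ 𝐍(V a b)) (e : n * a * n⁻¹ = a) :
    n ∈ 𝐂(V a b) := by
  rw [cent_V]
  refine ⟨mem_cent1_of_conj_eq e, mem_cent1_of_conj_eq ?_⟩
  rcases h4.mem_V.1 (norm_mem hn (s_mem_V a b)) with e1 | e1 | e1 | e1
  · exact absurd e1 (conj_ne_one_iff.2 h4.s1)
  · rw [← e] at e1
    exact absurd (by simpa using e1) h4.ne.symm
  · exact e1
  · refine h.cent_of_norm h4.isPGroup_V hn (s_mem_V a b) ?_
    rw [conj_conj, e1, ← conj_mul, e, e1, ← mul_assoc, h4.tt, one_mul]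

/-- A real element of odd order is inverted by an involution. -/
theorem exists_inv (ho : Odd (orderOf x)) (h1 : x ≠ 1) (hn : n ∈ M) (e : n * x * n⁻¹ = x⁻¹) :
    ∃ i ∈ M, orderOf i = 2 ∧ i * x * i⁻¹ = x⁻¹ := by
  have h2 := (conj_pow_odd (h.odd_sq n) (by rw [conj_conj, e, ← conj_inv, e, inv_inv])).trans e
  refine ⟨_, pow_mem hn _, inv_of_mul_self ?_ fun e' => h1 ?_, h2⟩
  · rw [← (Commute.refl n).mul_pow, pow_orderOf_eq_one]
  · rw [e', one_mul, inv_one, mul_one] at h2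
    exact eq_one_of_odd_of_mul_self ho (eq_inv_iff_mul_eq_one.1 h2)

theorem four_tu : Four c.t c.u :=
  ⟨h.ot, h.ou, (h.comm _ h.uL).symm, fun e => h.tL (e ▸ h.uL)⟩

theorem conj_u (ha : orderOf a = 2) : ∃ g, g * a * g⁻¹ = c.u := by
  have h1 : (c.L ⊔ F).index % 4 = 2 := by
    have := relIndex_mul_index h.E_le
    have h2 := Nat.odd_iff.1 h.odd
    rw [h.idxE] at this
    omega
  by_contra hc
  obtain ⟨φ, e⟩ := H5.exists_hom_eq_neg_one_of_forall_conj_notMem h1 (t := a)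
    (by rw [sq, mul_self_of_inv ha]) fun g hg => hc (by
      have ho := H5.orderOf_conj'' g a ▸ ha
      obtain ⟨z, -, e⟩ := h.one _ (h.inv_mem_L hg ho) _ h.uL ho h.ou
      exact ⟨z * g⁻¹, by rw [← e]; simp [mul_assoc]⟩)
  have := h.simpleG
  rcases (φ.normal_ker).eq_bot_or_eq_top with e' | e'
  · have h2 : ∀ z : ℤˣ, z ≠ 1 → z = -1 := fun z => (Int.units_eq_one_or z).resolve_left
    have h3 := φ.ker_eq_bot_iff.1 e'
    exact h.four_tu.ne (h3 ((h2 _ (by simpa [map_eq_one_iff φ h3] using h.four_tu.t1)).trans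
      (h2 _ (by simpa [map_eq_one_iff φ h3] using h.four_tu.s1)).symm))
  · rw [(e' ▸ mem_top a : a ∈ φ.ker)] at e
    exact absurd e (by decide)

theorem conj_inv2 (ha : orderOf a = 2) (hb : orderOf b = 2) : ∃ g, g * a * g⁻¹ = b := by
  obtain ⟨g, e⟩ := h.conj_u ha
  obtain ⟨z, e'⟩ := h.conj_u hb
  exact ⟨z⁻¹ * g, by rw [conj_conj, e, ← e']; group⟩

theorem conj_t (ha : orderOf a = 2) : ∃ g, g * c.t * g⁻¹ = a := h.conj_inv2 h.ot ha

theorem not_four_dvd (ha : orderOf a = 2) (haM : a ∈ M) (h4 : ¬ 4 ∣ Nat.card ↥(M ⊓ 𝐂[a])) :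
    ¬ 4 ∣ Nat.card M := fun e => by
  obtain ⟨P, h1, hP⟩ := IsSylowIn.exists_ge (isPGroup_zpowers ha) (zpowers_le.2 haM)
  obtain ⟨Q, hQ⟩ := Sylow.exists_subgroup_card_pow_prime 2 (n := 2) e
  have h2 := hP.card_dvd (Q := Q.map M.subtype) (IsPGroup.of_card (n := 2) (by
    rw [card_subtype, hQ])) (map_subtype_le _)
  rw [card_subtype, hQ] at h2
  exact h4 (h2.trans (card_dvd_of_le (le_inf hP.le fun g hg =>
    mem_cent1.2 (h.two_comm hP.isPGroup hg (h1 (mem_zpowers a))))))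

theorem odd_E (ho : Odd (Nat.card ↥(c.L ⊓ M))) : Odd (Nat.card ↥((c.L ⊔ F) ⊓ M)) :=
  odd_card_of_forall fun _ hx e => notMem_of_odd e ho ⟨h.inv_mem_L hx.1 e, hx.2⟩

theorem not_four (ht : c.t ∈ M) (ho : Odd (Nat.card ↥(c.L ⊓ M))) : ¬ 4 ∣ Nat.card M := by
  refine h.not_four_dvd h.ot ht ?_
  rw [card_two (H := (c.L ⊔ F) ⊓ M) (le_inf inf_le_right (inf_le_left.trans h.E_le))
    (relIndex_two ⟨ht, self_mem_cent1 _⟩ (fun e => h.tE e.1) fun _ hg =>
      (h.mem_ct.1 hg.2).imp (fun e => ⟨e, hg.1⟩) fun e => ⟨e, mul_mem ht hg.1⟩)]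
  have := Nat.odd_iff.1 (h.odd_E ho)
  omega

omit h in
theorem sylow_inv (ha : orderOf a = 2) (haM : a ∈ M) (h4 : ¬ 4 ∣ Nat.card M) :
    IsSylowIn 2 (zpowers a) M := by
  have h1 := card_mul_relIndex (zpowers_le.2 haM)
  rw [card_zpowers_inv ha] at h1
  exact ⟨zpowers_le.2 haM, isPGroup_zpowers ha, by omega⟩

omit h in
theorem conj_of_not_four (ha : orderOf a = 2) (haM : a ∈ M) (hb : orderOf b = 2) (hbM : b ∈ M)
    (h4 : ¬ 4 ∣ Nat.card M) : ∃ z ∈ M, z * a * z⁻¹ = b := by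
  obtain ⟨z, hz, e⟩ := (sylow_inv hb hbM h4).exists_conj_le (isPGroup_zpowers ha) (zpowers_le.2 haM)
  exact ⟨z, hz, ((mem_zpowers_inv hb).1 (e (conj_mem_conj_iff.2 (mem_zpowers a)))).resolve_left
    (conj_ne_one_iff.2 (ne_one_of_inv ha))⟩

omit h in
theorem mem_Od {G : Type*} [Group G] [Fintype G] {a g : G} {M : Subgroup G} (ha : orderOf a = 2)
    (haM : a ∈ M) (h4 : ¬ 4 ∣ Nat.card M) (hg : g ∈ M) : g ∈ Od M ∨ a * g ∈ Od M := by
  rw [← mem_sup_inv (mul_self_of_inv ha) (le_norm_Od M haM), Od,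
    (burnside (sylow_inv ha haM h4) fun g hg => ?_).2]
  · exact hg
  rw [U4.cent_zpowers]
  exact mem_cent1_of_conj_eq (((mem_zpowers_inv ha).1 (norm_mem hg.2 (mem_zpowers _))).resolve_left
    (conj_ne_one_iff.2 (ne_one_of_inv ha)))

/-- If `4 ∣ |M|` then an involution of `M` lies in a four-group of `M`. -/
theorem exists_four (ha : orderOf a = 2) (haM : a ∈ M) (h4 : 4 ∣ Nat.card M) :
    ∃ b ∈ M, Four a b := by
  obtain ⟨P, h1, hP⟩ := IsSylowIn.exists_ge (isPGroup_zpowers ha) (zpowers_le.2 haM)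
  have h2 : ¬ P ≤ zpowers a := fun e => by
    have h3 := card_mul_relIndex hP.le
    have := hP.not_dvd
    rw [le_antisymm e h1, card_zpowers_inv ha] at h3
    rw [le_antisymm e h1] at this
    omega
  obtain ⟨b, hb, h3⟩ := SetLike.not_le_iff_exists.1 h2
  exact ⟨b, hP.le hb, ha, inv_of_mul_self (h.two_sq hP.isPGroup hb) fun e => h3 (e ▸ one_mem _),
    h.two_comm hP.isPGroup (h1 (mem_zpowers a)) hb, fun e => h3 (e ▸ mem_zpowers a)⟩

end GF

end CfsgLib.JR
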