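import Cfsg.Agent.Lib.JR.BUniq
import Cfsg.Agent.Lib.H5FrobSchur
import Cfsg.Agent.Lib.Blk.Alg

/-!
# A Hecke algebra of dimension two
-/

set_option autoImplicit false
set_option linter.unusedSimpArgs false
set_option linter.unusedSectionVars false
set_option linter.unusedVariables false

namespace CfsgLib.JR

open Subgroup Cfsg CfsgLib.FT CfsgLib.FT.BGN CfsgLib.FT.U4 CfsgLib.GW CfsgLib.Blk

theorem exists_deg {n : Type*} [Fintype n] [DecidableEq n] {E M : Matrix n n ℂ} {N : ℕ} {c : ℂ}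
    (hE : E * E = E) (h1 : E * M = M) (h2 : M * E = M) (h3 : M * M = (N : ℂ) • E + c • M)
    (tE : E.trace = N + 1) (tM : M.trace = 0) (hN : N ≠ 0) :
    ∃ a b : ℕ, a + b = N + 1 ∧ c ^ 2 * a * b = N * (a - b) ^ 2 := by
  have key : ∀ x y : ℂ, (x • E + y • M) * (x • E + y • M) =
      (x ^ 2 + y ^ 2 * N) • E + (2 * x * y + y ^ 2 * c) • M := fun x y => by
    simp only [add_mul, mul_add, smul_mul_assoc, mul_smul_comm, hE, h1, h2, h3]; module
  have tr : ∀ x y : ℂ, (x • E + y • M).trace = x * (N + 1) := fun x y => by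
    simp [Matrix.trace_add, Matrix.trace_smul, tE, tM]
  have hN1 : (N : ℂ) + 1 ≠ 0 := Nat.cast_add_one_ne_zero N
  by_cases hd : c ^ 2 + 4 * N = 0
  · have k := key (-c / 2) 1
    rw [show (-c / 2) ^ 2 + 1 ^ 2 * (N : ℂ) = 0 by linear_combination hd / 4,
      show 2 * (-c / 2) * 1 + 1 ^ 2 * c = 0 by ring, zero_smul, zero_smul, add_zero] at k
    have := (Matrix.isNilpotent_trace_of_isNilpotent ⟨2, (sq _).trans k⟩).eq_zero
    rw [tr, mul_eq_zero_iff_right hN1] at this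
    exact absurd (Nat.cast_eq_zero.1 (by linear_combination hd / 4 + c / 2 * this : (N : ℂ) = 0)) hN
  obtain ⟨y, hy⟩ := IsAlgClosed.exists_pow_nat_eq (c ^ 2 + 4 * N)⁻¹ two_pos
  replace hy : y ^ 2 * (c ^ 2 + 4 * N) = 1 := by rw [hy, inv_mul_cancel₀ hd]
  have k : ∀ y : ℂ, y ^ 2 * (c ^ 2 + 4 * N) = 1 → ∃ a : ℕ, (1 - y * c) / 2 * (N + 1) = a :=
    fun y hy => by
      rw [← tr _ y]
      refine H5.exists_nat_trace_of_idem _ ?_
      rw [key]
      congr 2
      · linear_combination hy / 4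
      · ring
  obtain ⟨a, ha⟩ := k y hy
  obtain ⟨b, hb⟩ := k (-y) (by rwa [neg_sq])
  refine ⟨a, b, Nat.cast_injective (R := ℂ) (by push_cast; rw [← ha, ← hb]; ring), ?_⟩
  rw [← ha, ← hb]
  linear_combination (-(c ^ 2 * (N + 1) ^ 2) / 4) * hy

theorem hecke_key {n s k ε g : ℕ} {c ζ : ℂ} (hs : 3 ^ n = 2 * s + 1) (hn : n ≠ 0) (hk : k.Prime)
    (k2 : k ≠ 2) (k3 : k ≠ 3) (hq : ((3 ^ n : ℕ) : ZMod k) ^ 2 - (3 ^ n : ℕ) + 1 = 0)
    (hζ : IsPrimitiveRoot ζ k) (hc : EqAmod (1 - ζ) c ((3 ^ n) ^ 3 - 1))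
    (h1 : g * (1 + 3 ^ ε) = (3 ^ n) ^ 3 + 1) (h2 : (s : ℤ) ∣ 3 ^ ε - 1)
    (h3 : c ^ 2 * 3 ^ ε = (3 ^ n) ^ 3 * (3 ^ ε - 1) ^ 2) : c = (3 ^ n) ^ 3 - 1 := by
  have := Fact.mk hk
  have e1 : (3 : ZMod s) ^ n = 1 := by
    have := congrArg (Nat.cast : ℕ → ZMod s) hs
    simpa using this
  have e2 : (3 : ZMod s) ^ ε = 1 := by
    have := (ZMod.intCast_zmod_eq_zero_iff_dvd _ _).2 h2
    push_cast at this
    exact sub_eq_zero.1 this
  have e3 : s ∣ 3 ^ (ε % n) - 1 := by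
    rw [← ZMod.natCast_eq_zero_iff, Nat.cast_sub (Nat.one_le_pow _ _ (by norm_num))]
    push_cast
    rw [← pow_eq_pow_mod _ e1, e2, sub_self]
  have e4 : 3 ^ (ε % n + 1) ≤ 3 ^ n :=
    Nat.pow_le_pow_right (by norm_num) (Nat.mod_lt _ (Nat.pos_of_ne_zero hn))
  have e5 := Nat.eq_zero_of_dvd_of_lt e3 (by have := Nat.le_self_pow hn 3; omega)
  have e6 : ε % n = 0 := by
    by_contra e
    have := Nat.one_lt_pow e (by norm_num : 1 < 3)
    omega
  obtain ⟨e, rfl⟩ := Nat.dvd_of_mod_eq_zero e6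
  have e7 : 3 ≤ 3 ^ n := Nat.le_self_pow hn 3
  rw [pow_mul] at h1 h3
  have e8 : ((3 ^ n : ℕ) : ℂ) = 3 ^ n := by push_cast; rfl
  rw [← e8] at h3 hc ⊢
  generalize 3 ^ n = q at *
  have q0 : (q : ℂ) ≠ 0 := Nat.cast_ne_zero.2 (by omega)
  have fin : ∀ m : ℤ, c = m → (m : ZMod k) = -2 := fun m e => by
    have := (ZMod.intCast_zmod_eq_zero_iff_dvd _ _).2 (int_eqAmod_prime_prim hζ hk
      (n := m - (q ^ 3 - 1)) (by push_cast; rwa [eqAmod_sub_zero, ← e]))
    push_cast at this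
    linear_combination this + (q + 1) * hq
  have no : ∀ p : ℕ, p.Prime → k ≠ p → ∀ j, ((p ^ j : ℕ) : ZMod k) ≠ 0 := fun p hp e j e' =>
    e ((Nat.prime_dvd_prime_iff_eq hk hp).1 (hk.dvd_of_dvd_pow ((ZMod.natCast_eq_zero_iff _ _).1 e')))
  have g0 : g ≠ 0 := by rintro rfl; simp at h1
  have e9 : e ≤ 3 := (Nat.pow_le_pow_iff_right (by omega : 1 < q)).1 (by
    have := Nat.le_mul_of_pos_left (1 + q ^ e) (Nat.pos_of_ne_zero g0)
    omega)
  interval_cases e
  · have := fin 0 (by simpa using h3)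
    exact absurd (by push_cast at this ⊢; linear_combination this) (no 2 Nat.prime_two k2 1)
  · rcases sq_eq_sq_iff_eq_or_eq_neg.1 (mul_right_cancel₀ q0 (by linear_combination h3) :
      c ^ 2 = (q * (q - 1)) ^ 2) with e | e
    · have := fin (q * (q - 1)) (by simpa using e)
      exact absurd (by push_cast at this ⊢; linear_combination this - hq) (no 2 Nat.prime_two k2 0)
    · have := fin (-(q * (q - 1))) (by simpa using e)
      exact absurd (by push_cast at this ⊢; linear_combination this + hq) (no 3 Nat.prime_three k3 1)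
  · exfalso
    rcases lt_or_ge g q with e | e <;> nlinarith
  · rcases sq_eq_sq_iff_eq_or_eq_neg.1 (mul_right_cancel₀ (pow_ne_zero 3 q0)
      (by linear_combination h3) : c ^ 2 = (q ^ 3 - 1) ^ 2) with e | e
    · exact e
    · have := fin (-(q ^ 3 - 1)) (by simpa using e)
      exact absurd (by push_cast at this ⊢; linear_combination this + (q + 1) * hq)
        (no 2 Nat.prime_two k2 2)

theorem hecke_num {n s k a b : ℕ} {c ζ : ℂ} (hs : 3 ^ n = 2 * s + 1) (hn : n ≠ 0) (hk : k.Prime)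
    (k2 : k ≠ 2) (k3 : k ≠ 3) (hq : ((3 ^ n : ℕ) : ZMod k) ^ 2 - (3 ^ n : ℕ) + 1 = 0)
    (hζ : IsPrimitiveRoot ζ k) (hc : EqAmod (1 - ζ) c ((3 ^ n) ^ 3 - 1)) (hc' : EqAmod s c 0)
    (h1 : a + b = (3 ^ n) ^ 3 + 1) (h2 : c ^ 2 * a * b = (3 ^ n) ^ 3 * (a - b) ^ 2) :
    c = (3 ^ n) ^ 3 - 1 := by
  obtain ⟨g, a, b, g0, hab, rfl, rfl⟩ := Nat.exists_coprime' (Nat.gcd_pos_iff.2 (by omega : 0 < a ∨ 0 < b))
  have g1 : (g : ℂ) ≠ 0 := Nat.cast_ne_zero.2 g0.ne'
  replace h2 : c ^ 2 * a * b = (3 ^ n) ^ 3 * (a - b) ^ 2 :=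
    mul_right_cancel₀ (pow_ne_zero 2 g1) (by push_cast at h2; linear_combination h2)
  obtain ⟨z, hz, e⟩ := hc'
  have h3 : (s ^ 2 * a * b : ℤ) ∣ (3 ^ n) ^ 3 * (a - b) ^ 2 - 0 :=
    eqAmod_int_iff.1 ⟨z ^ 2, hz.pow 2, by push_cast; rw [← h2, sub_eq_iff_eq_add.1 e]; ring⟩
  rw [sub_zero] at h3
  have h4 : IsCoprime (a : ℤ) b := Nat.isCoprime_iff_coprime.2 hab
  have h5 : (s : ℤ) ∣ a - b := (Int.pow_dvd_pow_iff two_ne_zero).1 (IsCoprime.dvd_of_dvd_mul_left
    (IsCoprime.pow (⟨-2, 1, by have := congrArg (Nat.cast : ℕ → ℤ) hs; push_cast at this; omega⟩ :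
      IsCoprime (s : ℤ) (3 ^ n))) ((Dvd.intro _ (mul_assoc ..).symm).trans h3))
  have key : ∀ d : ℕ, IsCoprime (d : ℤ) (a - b) → (d : ℤ) ∣ s ^ 2 * a * b → ∃ i, d = 3 ^ i :=
    fun d k1 k2 => by
      have := k1.pow_right.dvd_of_dvd_mul_right (k2.trans h3)
      rw [← pow_mul] at this
      obtain ⟨i, -, e⟩ := (Nat.dvd_prime_pow Nat.prime_three).1 (by exact_mod_cast this)
      exact ⟨i, e⟩
  obtain ⟨i, rfl⟩ := key a (by simpa [sub_eq_neg_add] using h4.neg_right.add_mul_left_right 1)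
    ((dvd_mul_left _ _).mul_right _)
  obtain ⟨j, rfl⟩ := key b (by simpa [sub_eq_add_neg] using h4.symm.add_mul_left_right (-1))
    (dvd_mul_left _ _)
  obtain rfl | rfl : i = 0 ∨ j = 0 := by
    by_contra! e
    exact absurd (Nat.eq_one_of_dvd_coprimes hab (dvd_pow_self 3 e.1) (dvd_pow_self 3 e.2)) (by decide)
  · exact hecke_key (g := g) (ε := j) hs hn hk k2 k3 hq hζ hc (by linear_combination h1)
      (by simpa using dvd_sub_comm.1 h5) (by push_cast at h2; linear_combination h2)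
  · exact hecke_key (g := g) (ε := i) hs hn hk k2 k3 hq hζ hc (by linear_combination h1)
      (by simpa using h5) (by push_cast at h2; linear_combination h2)

variable {G : Type*} [Group G] [Fintype G] {B T U : Subgroup G} {a b g u x : G} {lam α : G → ℂ}

/-- A split BN-pair of rank one with a linear character `lam` of `B`. -/
structure HK (B U : Subgroup G) (u : G) (lam : G → ℂ) : Prop where
  UB : U ≤ B
  norm : B ≤ 𝐍(U)
  uu : u * u = 1
  uB : u ∉ B
  card : Nat.card G = Nat.card B * (Nat.card U + 1)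
  ti : ∀ x ∈ U, u * x * u ∈ B → x = 1
  mul : ∀ a ∈ B, ∀ b ∈ B, lam (a * b) = lam a * lam b
  one : ∀ x ∈ U, lam x = 1
  zero : ∀ g ∉ B, lam g = 0
  conj : ∀ b ∈ B, u * b * u ∈ B → lam (u * b * u) = lam b

/-- The generator of the Hecke algebra. -/
noncomputable def La (U : Subgroup G) (u : G) (lam : G → ℂ) (g : G) : ℂ :=
  ∑ x ∈ elems (U : Set G), lam (u * x * g)

namespace HK

variable (h : HK B U u lam)
include h

theorem notMem (hx : x ∈ B) (hb : b ∈ B) : x * u * b ∉ B := by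
  rw [mul_mem_cancel_right hb, mul_mem_cancel_left hx]; exact h.uB

theorem dec (hg : g ∉ B) : ∃ x ∈ U, ∃ b ∈ B, x * u * b = g := by
  have h1 : Function.Injective fun p : U × B => (p.1 * u * p.2 : G) := fun ⟨x, a⟩ ⟨y, b⟩ e => by
    replace e : (x * u * a : G) = y * u * b := e
    have := h.ti _ (mul_mem (inv_mem y.2) x.2) (by
      rw [show u * ((y : G)⁻¹ * x) * u = u * (y : G)⁻¹ * (x * u * a) * (a : G)⁻¹ by group, e,
        show u * (y : G)⁻¹ * (y * u * b) = u * u * b by group, h.uu, one_mul]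
      exact mul_mem b.2 (inv_mem a.2))
    obtain rfl : y = x := Subtype.ext (inv_mul_eq_one.1 this)
    rw [Subtype.ext (mul_left_cancel e)]
  have h2 := Set.eq_of_subset_of_ncard_le (s := Set.range fun p : U × B => (p.1 * u * p.2 : G))
    (t := (B : Set G)ᶜ) (by rintro _ ⟨⟨x, b⟩, rfl⟩; exact h.notMem (h.UB x.2) b.2) (by
      have := Set.ncard_add_ncard_compl (B : Set G)
      rw [h.card, ← Nat.card_coe_set_eq, SetLike.coe_sort_coe] at this
      rw [Set.ncard_range_of_injective h1, Nat.card_prod]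
      nlinarith)
  obtain ⟨⟨x, b⟩, e⟩ := h2.ge hg
  exact ⟨x, x.2, b, b.2, e⟩

theorem left (ha : a ∈ B) (g : G) : lam (a * g) = lam a * lam g := by
  by_cases e : g ∈ B
  · exact h.mul a ha g e
  · rw [h.zero g e, h.zero _ (by rwa [mul_mem_cancel_left ha]), mul_zero]

theorem right (ha : a ∈ B) (g : G) : lam (g * a) = lam g * lam a := by
  by_cases e : g ∈ B
  · exact h.mul g e a ha
  · rw [h.zero g e, h.zero _ (by rwa [mul_mem_cancel_right ha]), zero_mul]

theorem La_B (hb : b ∈ B) : La U u lam b = 0 := Finset.sum_eq_zero fun x hx => h.zero _ (by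
  simpa [mul_assoc] using h.notMem (one_mem _) (mul_mem (h.UB (mem_elems.1 hx)) hb))

theorem La_right (ha : a ∈ B) (g : G) : La U u lam (g * a) = La U u lam g * lam a := by
  simp only [La, Finset.sum_mul, ← mul_assoc, h.right ha]

theorem La_eq (hx : x ∈ U) (hb : b ∈ B) : La U u lam (x * u * b) = lam b := by
  rw [h.La_right hb, La, Finset.sum_eq_single_of_mem x⁻¹ (mem_elems.2 (inv_mem hx)) fun y hy e =>
    h.zero _ fun k => e (eq_inv_of_mul_eq_one_left (h.ti _ (mul_mem (mem_elems.1 hy) hx)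
      (by simpa only [mul_assoc] using k)))]
  simp [h.uu, mul_assoc, h.one 1 (one_mem _)]

theorem La_left (ha : a ∈ B) (g : G) : La U u lam (a * g) = lam a * La U u lam g := by
  by_cases e : g ∈ B
  · rw [h.La_B e, h.La_B (mul_mem ha e), mul_zero]
  obtain ⟨x, hx, b, hb, rfl⟩ := h.dec e
  obtain ⟨y, hy, d, hd, k⟩ := h.dec (h.notMem ha (one_mem _))
  have k1 : a = y * (u * d * u) := by rw [← mul_assoc, ← mul_assoc, k, mul_one, mul_assoc, h.uu, mul_one]
  have k2 := h.conj d hd ((mul_mem_cancel_left (h.UB hy)).1 (k1 ▸ ha))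
  rw [show a * (x * u * b) = a * x * a⁻¹ * (a * u * 1) * b by group, ← k,
    show a * x * a⁻¹ * (y * u * d) * b = a * x * a⁻¹ * y * u * (d * b) by group,
    h.La_eq (mul_mem (norm_mem (h.norm ha) hx) hy) (mul_mem hd hb), h.La_eq hx hb, h.mul d hd b hb, k1,
    h.left (h.UB hy), k2, h.one y hy, one_mul]

theorem inv_mul (ha : a ∈ B) : lam a⁻¹ * lam a = 1 := by
  rw [← h.mul _ (inv_mem ha) _ ha, inv_mul_cancel, h.one 1 (one_mem _)]

theorem conv_left (hα : ∀ a ∈ B, ∀ g, α (a * g) = lam a * α g) :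
    conv lam α = (Nat.card B : ℂ) • α := by
  ext g
  rw [conv_eq', sum_eq_sum_elems (A := B) fun x hx => by rw [h.zero x hx, zero_mul],
    Finset.sum_congr rfl fun x hx => by
      rw [hα _ (inv_mem (mem_elems.1 hx)), ← mul_assoc, mul_comm (lam x), h.inv_mul (mem_elems.1 hx)]]
  simp [card_elems]

theorem conv_right (hα : ∀ a ∈ B, ∀ g, α (g * a) = α g * lam a) :
    conv α lam = (Nat.card B : ℂ) • α := by
  ext g
  rw [conv, sum_eq_sum_elems (A := B) fun x hx => by rw [h.zero x hx, mul_zero],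
    Finset.sum_congr rfl fun x hx => by
      rw [hα _ (inv_mem (mem_elems.1 hx)), mul_assoc, h.inv_mul (mem_elems.1 hx)]]
  simp [card_elems]

theorem conv_La : conv (La U u lam) (La U u lam) = (Nat.card B : ℂ) • ((Nat.card U : ℂ) • lam +
    (∑ x ∈ elems (U : Set G), La U u lam (u * x * u)) • La U u lam) := by
  have h1 : ∀ g, conv (La U u lam) (La U u lam) g =
      Nat.card B * ∑ x ∈ elems (U : Set G), La U u lam (u * x * g) := fun g => by
    simp only [conv_eq', Finset.mul_sum]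
    conv_lhs => enter [2, y, 1]; rw [La]
    simp only [Finset.sum_mul]
    rw [Finset.sum_comm]
    refine Finset.sum_congr rfl fun x _ => ?_
    refine Eq.trans ?_ (congrFun (h.conv_left fun a ha g => h.La_left ha g) _)
    rw [conv_eq']
    exact Fintype.sum_equiv (Equiv.mulLeft (u * x)) _ _ fun y => by simp [mul_assoc]
  ext g
  simp only [Pi.smul_apply, Pi.add_apply, smul_eq_mul]
  by_cases e : g ∈ B
  · rw [h1, h.La_B e, Finset.sum_congr rfl fun x hx => by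
      rw [mul_assoc, ← one_mul (u * _), ← mul_assoc, h.La_eq (one_mem _) (mul_mem (h.UB (mem_elems.1 hx)) e),
        h.left (h.UB (mem_elems.1 hx)), h.one x (mem_elems.1 hx), one_mul]]
    simp [card_elems]
  obtain ⟨x, hx, b, hb, rfl⟩ := h.dec e
  have h2 : conv (La U u lam) (La U u lam) (x * u * b) = conv (La U u lam) (La U u lam) (u * b) := by
    simp only [conv, mul_assoc x, h.La_left (h.UB hx), h.one x hx, one_mul]
  rw [h2, h1, h.zero _ e, h.La_eq hx hb, Finset.sum_mul]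
  simp only [← mul_assoc, h.La_right hb, mul_zero, zero_add]

theorem exists_deg (hU : U ≠ ⊥) : ∃ a b : ℕ, a + b = Nat.card U + 1 ∧
    (∑ x ∈ elems (U : Set G), La U u lam (u * x * u)) ^ 2 * a * b = Nat.card U * (a - b) ^ 2 := by
  classical
  have h0 : (Nat.card B : ℂ) ≠ 0 := Nat.cast_ne_zero.2 Nat.card_pos.ne'
  have k : ∀ α β γ : G → ℂ, conv α β = (Nat.card B : ℂ) • γ →
      (Nat.card B : ℂ)⁻¹ • lm α * (Nat.card B : ℂ)⁻¹ • lm β = (Nat.card B : ℂ)⁻¹ • lm γ :=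
    fun α β γ e => by
      rw [smul_mul_assoc, mul_smul_comm, lm_mul, e, lm_smul, smul_smul _ (Nat.card B : ℂ),
        inv_mul_cancel₀ h0, one_smul]
  refine JR.exists_deg (k _ _ _ (h.conv_left fun a ha g => h.left ha g))
    (k _ _ _ (h.conv_left fun a ha g => h.La_left ha g))
    (k _ _ _ (h.conv_right fun a ha g => h.La_right ha g)) ((k _ _ _ h.conv_La).trans ?_) ?_ ?_
    Nat.card_pos.ne'
  · ext x y; simp [lm_apply]; ring
  · rw [Matrix.trace_smul, trace_lm, ← Nat.card_eq_fintype_card, h.card, h.one 1 (one_mem _)]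
    push_cast
    rw [mul_one, smul_eq_mul, inv_mul_cancel_left₀ h0]
  · rw [Matrix.trace_smul, trace_lm, h.La_B (one_mem _), mul_zero, smul_zero]

theorem eq_one [IsSimpleGroup G] (hU : U ≠ ⊥) (h1 : ∀ x ∈ U, x ≠ 1 → La U u lam (u * x * u) = 1)
    (hb : b ∈ B) : lam b = 1 := by
  set μ := lam + La U u lam
  have k0 : ∀ a ∈ B, μ a = lam a := fun a ha => by simp [μ, h.La_B ha]
  have k1 : ∀ a ∈ B, ∀ g, μ (a * g) = lam a * μ g := fun a ha g => by
    simp [μ, h.left ha, h.La_left ha, mul_add]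
  have k2 : ∀ x ∈ U, ∀ b ∈ B, μ (x * u * b) = lam b := fun x hx b hb => by
    simp [μ, h.La_eq hx hb, h.zero _ (h.notMem (h.UB hx) hb)]
  have k3 : ∀ g, μ (u * g) = μ g := fun g => by
    by_cases e : g ∈ B
    · rw [k0 g e, ← k2 1 (one_mem _) g e, one_mul]
    obtain ⟨x, hx, b, hb, rfl⟩ := h.dec e
    rw [k2 x hx b hb, ← mul_assoc, ← mul_assoc]
    by_cases e1 : x = 1
    · rw [e1, mul_one, h.uu, one_mul, k0 b hb]
    · simp [μ, h.La_right hb, h1 x hx e1, h.zero _ fun k => e1 (h.ti x hx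
        ((mul_mem_cancel_right hb).1 k))]
  let φ : G →* ℂ := ⟨⟨μ, (k0 1 (one_mem _)).trans (h.one 1 (one_mem _))⟩, fun a g => by
    show μ (a * g) = μ a * μ g
    by_cases e : a ∈ B
    · rw [k1 a e, k0 a e]
    obtain ⟨x, hx, b, hb, rfl⟩ := h.dec e
    rw [k2 x hx b hb, mul_assoc, mul_assoc, k1 x (h.UB hx), k3, k1 b hb, h.one x hx, one_mul]⟩
  rcases φ.normal_ker.eq_bot_or_eq_top with e | e
  · exact absurd (le_bot_iff.1 (e ▸ fun x hx => (k0 x (h.UB hx)).trans (h.one x hx))) hU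
  · exact (k0 b hb).symm.trans (e ▸ mem_top b : b ∈ φ.ker)

theorem eq_one' [IsSimpleGroup G] {n s k : ℕ} {ζ : ℂ} (hU : Nat.card U = (3 ^ n) ^ 3)
    (hs : 3 ^ n = 2 * s + 1) (hn : n ≠ 0) (hk : k.Prime) (k2 : k ≠ 2) (k3 : k ≠ 3)
    (hq : ((3 ^ n : ℕ) : ZMod k) ^ 2 - (3 ^ n : ℕ) + 1 = 0) (hζ : IsPrimitiveRoot ζ k)
    (hl : ∀ b ∈ B, lam b ^ k = 1) (hT : Nat.card T = s) (TB : T ≤ B) (uT : Inverts u T)
    (lT : ∀ y ∈ T, lam y = 1) (reg : ∀ y ∈ T, y ≠ 1 → U ⊓ 𝐂[y] = ⊥) (hb : b ∈ B) : lam b = 1 := by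
  classical
  have := Fact.mk hk
  have h0 : U ≠ ⊥ := (one_lt_card_iff_ne_bot U).1 (by
    rw [hU, ← pow_mul]; exact Nat.one_lt_pow (by omega) (by norm_num))
  obtain ⟨d1, d2, h1, h2⟩ := h.exists_deg h0
  have ζi := hζ.isIntegral hk.pos
  have k0 : ∀ g ∉ B, ∃ i, La U u lam g = ζ ^ i := fun g hg => by
    obtain ⟨x, hx, b, hb, rfl⟩ := h.dec hg
    obtain ⟨i, -, e⟩ := hζ.eq_pow_of_pow_eq_one (hl b hb)
    exact ⟨i, (h.La_eq hx hb).trans e.symm⟩
  have k1 : ∀ x ∈ (elems (U : Set G)).erase 1, ∃ i, La U u lam (u * x * u) = ζ ^ i := fun x hx =>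
    k0 _ fun e => (Finset.mem_erase.1 hx).1 (h.ti x (mem_elems.1 (Finset.mem_erase.1 hx).2) e)
  have k4 : (((elems (U : Set G)).erase 1).card : ℂ) = (3 ^ n) ^ 3 - 1 := by
    rw [Finset.card_erase_of_mem (mem_elems.2 U.one_mem), card_elems, Nat.cast_sub Nat.card_pos, hU]
    simp
  rw [← Finset.sum_erase _ (a := 1) (by rw [mul_one, h.uu, h.La_B (one_mem _)]), hU] at h2
  have ui : u⁻¹ = u := inv_eq_of_mul_eq_one_right h.uu
  have h3 := hecke_num (c := ∑ x ∈ (elems (U : Set G)).erase 1, La U u lam (u * x * u)) hs hn hk k2 k3 hq hζ (by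
    rw [← k4, Finset.card_eq_sum_ones, Nat.cast_sum]
    exact EqAmod.sum _ fun x hx => by
      obtain ⟨i, e⟩ := k1 x hx
      rw [e, Nat.cast_one]; exact eqAmod_pow_one ζi i) (hT ▸ eqAmod_sum_of_free
    (fun (y : T) (x : G) => y * x * (y : G)⁻¹) (by simp) (by simp [mul_assoc]) _ _
    (fun y x hx => by
      simpa using ⟨(Finset.mem_erase.1 hx).1, norm_mem (h.norm (TB y.2))
        (mem_elems.1 (Finset.mem_erase.1 hx).2)⟩)
    (fun x hx y e => by
      by_contra e1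
      exact (Finset.mem_erase.1 hx).1 (mem_bot.1 (reg y y.2 (by simpa using e1) ▸ mem_inf.2
        ⟨mem_elems.1 (Finset.mem_erase.1 hx).2, mem_cent1_comm.1 (mem_cent1_of_conj_eq e)⟩)))
    (fun y x => by
      rw [show u * (y * x * (y : G)⁻¹) * u = u * y * u⁻¹ * (u * x * u * (u * y * u⁻¹)⁻¹) by
        simp [ui, mul_assoc, ← mul_assoc u u, h.uu],
        uT y y.2, h.La_left (TB (inv_mem y.2)), inv_inv, h.La_right (TB y.2), lT _ y.2,
        lT _ (inv_mem y.2), one_mul, mul_one])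
    fun x => by
      by_cases e : u * x * u ∈ B
      · rw [h.La_B e]; exact isIntegral_zero
      · obtain ⟨i, e⟩ := k0 _ e
        rw [e]; exact ζi.pow i) (hU ▸ h1) (by exact_mod_cast h2)
  have k5 : ∀ x ∈ (elems (U : Set G)).erase 1, ‖La U u lam (u * x * u)‖ = 1 := fun x hx => by
    obtain ⟨i, e⟩ := k1 x hx
    rw [e, norm_pow, hζ.norm'_eq_one hk.ne_zero, one_pow]
  have k6 := (Finset.sum_eq_sum_iff_of_le (g := fun _ => (1 : ℝ)) fun x hx =>
    (Complex.re_le_norm _).trans (k5 x hx).le).1 (by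
      rw [← Complex.re_sum, h3, ← k4]; simp)
  refine h.eq_one h0 (fun x hx x1 => ?_) hb
  have hx' := Finset.mem_erase.2 ⟨x1, mem_elems.2 hx⟩
  exact Complex.ext (k6 x hx') (Complex.abs_re_eq_norm.1 (by rw [k6 x hx', k5 x hx', abs_one]))

end HK

end CfsgLib.JR
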