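import Cfsg.Agent.Lib.JR.BT2
import Cfsg.Agent.Lib.FT.BGAppAB

/-!
# The maximal `DF`-invariant `3`-subgroup `U` and its normalizer
-/

set_option autoImplicit false
set_option linter.unusedSimpArgs false
set_option linter.unusedSectionVars false
set_option linter.unusedVariables false

namespace CfsgLib.JR

open Subgroup Cfsg CfsgLib.FT CfsgLib.FT.BGN CfsgLib.FT.U4 CfsgLib.GW

variable {G : Type*} [Group G] [Fintype G] {q r s : ℤ} {c : Cfg G} {a b e f g i j n w x y z φ : G}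
  {A C F H K M O P T U W X Y Z : Subgroup G} {k l ω : ℕ} {π : Set ℕ}

theorem normal_sup_of_hall {X : Type*} [Group X] [Finite X] (hs : Group.IsSolvable X)
    {T : Subgroup X} (hT : IsPiHallOf π T ⊤) (hc : T ≤ 𝐂(T)) : (piCore πᶜ X ⊔ T).Normal := by
  set f := QuotientGroup.mk' (piCore πᶜ X)
  have hf : Function.Surjective f := QuotientGroup.mk'_surjective _
  have h1 : IsPiHallOf π (T.map f) ⊤ := ⟨le_top, fun p hp e => hT.2.1 p hp (e.trans (card_map_dvd _ _)),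
    fun p hp e k => hT.2.2 p hp e (by
      rw [relIndex_top_right] at k ⊢; exact k.trans (index_map_dvd _ hf))⟩
  have h2 : piCore π _ ≤ T.map f := le_hallOf_of_le_normalizer h1 (piCore_isPiSubgroup π) le_top
    (by rw [normalizer_eq_top]; exact le_top)
  have h3 : T.map f = piCore π _ := le_antisymm (le_trans (by
    rintro _ ⟨x, hx, rfl⟩
    refine mem_cent.2 fun y hy => ?_
    obtain ⟨y, hy', rfl⟩ := h2 hy
    rw [← map_mul, ← map_mul, mem_cent.1 (hc hx) y hy'])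
    (((PiSep.of_isSolvable hs).quotient _).centralizer_piCore_le (piCore_quotient_piCore _))) h2
  have h4 := comap_map_eq f T
  rw [h3, QuotientGroup.ker_mk', sup_comm] at h4
  rw [← h4]; infer_instance

theorem norm_sup_of_hall (hs : Group.IsSolvable U) (hT : IsPiHallOf π T U) (hc : T ≤ 𝐂(T)) :
    U ≤ 𝐍(piCoreOf πᶜ U ⊔ T) := by
  have h1 := normal_sup_of_hall hs (T := T.subgroupOf U) (π := π) ⟨le_top, by
    rw [Nat.card_congr (subgroupOfEquivOfLe hT.1).toEquiv]; exact hT.2.1, by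
    rw [relIndex_top_right]; exact hT.2.2⟩ fun x hx => mem_cent.2 fun y hy =>
      Subtype.ext (mem_cent.1 (hc hx) y hy)
  rw [← H1.map_subtype_subgroupOf hT.1, piCoreOf, ← Subgroup.map_sup]
  refine fun g hg => mem_norm_of ?_
  rintro _ ⟨x, hx, rfl⟩
  exact ⟨_, h1.conj_mem x hx ⟨g, hg⟩, rfl⟩

/-- `U` is a maximal `DF`-invariant `3`-subgroup containing `Q`. -/
structure MU (c : Cfg G) (F U : Subgroup G) : Prop where
  pU : IsPGroup 3 U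
  QU : c.Q ≤ U
  DU : c.D ≤ 𝐍(U)
  FU : F ≤ 𝐍(U)
  max : ∀ P : Subgroup G, IsPGroup 3 P → c.D ≤ 𝐍(P) → F ≤ 𝐍(P) → U ≤ P → P ≤ U

/-- `M = K ⋊ D F`. -/
structure KB (c : Cfg G) (F U M K : Subgroup G) : Prop where
  le : K ≤ Od M
  norm : M ≤ 𝐍(K)
  nil : Group.IsNilpotent K
  cop : (Nat.card K).Coprime (Nat.card c.T)
  reg : ∀ y ∈ c.T, y ≠ 1 → K ⊓ 𝐂[y] = ⊥
  sup : Od M ≤ K ⊔ (c.T ⊔ F)
  eq : piCoreOf {3} K = U
  four : ¬ 4 ∣ Nat.card M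

theorem MU.odd (hU : MU c F U) : Odd (Nat.card U) :=
  odd_card_of_isPGroup Nat.prime_three (by decide) hU.pU
theorem MU.TU (hU : MU c F U) : c.T ≤ 𝐍(U) := le_sup_left.trans hU.DU
theorem MU.tU (hU : MU c F U) : c.t ∈ 𝐍(U) := hU.DU (mem_sup_right (mem_zpowers _))

namespace GB

variable (h : GB q r s c F)
include h

theorem exists_MU : ∃ U, MU c F U := by
  obtain ⟨P, hQ, ⟨hP, hD, hF⟩, hm⟩ := Finite.exists_le_maximal
    (p := fun P : Subgroup G => IsPGroup 3 P ∧ c.D ≤ 𝐍(P) ∧ F ≤ 𝐍(P))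
    ⟨h.pQ, sup_le (h.TQ h.hq0) (zpowers_le.2 (h.t_norm h.QL)), h.FQ⟩
  exact ⟨P, hP, hQ, hD, hF, fun X h1 h2 h3 h4 => hm ⟨h1, h2, h3⟩ h4⟩

theorem QT_bot : c.Q ⊓ c.T = ⊥ :=
  (disjoint_of_coprime_natCard (by rw [h.cardQ, h.cardT]; exact h.cop_qs)).eq_bot

theorem mem_KT (hKC : K ≤ C) (hC : C ⊓ c.T = ⊥) (hT : c.T ≤ 𝐍(K)) (ha : a ∈ K) (hb : b ∈ c.T ⊔ F)
    (e : ∀ y ∈ c.T, a * b * y * (a * b)⁻¹ * y⁻¹ ∈ C) : b ∈ c.T :=
  h.mem_T_of_cent hb (mem_cent.2 fun y hy => by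
    have h1 := norm_mem (h.TF_norm hb) hy
    have h2 := e y hy
    rw [show a * b * y * (a * b)⁻¹ * y⁻¹ = a * (b * y * b⁻¹ * a⁻¹ * (b * y * b⁻¹)⁻¹) *
      (b * y * b⁻¹ * y⁻¹) by group,
      mul_mem_cancel_left (hKC (mul_mem ha (norm_mem (hT h1) (inv_mem ha))))] at h2
    have := eq_one_of_mem_inf hC h2 (mul_mem h1 (inv_mem hy))
    rw [mul_inv_eq_one, mul_inv_eq_iff_eq_mul] at this
    exact this.symm)

theorem eq_Q (hP : IsPGroup 3 P) (hQ : c.Q ≤ P) (ht : P ≤ 𝐂[c.t]) (hT : c.T ≤ 𝐍(P)) :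
    P = c.Q := by
  have : Fact (Nat.Prime 3) := ⟨Nat.prime_three⟩
  have h1 : P ⊓ c.L = c.Q := h.sylow_Q.eq_of_le hP.to_inf_left (le_inf hQ h.QL) inf_le_right
  refine le_antisymm (fun g hg => ?_) hQ
  obtain ⟨x, hx, y, hy, φ, hφ, rfl⟩ := h.decQ (h.mem_E (ht hg) (odd_orderOf_of_mem
    (odd_card_of_isPGroup Nat.prime_three (by decide) hP) hg)) (mem_norm_of fun x hx => by
      rw [← h1] at hx ⊢; exact ⟨cmem hg hx.1, norm_mem (h.ct_norm (ht hg)) hx.2⟩)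
  rw [mul_assoc] at hg ⊢
  have := h.mem_KT le_rfl h.QT_bot (h.TQ h.hq0) hx (mul_mem_sup hy hφ) fun z hz => by
    rw [← h1]
    exact mem_inf.2 ⟨by simpa only [mul_assoc] using mul_mem hg (norm_mem (hT hz) (inv_mem hg)),
      mul_mem (norm_mem (h.ct_norm (ht hg)) (h.TL hz)) (inv_mem (h.TL hz))⟩
  exact h1 ▸ mem_inf.2 ⟨hg, mul_mem (h.QL hx) (h.TL this)⟩

theorem eq_t (hF : F ≠ ⊥) (hy : y ∈ c.T) (h1 : y ≠ 1) (ha : orderOf a = 2) (hc : a ∈ 𝐂[y]) :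
    a = c.t := by
  obtain ⟨z, hz, e⟩ := GF.conj_of_not_four h.ot (mem_cent1_comm.1 (h.L_le (h.TL hy))) ha hc
    (h.four_cy hy h1)
  rw [← e, conj_eq_of_mem_cent1 (h.cent_T hF hy h1 hz)]

theorem ti_T (hF : F ≠ ⊥) (hy : y ∈ c.T) (h1 : y ≠ 1) (e : g * y * g⁻¹ ∈ c.T) : g ∈ 𝐂[c.t] :=
  mem_cent1_of_conj_eq (h.eq_t hF e (conj_ne_one_iff.2 h1) (by rw [U4.orderOf_conj, h.ot])
    (conj_cent g (h.comm y (h.TL hy)).symm))

variable (hF : F ≠ ⊥) (hU : MU c F U)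
include hU

theorem U_ct : U ⊓ 𝐂[c.t] = c.Q :=
  h.eq_Q hU.pU.to_inf_left (le_inf hU.QU (h.QL.trans h.L_le)) inf_le_right fun y hy =>
    mem_norm_of fun x hx => ⟨norm_mem (hU.TU hy) hx.1, cmem (h.L_le (h.TL hy)) hx.2⟩

include hF

theorem U_reg (hy : y ∈ c.T) (h1 : y ≠ 1) : U ⊓ 𝐂[y] = ⊥ := eq_bot_of_forall fun x hx => by
  have h2 : x ∈ c.Q := h.U_ct hU ▸ mem_inf.2 ⟨hx.1, h.cent_T hF hy h1 hx.2⟩
  exact eq_one_of_mem_inf h.QT_bot h2 (h.centT y hy h1 x (h.QL h2) (mem_cent1.1 hx.2))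

theorem not_cyc (hY : Y ≤ U) (hT : c.T ≤ 𝐍(Y)) (h1 : Y ≠ ⊥) : ¬ IsCyclic Y :=
  h.not_cyclic (hU.pU.to_le hY) hT h1 fun y hy y1 =>
    le_bot_iff.1 ((inf_le_inf_right _ hY).trans (h.U_reg hF hU hy y1).le)

theorem exists_KB (hM : U ≤ M) (hD : c.D ≤ M) (hFM : F ≤ M) (h4 : ¬ 4 ∣ Nat.card M) :
    ∃ K, KB c F U M K := by
  have : Fact (Nat.Prime 3) := ⟨Nat.prime_three⟩
  have h1 := nilp2_of_not_four_dvd h4
  have hT : c.T ≤ Od M := h1.le_Od (le_sup_left.trans hD) h.oddT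
  have h2 : IsPiHallOf {p | p ∣ s.natAbs} c.T (Od M) :=
    ⟨hT, fun p _ e => h.cardT ▸ e, fun p hp e => h.hall_T' hp e hF hT⟩
  have h3 := norm_sup_of_hall (solvable_Od M) h2 (le_cent_of_isCyclic h.cycT)
  set K := piCoreOf {p | p ∣ s.natAbs}ᶜ (Od M)
  have k1 : K ≤ Od M := pcore_le _ _
  have k2 : M ≤ 𝐍(K) := (le_norm_Od M).trans (norm_le_norm_pcore _ _)
  have kT : c.T ≤ 𝐍(K) := (le_sup_left.trans hD).trans k2
  have k3 : (Nat.card K).Coprime (Nat.card c.T) := Nat.coprime_of_dvd fun p hp e e' =>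
    pcore_pi _ _ p hp e (h.cardT ▸ e')
  have k4 := (disjoint_of_coprime_natCard k3).eq_bot
  have k5 : ∀ y ∈ c.T, y ≠ 1 → K ⊓ 𝐂[y] = ⊥ := fun y hy y1 => eq_bot_of_forall fun g hg => by
    have m1 := h.mem_TF hy y1 (h.cent_T hF hy y1 hg.2) (odd_of_mem_Od (k1 hg.1))
      (by rwa [conj_eq_of_mem_cent1 hg.2])
    exact eq_one_of_mem_inf k4 hg.1 (h.mem_KT le_rfl k4 kT (one_mem _) m1 fun z hz => by
      simpa only [mul_assoc, one_mul] using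
        mul_mem (mem_inf.1 hg).1 (norm_mem (kT hz) (inv_mem (mem_inf.1 hg).1)))
  have k6 : Od M ≤ K ⊔ (c.T ⊔ F) := fun g hg => by
    obtain ⟨l, hl, hd⟩ := U4.exists_prime_dvd_card h.T_ne
    have := Fact.mk hl
    obtain ⟨P, hP⟩ := IsSylowIn.exists_in (p := l) c.T
    obtain ⟨y, hy, y1⟩ := exists_ne_one (hP.ne_bot hd)
    obtain ⟨κ, m1, m2⟩ := (sylow_of_sylow_hall hl hP ⟨le_sup_right, h2.2.1, fun p hp e e' =>
      h.hall_T' hp e hF le_sup_right e'⟩ (h.cardT ▸ hd) : IsSylowIn l P (K ⊔ c.T)).frattini_elem (h3 hg)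
    have m3 := hP.le (norm_mem m2 hy)
    exact (mul_mem_cancel_left (sup_le_sup_left le_sup_left K m1)).1 (mem_sup_right
      (h.mem_TF (hP.le hy) y1 (h.ti_T hF (hP.le hy) y1 m3)
        (odd_of_mem_Od (mul_mem (sup_le k1 hT m1) hg)) m3))
  have k7 := isNilpotent_of_semiregular kT h.T_ne k5
  have k8 : ∀ x ∈ U, x ∈ K ⊔ c.T → x ∈ K := fun x hx e => mem_of_cop (sup_le le_normalizer kT) e
    (cop_of_pgroup Nat.prime_three hU.pU hx fun e =>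
      h.not_three_s (h.cardT ▸ e.trans (relIndex_sup_dvd kT).1))
  have k9 : U ≤ K := fun x hx => by
    have m1 := h1.le_Od hM hU.odd hx
    obtain ⟨a, ha, b, hb, rfl⟩ := (mem_sup_iff_of_le_normalizer'
      (sup_le kT (hFM.trans k2))).1 (k6 m1)
    exact k8 _ hx (mul_mem_sup ha (h.mem_KT le_rfl k4 kT ha hb fun y hy => k8 _
      (by simpa only [mul_assoc] using mul_mem hx (norm_mem (hU.TU hy) (inv_mem hx)))
      (mul_mem (norm_mem (h3 m1) (mem_sup_right hy)) (mem_sup_right (inv_mem hy)))))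
  have k10 := le_pcore_of_nil k7 k9 (isPiSubgroup_of_isPGroup hU.pU (Set.mem_singleton 3))
  have k11 := k2.trans (norm_le_norm_pcore {3} K)
  exact ⟨K, k1, k2, k7, k3, k5, k6, le_antisymm (hU.max _ (pcore_pgroup 3 K) (hD.trans k11)
    (hFM.trans k11) k10) k10, h4⟩

theorem four_norm (hY : IsPGroup 3 Y) (hc : ¬ IsCyclic Y) : ¬ 4 ∣ Nat.card 𝐍(Y) := fun e =>
  let ⟨_, k⟩ := h.conj_F hY e
  hc (isCyclic_conj.1 (isCyclic_of_le' h.cycF k))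

theorem norm_le (hY : IsPGroup 3 Y) (h1 : Y ≠ ⊥) (hn : U ≤ 𝐍(Y)) (hD : c.D ≤ 𝐍(Y))
    (hFY : F ≤ 𝐍(Y)) : 𝐍(Y) ≤ 𝐍(U) := by
  have h2 : Y ≤ U := le_sup_right.trans (hU.max _ (H1.isPGroup_sup_of_le_normalizer hU.pU hY hn)
    (fun g hg => mem_norm_sup (hU.DU hg) (hD hg)) (fun g hg => mem_norm_sup (hU.FU hg) (hFY hg))
    le_sup_left)
  obtain ⟨K, hK⟩ := h.exists_KB hF hU hn hD hFY
    (h.four_norm hF hU hY (h.not_cyc hF hU h2 (le_sup_left.trans hD) h1))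
  exact hK.eq ▸ hK.norm.trans (norm_le_norm_pcore _ _)

theorem U_ne : U ≠ ⊥ :=
  let ⟨_, hd, d1, _⟩ := h.dQ; U4.ne_bot_of_mem (hU.QU hd) d1

theorem exists_K : ∃ K, KB c F U 𝐍(U) K :=
  h.exists_KB hF hU le_normalizer hU.DU hU.FU
    (h.four_norm hF hU hU.pU (h.not_cyc hF hU le_rfl hU.TU (h.U_ne hF hU)))

end GB

end CfsgLib.JR
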