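import Cfsg.Agent.Lib.JR.BFrame

/-!
# Arithmetic, the normalizers of `S` and of a four-group, non-real elements
-/

set_option autoImplicit false
set_option linter.unusedSimpArgs false
set_option linter.unusedSectionVars false

namespace CfsgLib.JR

open Subgroup Cfsg CfsgLib.FT CfsgLib.FT.BGN CfsgLib.FT.U4 CfsgLib.GW

variable {G : Type*} [Group G] [Fintype G] {q r s : ℤ} {c : Cfg G} {a b f g i n w x y : G}
  {F H M N P : Subgroup G}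

namespace Par

variable (h : Par q r s 3)
include h

theorem exists_n : q < 0 ∧ ∃ n, Odd n ∧ q.natAbs = 3 ^ n := by
  obtain ⟨n, hn⟩ := h.qp
  have := h.hq
  obtain ⟨k, hk⟩ := h.oddr
  have h9 : ∀ m, (3 ^ 2) ^ m % 8 = 1 := fun m => by rw [Nat.pow_mod]; simp
  rcases Nat.even_or_odd' n with ⟨m, rfl | rfl⟩
  · have := h9 m
    rw [pow_mul] at hn
    generalize (3 ^ 2) ^ m = x at *
    omega
  · have := h9 m
    refine ⟨?_, _, ⟨m, rfl⟩, hn⟩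
    rw [pow_succ, pow_mul] at hn
    generalize (3 ^ 2) ^ m = x at *
    omega

theorem qs : q.natAbs = 2 * s.natAbs + 1 := by
  have := h.exists_n.1; have := h.hq; have := h.hs; omega
theorem qr : q.natAbs + 1 = 4 * r.natAbs := by
  have := h.exists_n.1; have := h.hq; omega
theorem not_three_s : ¬ 3 ∣ s.natAbs := by have := h.p_dvd; have := h.qs; omega
theorem not_three_r : ¬ 3 ∣ r.natAbs := by have := h.p_dvd; have := h.qr; omega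
theorem not_five_s : ¬ 5 ∣ s.natAbs := by
  obtain ⟨-, n, ⟨m, rfl⟩, hn⟩ := h.exists_n
  have h9 : ∀ m, (3 ^ 2) ^ m % 5 = 1 ∨ (3 ^ 2) ^ m % 5 = 4 := fun m => by
    induction m with
    | zero => simp
    | succ m ih => rw [pow_succ _ m]; omega
  have := h.qs
  have := h9 m
  rw [pow_succ, pow_mul] at hn
  generalize (3 ^ 2) ^ m = x at *
  omega

end Par

/-- An element of order `3` permuting `t, u, tu`. -/
structure WB (c : Cfg G) (F : Subgroup G) (w : G) : Prop where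
  ow : orderOf w = 3
  wt : w * c.t * w⁻¹ = c.u
  wu : w * c.u * w⁻¹ = c.t * c.u
  wS : w ∈ 𝐍(c.S)
  wF : w ∈ 𝐂(F)
  wL : ∃ g, g * w * g⁻¹ ∈ c.L

namespace GF

variable (h : GF q r s c F)
include h

theorem hq0 : q < 0 := h.exists_n.1

theorem fix' (hf : f ∈ F) (hk : (orderOf f).Prime) : ∃ m j : ℕ, m + 1 = 3 ^ (j + 1) ∧
    (m + 1) ^ orderOf f = q.natAbs ∧ 2 * Nat.card ↥(c.L ⊓ 𝐂[f]) = (m + 1) * (m * (m + 2)) ∧
    Nat.card 𝐂[f] = Nat.card F * ((m + 1) ^ 3 * ((m + 2) * (m ^ 2 + m + 1)) * m) ∧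
    orderOf f ∣ (m + 1) ^ 2 * (m ^ 2 + m + 1) := by
  obtain ⟨q0, h1, h2, h3, h4⟩ := h.fix f hf hk
  obtain ⟨n, hn⟩ := h.qp
  have h5 := h.five_le
  obtain ⟨j, -, hj⟩ := (Nat.dvd_prime_pow Nat.prime_three).1
    (hn ▸ h1 ▸ dvd_pow_self q0 hk.ne_zero : q0 ∣ 3 ^ n)
  obtain ⟨j, rfl⟩ : ∃ i, j = i + 1 := Nat.exists_eq_add_one.2 (Nat.pos_of_ne_zero fun e => by
    rw [hj, e, pow_zero, one_pow] at h1; omega)
  obtain ⟨m, rfl⟩ : ∃ m, q0 = m + 1 := Nat.exists_eq_add_one.2 (hj ▸ by positivity)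
  refine ⟨m, j, hj, h1, ?_, ?_, ?_⟩
  · rw [h2, show (m + 1) ^ 2 = m * (m + 2) + 1 by ring, Nat.add_sub_cancel]
  · rw [h3, Nat.add_sub_cancel]; ring
  · rwa [show (m + 1) ^ 2 = m ^ 2 + m + (m + 1) by ring, Nat.add_sub_cancel,
      show m ^ 2 + m + (m + 1) = (m + 1) ^ 2 by ring] at h4

theorem exists_f {k : ℕ} (hk : k.Prime) (hd : k ∣ Nat.card F) : ∃ f ∈ F, orderOf f = k := by
  have := Fact.mk hk
  obtain ⟨⟨f, hf⟩, e⟩ := exists_prime_orderOf_dvd_card' k hd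
  exact ⟨f, hf, (orderOf_coe (⟨f, hf⟩ : F)).trans e⟩

theorem key_mod {k : ℕ} (hk : k.Prime) (hd : k ∣ Nat.card F) :
    (q.natAbs : ZMod k) ^ 2 * ((q.natAbs : ZMod k) ^ 2 - q.natAbs + 1) = 0 := by
  have := Fact.mk hk
  obtain ⟨f, hf, rfl⟩ := h.exists_f hk hd
  obtain ⟨m, -, -, h1, -, -, h2⟩ := h.fix' hf hk
  have h3 := (ZMod.natCast_eq_zero_iff _ _).2 h2
  rw [← h1, Nat.cast_pow, ZMod.pow_card]
  push_cast at h3 ⊢
  linear_combination h3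

theorem cop_Fs : (Nat.card F).Coprime s.natAbs := Nat.coprime_of_dvd fun k hk h1 h2 => by
  have := Fact.mk hk
  have h3 := h.key_mod hk h1
  rw [h.qs, Nat.cast_add, Nat.cast_mul, (ZMod.natCast_eq_zero_iff _ _).2 h2] at h3
  norm_num at h3

theorem cop_Fr : (Nat.card F).Coprime r.natAbs := Nat.coprime_of_dvd fun k hk h1 h2 => by
  have := Fact.mk hk
  have h3 := h.key_mod hk h1
  have h4 : (q.natAbs : ZMod k) = -1 := by
    rw [eq_neg_iff_add_eq_zero, ← Nat.cast_add_one, h.qr, Nat.cast_mul,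
      (ZMod.natCast_eq_zero_iff _ _).2 h2, mul_zero]
  rw [h4] at h3
  have h5 : ((3 : ℕ) : ZMod k) = 0 := by push_cast; linear_combination h3
  rw [ZMod.natCast_eq_zero_iff, Nat.prime_dvd_prime_iff_eq hk Nat.prime_three] at h5
  exact h.not_three_r (h5 ▸ h2)

theorem mem_S_of (h2 : x * x = 1) (hc : x ∈ 𝐂(c.S)) : x ∈ c.S :=
  (h.sylow_S.eq_of_le (H1.isPGroup_sup_of_le_normalizer (isPGroup_of_mul_self h2)
    h.sylow_S.isPGroup (zpowers_le.2 (U4.cent_le_norm _ hc))) le_sup_right le_top).le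
    (mem_sup_left (mem_zpowers x))

theorem sq_of_cent (hx : x ∈ c.L ⊓ 𝐂[c.u]) (hv : x ∈ 𝐂[c.v]) : x * x = 1 := by
  by_cases hK : x ∈ c.K
  · rw [← eq_inv_iff_mul_eq_one, ← h.vK _ hK, ← mem_cent1.1 hv, mul_inv_cancel_right]
  · exact (h.inv_of_notMem_K hx hK).1

theorem mem_F (hg : g ∈ 𝐂(c.S)) (ho : Odd (orderOf g)) : g ∈ F := by
  obtain ⟨x, hx, φ, hφ, rfl⟩ := h.dec (h.mem_E (U4.cent_le_cent1 h.t_S hg) ho)
  have h1 := (mul_mem_cancel_right (h.FS hφ)).1 hg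
  have h2 := h.sq_of_cent ⟨hx, U4.cent_le_cent1 h.u_S h1⟩ (U4.cent_le_cent1 h.v_S h1)
  refine zpowers_le.2 ?_ (mem_zpowers_sq ho)
  rw [mul_assoc, ← mul_assoc φ, ← mem_cent.1 (h.FS hφ) x (h.mem_S_of h2 h1), ← mul_assoc,
    ← mul_assoc, h2, one_mul]
  exact mul_mem hφ hφ

theorem ns_F : 𝐍(c.S) ≤ 𝐍(F) := fun _ hg => mem_norm_of fun _ hx =>
  h.mem_F (norm_mem (U4.norm_le_norm_cent _ hg) (h.FS hx)) (by rw [U4.orderOf_conj]; exact h.ordF hx)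

theorem cent_F (hx : x ∈ c.L) (hn : x ∈ 𝐍(F)) : x ∈ 𝐂(F) := mem_cent.2 fun φ hφ => by
  have := eq_one_of_mem_inf h.inf_LF (x := x * φ * x⁻¹ * φ⁻¹)
    (by simpa [mul_assoc] using mul_mem hx (norm_mem (h.FL hφ) (inv_mem hx)))
    (mul_mem (norm_mem hn hφ) (inv_mem hφ))
  rw [mul_inv_eq_one, mul_inv_eq_iff_eq_mul] at this
  exact this.symm

theorem S_cent_F : c.S ≤ 𝐂(F) := le_centralizer_iff.1 h.FS

theorem ns_ct (hg : g ∈ 𝐍(c.S)) (hc : g ∈ 𝐂[c.t]) : g ∈ 𝐂(F) := by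
  obtain ⟨x, hx, φ, hφ, rfl⟩ := h.dec_ct hc
  have h1 := (mul_mem_cancel_right (U4.cent_le_norm _ (h.FS hφ))).1 hg
  refine mul_mem (hx.elim (fun e => h.cent_F e (h.ns_F h1)) fun e => ?_)
    (le_cent_of_isCyclic h.cycF hφ)
  exact (mul_mem_cancel_left (h.S_cent_F h.t_S)).1
    (h.cent_F e (h.ns_F (mul_mem (le_normalizer h.t_S) h1)))

theorem exists_d : ∃ d ∈ c.L, orderOf d = 3 ∧ d * c.u * d⁻¹ = c.v ∧
    d * c.v * d⁻¹ = c.u * c.v ∧ d ∈ 𝐍(c.S) := by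
  have h1 : IsSylowIn 2 (V c.u c.v) c.L := by
    refine ⟨h.VL_le, h.four.isPGroup_V, ?_⟩
    have := card_mul_relIndex h.VL_le
    rw [h.four.card_V, h.card, mul_assoc, mul_assoc] at this
    rw [Nat.eq_of_mul_eq_mul_left (by norm_num) this, ← even_iff_two_dvd, Nat.not_even_iff_odd]
    exact h.odd_q'.mul (h.odd_r'.mul h.odd_s')
  obtain ⟨g, hg, e⟩ := h.one _ h.uL _ h.vL h.ou h.ov
  obtain ⟨n, hn, e1⟩ := exists_norm_conj h1 h.four.V_le_cent1 (V_comm c.u c.v ▸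
    h.four.symm.V_le_cent1) hg e
  have e2 := h.cyc_of_norm h.four hn.2 e1
  have e3 : n * (c.u * c.v) * n⁻¹ = c.u := by
    rw [← conj_mul, e1, e2, h.four.comm, ← mul_assoc, h.four.ss, one_mul]
  have h3 : n * n * n ∈ 𝐂[c.u] := mem_cent1_of_conj_eq (by
    rw [conj_conj, conj_conj, e1, e2, e3])
  have h4 : n * n * n ∈ 𝐂[c.v] := mem_cent1_of_conj_eq (by
    rw [conj_conj, conj_conj, e2, e3, e1])
  have h5 := h.sq_of_cent ⟨mul_mem (mul_mem hn.1 hn.1) hn.1, h3⟩ h4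
  have k : ∀ a, n * n * n ∈ 𝐂[a] → n * (n * n * n) * a * (n * (n * n * n))⁻¹ = n * a * n⁻¹ :=
    fun a ha => by rw [conj_conj, conj_eq_of_mem_cent1 ha]
  have hd := mul_mem hn.1 (mul_mem (mul_mem hn.1 hn.1) hn.1)
  refine ⟨n * (n * n * n), hd, orderOf_eq_prime ?_ fun e => h.four.ne ?_, by rw [k _ h3, e1],
    by rw [k _ h4, e2], mem_norm_sup (mul_mem hn.2 (mul_mem (mul_mem hn.2 hn.2) hn.2))
      (U4.cent_le_norm _ (by rw [U4.cent_zpowers]; exact h.L_le hd))⟩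
  · calc _ = n * n * n * (n * n * n) * (n * n * n * (n * n * n)) := by
          simp only [pow_succ, pow_zero, one_mul, mul_assoc]
      _ = 1 := by rw [h5, one_mul]
  · rw [← e1, ← k _ h3, e]; simp

theorem conj_VL (hb : b ∈ V c.u c.v) (h1 : b ≠ 1) :
    ∃ e ∈ 𝐍(c.S), e * c.t * e⁻¹ = c.t ∧ e * b * e⁻¹ = c.u := by
  obtain ⟨d, hd, -, d1, d2, dS⟩ := h.exists_d
  have d3 : d * (c.u * c.v) * d⁻¹ = c.u := by
    rw [← conj_mul, d1, d2, h.four.comm, ← mul_assoc, h.four.ss, one_mul]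
  rcases h.four.mem_V.1 hb with rfl | rfl | rfl | rfl
  · exact absurd rfl h1
  · exact ⟨1, one_mem _, by simp, by simp⟩
  · exact ⟨d * d, mul_mem dS dS, conj_eq_of_mem_cent1 (h.L_le (mul_mem hd hd)), by
      rw [conj_conj, d2, d3]⟩
  · exact ⟨d, dS, conj_eq_of_mem_cent1 (h.L_le hd), d3⟩

theorem exists_w : ∃ w, WB c F w := by
  obtain ⟨d, hd, od, d1, d2, dS⟩ := h.exists_d
  have k2 : ∃ g ∈ 𝐍(c.S), g * c.u * g⁻¹ = c.t ∧ g * c.v * g⁻¹ ∈ V c.t c.u := by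
    obtain ⟨g, e⟩ := h.conj_inv2 h.ou h.ot
    obtain ⟨n, hn, e⟩ := exists_norm_conj h.sylow_S (h.S_comm h.u_S) h.S_le (mem_top g) e
    rcases h.mem_S.1 (norm_mem hn.2 h.v_S) with e1 | e1
    · obtain ⟨z, hz, z1, z2⟩ := h.conj_VL e1 (conj_ne_one_iff.2 h.four.s1)
      exact ⟨z * n, mul_mem hz hn.2, by rw [conj_conj, e, z1], by
        rw [conj_conj, z2]; exact s_mem_V _ _⟩
    · obtain ⟨z, hz, z1, z2⟩ := h.conj_VL e1
        (by rw [← e, conj_mul]; exact conj_ne_one_iff.2 h.four.ts1)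
      refine ⟨z * n, mul_mem hz hn.2, by rw [conj_conj, e, z1], ?_⟩
      rw [← conj_mul, z1] at z2
      refine (mul_mem_cancel_left (t_mem_V c.t c.u)).1 ?_
      rw [conj_conj, z2]
      exact s_mem_V _ _
  obtain ⟨g, hg, g1, g2⟩ := k2
  have h4 := h.four.conj g
  rw [g1] at h4
  have w1 : g * d * g⁻¹ * c.t * (g * d * g⁻¹)⁻¹ = g * c.v * g⁻¹ := by rw [← g1, ← d1]; group
  have w2 : g * d * g⁻¹ * (g * c.v * g⁻¹) * (g * d * g⁻¹)⁻¹ = c.t * (g * c.v * g⁻¹) := by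
    rw [← g1, conj_mul (a := c.u), ← d2]; group
  have ow : orderOf (g * d * g⁻¹) = 3 := by rw [U4.orderOf_conj, od]
  have wS := cmem hg dS
  have wF := norm_mem (U4.norm_le_norm_cent _ (h.ns_F hg)) (h.ns_ct dS (h.L_le hd))
  have wL : g⁻¹ * (g * d * g⁻¹) * g⁻¹⁻¹ ∈ c.L := by simpa [mul_assoc] using hd
  rcases h.four_tu.mem_V.1 g2 with e | e | e | e
  · exact absurd e h4.s1
  · exact absurd e.symm h4.ne
  · exact ⟨_, ow, w1.trans e, e ▸ w2, wS, wF, _, wL⟩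
  · rw [e] at w1 w2
    rw [← mul_assoc c.t, h.tt, one_mul] at w2
    generalize g * d * g⁻¹ = w at *
    have w3 : w * c.u * w⁻¹ = c.t := by
      rw [← conj_mul, w1] at w2
      exact mul_left_cancel (a := c.t * c.u) (by
        rw [w2, h.four_tu.comm, mul_assoc, h.tt, mul_one])
    refine ⟨w⁻¹, by rw [orderOf_inv, ow], ?_, ?_, inv_mem wS, inv_mem wF, g⁻¹, by
      simpa [mul_assoc] using inv_mem wL⟩
    · conv_lhs => rw [← w3]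
      group
    · conv_lhs => rw [← w2]
      group

theorem ns_cent : 𝐍(c.S) ≤ 𝐂(F) := fun g hg => by
  obtain ⟨w, hw⟩ := h.exists_w
  have key : ∀ m ∈ 𝐍(c.S), m ∈ 𝐂(F) → ∀ e ∈ 𝐍(c.S), e * c.t * e⁻¹ = c.t →
      e * (g * c.t * g⁻¹) * e⁻¹ = m * c.t * m⁻¹ → g ∈ 𝐂(F) := fun m m1 m2 e e1 e2 e3 => by
    have := h.ns_ct (mul_mem (inv_mem m1) (mul_mem e1 hg)) (mem_cent1_of_conj_eq (by
      rw [conj_conj, conj_conj, e3]; group))
    rwa [mul_mem_cancel_left (inv_mem m2),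
      mul_mem_cancel_left (h.ns_ct e1 (mem_cent1_of_conj_eq e2))] at this
  rcases h.mem_S.1 (norm_mem hg h.t_S) with e | e
  · obtain ⟨z, hz, z1, z2⟩ := h.conj_VL e (conj_ne_one_iff.2 h.four_tu.t1)
    exact key w hw.wS hw.wF z hz z1 (z2.trans hw.wt.symm)
  · by_cases e1 : c.t * (g * c.t * g⁻¹) = 1
    · exact h.ns_ct hg (mem_cent1_of_conj_eq (by rw [eq_inv_of_mul_eq_one_right e1, h.four_tu.ti]))
    obtain ⟨z, hz, z1, z2⟩ := h.conj_VL e e1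
    refine key (w * w) (mul_mem hw.wS hw.wS) (mul_mem hw.wF hw.wF) z hz z1 ?_
    rw [← conj_mul, z1] at z2
    rw [conj_conj w, hw.wt, hw.wu, ← z2, ← mul_assoc c.t c.t, h.tt, one_mul]

/-- Conjugate elements of `F` are equal. -/
theorem eq_of_conj (hf : f ∈ F) (e : g * f * g⁻¹ ∈ F) : g * f * g⁻¹ = f := by
  obtain ⟨n, hn, e1⟩ := exists_norm_conj h.sylow_S (h.S_cent_F.trans (U4.cent_le_cent1 hf))
    (h.S_cent_F.trans (U4.cent_le_cent1 e)) (mem_top g) rfl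
  rw [← e1, conj_eq_of_mem_cent1 (U4.cent_le_cent1 hf (h.ns_cent hn.2))]

theorem FR : F ≤ 𝐍(c.R) := fun _ hφ => mem_norm_of fun x hx => h.mem_R_of_odd
  ⟨norm_mem (h.FL hφ) (h.RL hx), cmem (h.F_le h.u_S hφ) (mem_cent1.2 (h.uR x hx))⟩
  (by rw [U4.orderOf_conj]; exact odd_orderOf_of_mem h.oddR hx)

theorem card_RF : Nat.card ↥(c.R ⊔ F) = r.natAbs * Nat.card F := by
  rw [card_sup' h.FR (le_bot_iff.1 ((inf_le_inf_right _ h.RL).trans h.inf_LF.le)), h.cardR]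

theorem odd_RF : Odd (Nat.card ↥(c.R ⊔ F)) := h.card_RF ▸ h.odd_r'.mul h.oddF

theorem S_le_cv : c.S ≤ 𝐂(V c.t c.u) := by
  rw [cent_V]; exact le_inf h.S_le (h.S_comm h.u_S)

theorem RF_le : c.R ⊔ F ≤ 𝐂(V c.t c.u) := by
  rw [cent_V]
  exact sup_le (le_inf (h.RL.trans h.L_le) fun x hx => mem_cent1.2 (h.uR x hx))
    (le_inf (h.F_le h.t_S) (h.F_le h.u_S))

theorem S_R : c.S ≤ 𝐍(c.R) :=
  sup_le (V_le h.u_norm h.vR.mem_norm) (zpowers_le.2 (h.t_norm h.RL))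

theorem S_RF : c.S ≤ 𝐍(c.R ⊔ F) := fun _ ha =>
  mem_norm_sup (h.S_R ha) (U4.cent_le_norm _ (h.S_cent_F ha))

theorem dec_cv (hg : g ∈ 𝐂(V c.t c.u)) : ∃ a ∈ c.S, a * g ∈ c.R ⊔ F := by
  rw [cent_V] at hg
  obtain ⟨x, hx, φ, hφ, rfl⟩ := h.dec_ct hg.1
  have h1 := (mul_mem_cancel_right (h.F_le h.u_S hφ)).1 hg.2
  have key : ∀ y ∈ c.L, y ∈ 𝐂[c.u] → ∃ a ∈ c.S, a * y ∈ c.R := fun y hy e => by
    rcases h.centu y hy (mem_cent1.1 e) with e | e | e | e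
    exacts [⟨1, one_mem _, by simpa⟩, ⟨_, h.u_S, e⟩, ⟨_, h.v_S, e⟩, ⟨_, mul_mem h.u_S h.v_S, e⟩]
  rcases hx with e | e
  · obtain ⟨a, ha, e⟩ := key x e h1
    exact ⟨a, ha, by rw [← mul_assoc]; exact mul_mem_sup e hφ⟩
  · obtain ⟨a, ha, e⟩ := key _ e (mul_mem (h.S_comm h.u_S h.t_S) h1)
    exact ⟨a * c.t, mul_mem ha h.t_S, by
      rw [← mul_assoc, mul_assoc a]; exact mul_mem_sup e hφ⟩

theorem mem_RF (hg : g ∈ 𝐂(V c.t c.u)) (ho : Odd (orderOf g)) : g ∈ c.R ⊔ F := by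
  obtain ⟨a, ha, e⟩ := h.dec_cv hg
  refine zpowers_le.2 ?_ (mem_zpowers_sq ho)
  have := mul_mem (norm_mem' (h.S_RF ha) e) e
  rwa [show a⁻¹ * (a * g) * a * (a * g) = g * (a * a) * g by group, h.sq_S ha, mul_one] at this

theorem card_cv : Nat.card 𝐂(V c.t c.u) = 8 * (r.natAbs * Nat.card F) := by
  have : 𝐂(V c.t c.u) = (c.R ⊔ F) ⊔ c.S := le_antisymm (fun g hg => by
    obtain ⟨a, ha, e⟩ := h.dec_cv hg
    exact (mul_mem_cancel_left (mem_sup_right ha)).1 (mem_sup_left e)) (sup_le h.RF_le h.S_le_cv)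
  rw [this, card_sup' h.S_RF (disjoint_of_coprime_natCard (by
    rw [h.card_S]; exact (Nat.coprime_two_right.2 h.odd_RF).pow_right 3)).eq_bot, h.card_RF,
    h.card_S, mul_comm]

theorem mem_R' (hg : g ∈ 𝐂(V c.t c.u)) (ho : Odd (orderOf g))
    (hc : (orderOf g).Coprime (Nat.card F)) : g ∈ c.R := by
  rw [cent_V] at hg
  exact h.mem_R_of_odd ⟨h.mem_L' hg.1 ho hc, hg.2⟩ ho

theorem nv_R : 𝐍(V c.t c.u) ≤ 𝐍(c.R) := fun _ hg => mem_norm_of fun x hx =>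
  h.mem_R' (norm_mem (U4.norm_le_norm_cent _ hg) (h.RF_le (mem_sup_left hx)))
    (by rw [U4.orderOf_conj]; exact odd_orderOf_of_mem h.oddR hx)
    (by rw [U4.orderOf_conj]; exact h.cop_Fr.symm.coprime_dvd_left (h.cardR ▸ orderOf_dvd_natCard _ hx))

theorem nv_RF : 𝐍(V c.t c.u) ≤ 𝐍(c.R ⊔ F) := fun _ hg => mem_norm_of fun _ hx =>
  h.mem_RF (norm_mem (U4.norm_le_norm_cent _ hg) (h.RF_le hx))
    (by rw [U4.orderOf_conj]; exact odd_orderOf_of_mem h.odd_RF hx)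

theorem conj_four (h4 : Four a b) : ∃ g, g •ᶜ V a b = V c.t c.u := by
  obtain ⟨g, e⟩ := h.conj_inv2 h4.ot h.ot
  have h1 := h4.conj g
  rw [e] at h1
  have key : ∀ b', Four c.t b' → b' ∈ c.L ⊔ F → ∃ z, z •ᶜ V c.t b' = V c.t c.u := fun b' k1 k2 => by
    obtain ⟨z, hz, e'⟩ := h.one _ (h.inv_mem_L k2 k1.os) _ h.uL k1.os h.ou
    exact ⟨z, by rw [← V_conj, e', conj_eq_of_mem_cent1 (h.L_le hz)]⟩
  obtain ⟨z, hz⟩ : ∃ z, z •ᶜ V c.t (g * b * g⁻¹) = V c.t c.u :=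
    (h.mem_ct.1 h1.s_cent).elim (key _ h1) fun e' => h1.V_mul ▸ key _ h1.mul e'
  exact ⟨z * g, by rw [map_conj_mul, ← V_conj, e, hz]⟩

section
variable (hw : WB c F w)
include hw

theorem wtu : w * (c.t * c.u) * w⁻¹ = c.t := by
  rw [← conj_mul, hw.wt, hw.wu, h.four_tu.comm, ← mul_assoc, h.uu, one_mul]

theorem w_nv : w ∈ 𝐍(V c.t c.u) := mem_normalizer_of_map_conj_eq (by
  rw [← V_conj, hw.wt, hw.wu, h.four_tu.comm, h.four_tu.symm.V_mul, V_comm])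

theorem conj_w (ha : a ∈ V c.t c.u) (h1 : a ≠ 1) :
    ∃ z ∈ zpowers w, z * c.t * z⁻¹ = a := by
  rcases h.four_tu.mem_V.1 ha with rfl | rfl | rfl | rfl
  · exact absurd rfl h1
  · exact ⟨1, one_mem _, by simp⟩
  · exact ⟨w, mem_zpowers _, hw.wt⟩
  · exact ⟨w * w, mul_mem (mem_zpowers _) (mem_zpowers _), by rw [conj_conj, hw.wt, hw.wu]⟩

end

theorem trans_of (hn : n ∈ M ⊓ 𝐍(V c.t c.u)) (hc : n ∉ 𝐂(V c.t c.u)) (ha : a ∈ V c.t c.u)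
    (h1 : a ≠ 1) : ∃ x ∈ M ⊓ 𝐍(V c.t c.u), x * c.t * x⁻¹ = a := by
  have h4 := h.four_tu
  have k0 : ∃ x ∈ M ⊓ 𝐍(V c.t c.u), x * c.t * x⁻¹ = c.t := ⟨1, one_mem _, by simp⟩
  rcases h4.mem_V.1 (norm_mem hn.2 (t_mem_V _ _)) with e | e | e | e
  · exact absurd e (conj_ne_one_iff.2 h4.t1)
  · exact absurd (h.fix_of_norm h4 hn.2 e) hc
  · rcases h4.mem_V.1 ha with rfl | rfl | rfl | rfl
    exacts [absurd rfl h1, k0, ⟨n, hn, e⟩,
      ⟨n * n, mul_mem hn hn, by rw [conj_conj, e, h.cyc_of_norm h4 hn.2 e]⟩]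
  · rcases h4.mem_V.1 ha with rfl | rfl | rfl | rfl
    exacts [absurd rfl h1, k0, ⟨n * n, mul_mem hn hn, by
      rw [conj_conj, e, h.cyc_of_norm h4.mul (h4.V_mul.symm ▸ hn.2) e, ← mul_assoc, h.tt,
        one_mul]⟩, ⟨n, hn, e⟩]

theorem idx_of (hn : n ∈ M ⊓ 𝐍(V c.t c.u)) (hc : n ∉ 𝐂(V c.t c.u)) :
    (𝐂(V c.t c.u)).relIndex (M ⊓ 𝐍(V c.t c.u)) = 3 := by
  have h4 := h.four_tu
  have : {y : G | ∃ x ∈ M ⊓ 𝐍(V c.t c.u), x * c.t * x⁻¹ = y} = (V c.t c.u : Set G) \ {1} := by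
    ext a
    exact ⟨fun ⟨x, hx, e⟩ => e ▸ ⟨norm_mem hx.2 (t_mem_V _ _), conj_ne_one_iff.2 h4.t1⟩,
      fun ha => h.trans_of hn hc ha.1 ha.2⟩
  have h1 := Frob.ncard_conj_subgroup (M ⊓ 𝐍(V c.t c.u)) c.t
  rw [this, Set.ncard_sdiff_singleton_of_mem (one_mem _), ← Nat.card_coe_set_eq,
    SetLike.coe_sort_coe, h4.card_V, ← inf_relIndex_right] at h1
  rw [← inf_relIndex_right, show 𝐂(V c.t c.u) ⊓ (M ⊓ 𝐍(V c.t c.u)) = 𝐂[c.t] ⊓ (M ⊓ 𝐍(V c.t c.u)) from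
    le_antisymm (inf_le_inf_right _ (U4.cent_le_cent1 (t_mem_V _ _))) fun g hg =>
      ⟨h.fix_of_norm h4 hg.2.2 (conj_eq_of_mem_cent1 hg.1), hg.2⟩, ← h1]

theorem comm_mem_L (ha : a ∈ 𝐂[c.t]) (hg : g ∈ 𝐂[c.t]) : a * g * a⁻¹ * g⁻¹ ∈ c.L := by
  have k1 : ∀ x, (x ∈ c.L ∨ c.t * x ∈ c.L) → ∀ g ∈ 𝐂[c.t], x * g * x⁻¹ * g⁻¹ ∈ c.L := by
    have k : ∀ x ∈ c.L, ∀ g ∈ 𝐂[c.t], x * g * x⁻¹ * g⁻¹ ∈ c.L := fun x hx g hg => by
      simpa [mul_assoc] using mul_mem hx (norm_mem (h.ct_norm hg) (inv_mem hx))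
    rintro x (e | e) g hg
    · exact k x e g hg
    · have := norm_mem' (h.t_norm le_rfl) (k _ e g hg)
      rwa [show c.t⁻¹ * (c.t * x * g * (c.t * x)⁻¹ * g⁻¹) * c.t =
        x * g * x⁻¹ * (c.t⁻¹ * (g⁻¹ * c.t)) by group, mem_cent1.1 (inv_mem hg),
        inv_mul_cancel_left] at this
  obtain ⟨x, hx, φ, hφ, rfl⟩ := h.dec_ct ha
  obtain ⟨y, hy, ψ, hψ, rfl⟩ := h.dec_ct hg
  have k2 := inv_mem (k1 y hy φ (h.F_le h.t_S hφ))
  have hx' := (mul_mem_cancel_right (h.F_le h.t_S hφ)).1 ha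
  have := mul_mem (norm_mem (h.ct_norm hx') k2) (k1 x hx _ hg)
  rwa [show x * (y * φ * y⁻¹ * φ⁻¹)⁻¹ * x⁻¹ * (x * (y * ψ) * x⁻¹ * (y * ψ)⁻¹) =
    x * φ * y * (φ⁻¹ * ψ) * x⁻¹ * (y * ψ)⁻¹ by group, h.commF (inv_mem hφ) hψ,
    show x * φ * y * (ψ * φ⁻¹) * x⁻¹ = x * φ * (y * ψ) * (x * φ)⁻¹ by group] at this

theorem mem_L_of_inv (hx : x ∈ 𝐂[c.t]) (ho : Odd (orderOf x)) (hi : i ∈ 𝐂[c.t])
    (e : i * x * i⁻¹ = x⁻¹) : x ∈ c.L := by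
  have := inv_mem (h.comm_mem_L hi hx)
  rw [e, mul_inv_rev, inv_inv] at this
  exact zpowers_le.2 this (mem_zpowers_sq ho)

theorem norm_Q' (hg : g ∈ 𝐂[c.t]) (hx : x ∈ c.Q) (h1 : x ≠ 1) (e : g * x * g⁻¹ ∈ c.Q) :
    g ∈ 𝐍(c.Q) := mem_norm_of fun y hy => by
  rw [← h.cent_eq_Q e (conj_ne_one_iff.2 h1)]
  exact mem_inf.2 ⟨norm_mem (h.ct_norm hg) (h.QL hy), conj_cent g (h.commQ y hy x hx)⟩

theorem conj_Q (hP : IsPGroup 3 P) (hL : P ≤ c.L) : ∃ z ∈ c.L, z •ᶜ P ≤ c.Q :=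
  exists_conj_mem_of_hall h.pp h.QL (h.hall_Q h.pp h.p_dvd) hP hL

theorem nonreal0 (ha : orderOf a = 2) (hx : x ∈ 𝐂[a]) (hk : orderOf x = 3) (hi : i ∈ 𝐂[a])
    (e : i * x * i⁻¹ = x⁻¹) : False := by
  obtain ⟨g, rfl⟩ := h.conj_t ha
  replace h := h.conj g
  have ho : Odd (orderOf x) := by rw [hk]; decide
  obtain ⟨z, hz, h2⟩ := h.conj_Q (isPGroup_zpowers hk) (zpowers_le.2 (h.mem_L_of_inv hx ho hi e))
  replace h2 := h2 (conj_mem_conj_iff.2 (mem_zpowers x))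
  have h3 : z * x * z⁻¹ ≠ 1 := conj_ne_one_iff.2 fun e => by simp [e] at hk
  have key : ∀ j ∈ (c.conj g).L ⊔ g •ᶜ F, j * (z * x * z⁻¹) * j⁻¹ = (z * x * z⁻¹)⁻¹ → False :=
    fun j hj e => h3 (eq_one_of_odd_of_mul_self (odd_orderOf_of_mem h.oddQ h2)
      (eq_inv_iff_mul_eq_one.1 (eq_inv_of_odd (odd_orderOf_of_mem (h.odd_E (h.odd_norm_Q h.hq0))
        ⟨hj, h.norm_Q' (h.E_le hj) h2 h3 (e ▸ inv_mem h2)⟩) e)))
  have h4 : z * i * z⁻¹ * (z * x * z⁻¹) * (z * i * z⁻¹)⁻¹ = (z * x * z⁻¹)⁻¹ := by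
    rw [conj_inv (a := x), ← e]; group
  rcases h.mem_ct.1 (cmem (h.L_le hz) hi) with k | k
  · exact key _ k h4
  · exact key _ k (by rw [conj_conj, h4, ← h.comm _ (h.QL (inv_mem h2)), mul_inv_cancel_right])

/-- An element of order `3` centralizing an involution is not real. -/
theorem nonreal (ha : orderOf a = 2) (hx : a ∈ 𝐂[x]) (hk : orderOf x = 3)
    (e : n * x * n⁻¹ = x⁻¹) : False := by
  obtain ⟨i, hi, oi, e⟩ := h.exists_inv (M := 𝐍(zpowers x)) (by rw [hk]; decide)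
    (fun e => by simp [e] at hk) (inverts_zpowers e).mem_norm e
  obtain ⟨P, h1, hP⟩ := IsSylowIn.exists_ge (isPGroup_zpowers oi) (zpowers_le.2 hi)
  rw [← U4.cent_zpowers] at hx
  obtain ⟨z, hz, h2⟩ := hP.exists_conj_le (isPGroup_zpowers ha)
    (zpowers_le.2 (U4.cent_le_norm _ hx))
  have h3 := norm_mem (U4.norm_le_norm_cent _ hz) hx
  rw [U4.cent_zpowers] at h3
  exact h.nonreal0 (by rw [U4.orderOf_conj, ha]) (mem_cent1_comm.1 h3) hk (mem_cent1.2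
    (h.two_comm hP.isPGroup (h1 (mem_zpowers i)) (h2 (conj_mem_conj_iff.2 (mem_zpowers a))))) e

/-- A `3`-group normalized by a four-group is conjugate to a subgroup of `F`. -/
theorem conj_F (hP : IsPGroup 3 P) (h4 : 4 ∣ Nat.card 𝐍(P)) : ∃ g, g •ᶜ P ≤ F := by
  obtain ⟨a, ha, oa⟩ := exists_inv_of_not_odd (H := 𝐍(P)) (by rw [Nat.odd_iff]; omega)
  obtain ⟨b, hb, h5⟩ := h.exists_four oa ha h4
  have ho := odd_card_of_isPGroup Nat.prime_three (by decide) hP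
  have hV := le_norm_of_V ha hb
  have key : ∀ x ∈ V a b, orderOf x = 2 → ∀ y ∈ V a b, P ⊓ 𝐂[x] ≤ 𝐂[y] := fun x hx ox y hy => by
    by_contra e
    have k1 := U4.cent_le_cent1 hx (h5.V_le_cent hy)
    obtain ⟨i, hi, i1, k2⟩ := exists_inverted (h5.mul_self_of_mem hy)
      (GW.odd_card_of_le ho inf_le_left) (mem_norm_of fun z hz => ⟨norm_mem (hV hy) hz.1,
        cmem k1 hz.2⟩) e
    obtain ⟨z, hz, k3⟩ := exists_ord Nat.prime_three hP hi.1 i1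
    exact h.nonreal0 ox (zpowers_le.2 hi.2 hz) k3 k1 (inverts_zpowers k2 z hz)
  have key2 : ∀ x ∈ V a b, orderOf x = 2 → P ⊓ 𝐂[x] ≤ 𝐂(V a b) := fun x hx ox => by
    rw [cent_V]; exact le_inf (key x hx ox _ (t_mem_V _ _)) (key x hx ox _ (s_mem_V _ _))
  have h6 := h5.le_of_cent_le ho hV (key2 _ (t_mem_V _ _) h5.ot) (key2 _ (s_mem_V _ _) h5.os)
    (key2 _ (mul_mem (t_mem_V _ _) (s_mem_V _ _)) h5.ots)
  have h7 := card_mul_relIndex (le_sup_right : F ≤ c.R ⊔ F)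
  rw [h.card_RF, mul_comm r.natAbs] at h7
  obtain ⟨g, e⟩ := h.conj_four h5
  obtain ⟨z, -, e'⟩ := exists_conj_mem_of_hall (P := g •ᶜ P) Nat.prime_three
    (le_sup_right : F ≤ c.R ⊔ F) (Nat.eq_of_mul_eq_mul_left Nat.card_pos h7 ▸ h.not_three_r)
    (hP.map _) fun x hx => h.mem_RF (by rw [← e, centralizer_map_conj]; exact map_mono h6 hx)
      (odd_orderOf_of_mem (by rwa [card_conj]) hx)
  exact ⟨z * g, by rwa [map_conj_mul]⟩

end GF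

end CfsgLib.JR
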