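import Cfsg.Agent.Lib.JR.BCX

/-!
# Power automorphisms
-/

set_option autoImplicit false
set_option linter.unusedSimpArgs false
set_option linter.unusedSectionVars false

namespace CfsgLib.JR

open Subgroup Cfsg CfsgLib.FT CfsgLib.FT.BGN CfsgLib.FT.U4 CfsgLib.GW

variable {G : Type*} [Group G] [Fintype G] {q r s : ℤ} {c : Cfg G} {a b f g j n t u w x y z : G}
  {F O P W X : Subgroup G} {l ω : ℕ}

theorem exists_Z2 (hl : l.Prime) (hP : IsPGroup l P) (h : ¬ P ≤ 𝐂(P)) :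
    ∃ x ∈ P, x ∉ 𝐂(P) ∧ ∀ y ∈ P, x * y * x⁻¹ * y⁻¹ ∈ 𝐂(P) := by
  have := Fact.mk hl
  have k : ∀ x : P, x ∈ center P ↔ (x : G) ∈ 𝐂(P) := fun x => by
    simp only [mem_center_iff, mem_cent, Subtype.forall, Subtype.ext_iff, coe_mul]
  obtain ⟨x, hx, h1⟩ := SetLike.not_le_iff_exists.1 h
  have : Nontrivial (P ⧸ center P) := ⟨(⟨x, hx⟩ : P), 1, fun e =>
    h1 ((k _).1 ((QuotientGroup.eq_one_iff _).1 e))⟩
  have := (hP.to_quotient (center P)).center_nontrivial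
  obtain ⟨⟨z, hz⟩, z1⟩ := exists_ne (1 : center (P ⧸ center P))
  obtain ⟨z, rfl⟩ := QuotientGroup.mk_surjective z
  refine ⟨z, z.2, fun e => z1 (Subtype.ext ((QuotientGroup.eq_one_iff _).2 ((k z).2 e))),
    fun y hy => (k (z * ⟨y, hy⟩ * z⁻¹ * ⟨y, hy⟩⁻¹)).1 ((QuotientGroup.eq_one_iff _).1 ?_)⟩
  simp only [QuotientGroup.mk_mul, QuotientGroup.mk_inv, ← mem_center_iff.1 hz]
  group

omit [Fintype G] in
theorem comm_pow (hx : x * z = z * x) (hy : y * z = z * y) (e : x * y * x⁻¹ * y⁻¹ = z) (m k : ℕ) :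
    x ^ m * y ^ k * (x ^ m)⁻¹ * (y ^ k)⁻¹ = z ^ (m * k) := by
  have h1 : x ^ m * y * (x ^ m)⁻¹ = z ^ m * y := by
    induction m with
    | zero => simp
    | succ m ih =>
      rw [pow_succ' x, conj_conj, ih, ← mul_assoc, (Commute.pow_right hx m).eq, mul_assoc (z ^ m),
        mul_assoc (z ^ m), pow_succ, mul_assoc (z ^ m), ← e]
      group
  rw [← conj_pow, h1, (Commute.pow_left hy.symm m).mul_pow, pow_mul]
  group

theorem pow_of_comm (h4 : Four t u) (ho : Odd (Nat.card W)) (hV : V t u ≤ 𝐍(W)) (hc : W ≤ 𝐂(W))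
    (hω : ∀ a ∈ V t u, a ≠ 1 → ∀ x ∈ W, x ∈ 𝐂[a] → f * x * f⁻¹ = x ^ ω) :
    ∀ x ∈ W, f * x * f⁻¹ = x ^ ω := by
  let M : Subgroup G :=
    { carrier := {x | x ∈ W ∧ f * x * f⁻¹ = x ^ ω}
      one_mem' := ⟨one_mem _, by simp⟩
      mul_mem' := fun {a b} ha hb => ⟨mul_mem ha.1 hb.1, by
        rw [← conj_mul, ha.2, hb.2, Commute.mul_pow (mem_cent.1 (hc hb.1) a ha.1)]⟩
      inv_mem' := fun {a} ha => ⟨inv_mem ha.1, by rw [← conj_inv, ha.2, inv_pow]⟩ }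
  have k : ∀ a ∈ V t u, a ≠ 1 → W ⊓ 𝐂[a] ≤ M := fun a ha a1 x hx => ⟨hx.1, hω a ha a1 x hx.1 hx.2⟩
  exact fun x hx => (h4.le_of_cent_le ho hV (k _ (t_mem_V _ _) h4.t1) (k _ (s_mem_V _ _) h4.s1)
    (k _ (mul_mem (t_mem_V _ _) (s_mem_V _ _)) h4.ts1) hx).2

theorem comm_of_pow (hl : l.Prime) (hP : IsPGroup l P) (h4 : Four t u) (ho : Odd (Nat.card P))
    (hV : V t u ≤ 𝐍(P))
    (hω : ∀ a ∈ V t u, a ≠ 1 → ∀ x ∈ P, x ∈ 𝐂[a] → f * x * f⁻¹ = x ^ ω)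
    (hf : ∀ x ∈ P, f * x * f⁻¹ = x → x = 1) : P ≤ 𝐂(P) := by
  have hZ : V t u ≤ 𝐍(P ⊓ 𝐂(P)) := fun a ha => mem_norm_of fun x hx =>
    ⟨norm_mem (hV ha) hx.1, norm_mem (U4.norm_le_norm_cent _ (hV ha)) hx.2⟩
  have h1 := pow_of_comm h4 (GW.odd_card_of_le ho inf_le_left) hZ
    (inf_le_right.trans (centralizer_le inf_le_left)) fun a ha a1 x hx => hω a ha a1 x hx.1
  have nC : P ≤ 𝐍(𝐂(P)) := le_normalizer.trans (U4.norm_le_norm_cent _)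
  let M : Subgroup G :=
    { carrier := {x | x ∈ P ∧ ∀ y ∈ P, x * y * x⁻¹ * y⁻¹ ∈ 𝐂(P)}
      one_mem' := ⟨one_mem _, by simp [one_mem]⟩
      mul_mem' := fun {a b} ha hb => ⟨mul_mem ha.1 hb.1, fun y hy => by
        have := mul_mem (norm_mem (nC ha.1) (hb.2 y hy)) (ha.2 y hy)
        convert this using 1; group⟩
      inv_mem' := fun {a} ha => ⟨inv_mem ha.1, fun y hy => by
        have := norm_mem' (nC ha.1) (inv_mem (ha.2 y hy))
        convert this using 1; group⟩ }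
  have all : ∀ {X Y : Subgroup G}, X ≤ P → V t u ≤ 𝐍(X) →
      (∀ a ∈ V t u, a ≠ 1 → X ⊓ 𝐂[a] ≤ Y) → X ≤ Y := fun hX hn k =>
    h4.le_of_cent_le (GW.odd_card_of_le ho hX) hn (k _ (t_mem_V _ _) h4.t1) (k _ (s_mem_V _ _) h4.s1)
      (k _ (mul_mem (t_mem_V _ _) (s_mem_V _ _)) h4.ts1)
  have h2 : M ≤ 𝐂(P) := all (fun x hx => hx.1) (fun a ha => mem_norm_of fun x hx =>
    ⟨norm_mem (hV ha) hx.1, fun y hy => by
      have := norm_mem (U4.norm_le_norm_cent _ (hV ha)) (hx.2 _ (norm_mem' (hV ha) hy))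
      convert this using 1; group⟩) fun a ha a1 x hx => by
    refine mem_cent.2 fun y hy => mem_cent1.1 (all le_rfl hV (fun b hb b1 y hy => ?_) hy)
    have k1 : x * y * x⁻¹ * y⁻¹ ∈ P ⊓ 𝐂(P) :=
      mem_inf.2 ⟨mul_mem (cmem hx.1.1 hy.1) (inv_mem (mem_inf.1 hy).1), hx.1.2 y hy.1⟩
    have k2 := comm_pow (mem_cent.1 k1.2 x hx.1.1) (mem_cent.1 k1.2 y hy.1) rfl ω ω
    rw [← hω a ha a1 x hx.1.1 hx.2, ← hω b hb b1 y hy.1 hy.2, conj_inv (a := x), conj_inv (a := y),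
      conj_mul, conj_mul, conj_mul, h1 _ k1, pow_mul, ← h1 _ (pow_mem k1 ω)] at k2
    have k3 := hf _ (pow_mem k1.1 ω) k2.symm
    rw [← h1 _ k1, conj_eq_one_iff, mul_inv_eq_one, mul_inv_eq_iff_eq_mul] at k3
    exact mem_cent1.2 k3.symm
  by_contra e
  obtain ⟨x, hx, k1, k2⟩ := exists_Z2 hl hP e
  exact k1 (h2 ⟨hx, k2⟩)

theorem inv_or_cent (hj : j * j = 1) (hy : (orderOf y).Prime) (hn : j * y * j⁻¹ ∈ zpowers y) :
    j * y * j⁻¹ = y ∨ j * y * j⁻¹ = y⁻¹ := by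
  by_cases e : y * (j * y * j⁻¹) = 1
  · exact Or.inr (eq_inv_of_mul_eq_one_right e)
  refine Or.inl (conj_eq_of_mem_cent1 (cent1_le_cent1 (mem_zpowers_of_prime hy
    (mul_mem (mem_zpowers y) hn) e) (mem_cent1_of_conj_eq ?_)))
  rw [← conj_mul, ← conj_conj, hj, one_mul, inv_one, mul_one, comm_of_mem_zpowers hn]

omit [Fintype G] in
theorem conj_pow_pow (e : f * x * f⁻¹ = x ^ ω) (m : ℕ) : f ^ m * x * (f ^ m)⁻¹ = x ^ ω ^ m := by
  induction m with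
  | zero => simp
  | succ m ih => rw [pow_succ' f, conj_conj, ih, ← conj_pow, e, ← pow_mul, pow_succ']

theorem exists_exp (hP : IsCyclic P) (hf : f ∈ 𝐍(P)) : ∃ ω : ℕ, ∀ y ∈ P, f * y * f⁻¹ = y ^ ω := by
  obtain ⟨x, rfl⟩ := exists_zpowers_eq hP
  obtain ⟨ω, e⟩ := (mem_powers_iff_mem_zpowers.2 (norm_mem hf (mem_zpowers x)))
  refine ⟨ω, fun y hy => ?_⟩
  obtain ⟨k, rfl⟩ := mem_powers_iff_mem_zpowers.2 hy
  simp only at e ⊢
  rw [← conj_pow, ← e, ← pow_mul, ← pow_mul, mul_comm]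

theorem pow_eq_of_ord (h : orderOf x = orderOf y) (e : y ^ ω = y) : x ^ ω = x := by
  rw [← pow_one y, ← pow_mul, one_mul, pow_eq_pow_iff_modEq] at e
  rw [← pow_one x, ← pow_mul, one_mul, pow_eq_pow_iff_modEq, h]; exact e

namespace GF

variable (h : GF q r s c F)
include h

/-- `F` acts with the same exponent on all invariant conjugates of subgroups of `T`. -/
theorem tr (hf : f ∈ F) (hω : ∀ y ∈ c.T, f * y * f⁻¹ = y ^ ω) (hz : z ∈ c.L)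
    (hx : z * x * z⁻¹ ∈ c.T) (hn : f ∈ 𝐍(zpowers x)) : f * x * f⁻¹ = x ^ ω := by
  by_cases h1 : x = 1
  · simp [h1]
  have h2 : f⁻¹ * (z * f * z⁻¹) ∈ c.L := by
    simpa [mul_assoc] using mul_mem (norm_mem' (h.FL hf) hz) (inv_mem hz)
  have h3 : z * f * z⁻¹ * (z * x * z⁻¹) * (z * f * z⁻¹)⁻¹ ∈ c.T := by
    have := norm_mem hn (mem_zpowers x)
    rw [← conj_mem_conj_iff (g := z), ← zpowers_conj] at this
    convert zpowers_le.2 hx this using 1; group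
  have hT : f ∈ 𝐍(c.T) := mem_norm_of fun y hy => hω y hy ▸ pow_mem hy ω
  have h4 := h.tiT.ti _ h2 _ ⟨hx, conj_ne_one_iff.2 h1⟩ ⟨by
    rw [conj_conj f⁻¹]; exact norm_mem (inv_mem hT) h3, conj_ne_one_iff.2 (conj_ne_one_iff.2 h1)⟩
  have h5 : z * (f * x * f⁻¹) * z⁻¹ = f * (f⁻¹ * (z * f * z⁻¹) * (z * x * z⁻¹) *
    (f⁻¹ * (z * f * z⁻¹))⁻¹) * f⁻¹ := by group
  by_cases e : f⁻¹ * (z * f * z⁻¹) ∈ c.T
  · rw [h.commT _ e _ hx, mul_inv_cancel_right, hω _ hx, conj_pow] at h5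
    simpa using h5
  exfalso
  rw [(h.inv_of_notMem_T h4 e).2 _ hx, hω _ (inv_mem hx), conj_inv, conj_pow] at h5
  replace h5 : f * x * f⁻¹ = x⁻¹ ^ ω := by simpa using h5
  have h6 := conj_pow_pow (hω _ hx) (orderOf f)
  have h7 : ∀ m, f ^ m * x * (f ^ m)⁻¹ = (x ^ ((-1 : ℤ) ^ m)) ^ ω ^ m := fun m => by
    induction m with
    | zero => simp
    | succ m ih =>
      rw [pow_succ' f, conj_conj, ih, ← conj_pow, ← conj_zpow, h5]
      simp only [← zpow_natCast, ← zpow_neg_one x, ← zpow_mul]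
      congr 1; push_cast; ring
  have h8 := h7 (orderOf f)
  rw [pow_orderOf_eq_one, one_mul, inv_one, mul_one] at h6 h8
  rw [conj_pow] at h6
  rw [(h.ordF hf).neg_one_pow, zpow_neg_one, inv_pow, ← (by simpa using h6 : x = x ^ ω ^ orderOf f)] at h8
  exact h1 (eq_one_of_odd_of_mul_self (U4.orderOf_conj z x ▸ odd_orderOf_of_mem h.oddT hx)
    (eq_inv_iff_mul_eq_one.1 h8))

theorem conj_H (hl : l.Prime) (hd : l ∣ s.natAbs) (hf : f ∈ F) (hk : (orderOf f).Prime) :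
    ¬ l ∣ (c.L ⊓ 𝐂[f]).relIndex 𝐂[f] := fun e => by
  have := Fact.mk hl
  obtain ⟨m, j, h2, h3, h4, h5, -⟩ := h.fix' hf hk
  obtain ⟨l2, l3, lF, -⟩ := h.cop_s hl hd
  have h6 := card_mul_relIndex (inf_le_right : c.L ⊓ 𝐂[f] ≤ _)
  have h7 : (c.L ⊓ 𝐂[f]).relIndex 𝐂[f] = 2 * Nat.card F * (m + 1) ^ 2 * (m ^ 2 + m + 1) :=
    Nat.eq_of_mul_eq_mul_left (Nat.card_pos (α := ↥(c.L ⊓ 𝐂[f]))) (by
      rw [h6, h5]; linear_combination (Nat.card F * (m + 1) ^ 2 * (m ^ 2 + m + 1)) * h4.symm)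
  rw [h7] at e
  simp only [hl.dvd_mul] at e
  rcases e with ((e | e) | e) | e
  · exact l2 ((Nat.prime_dvd_prime_iff_eq hl Nat.prime_two).1 e)
  · exact lF e
  · exact l3 ((Nat.prime_dvd_prime_iff_eq hl Nat.prime_three).1
      (hl.dvd_of_dvd_pow (h2 ▸ hl.dvd_of_dvd_pow e)))
  · have k1 := (ZMod.natCast_eq_zero_iff _ _).2 e
    have k2 : ((m : ZMod l) + 1) ^ orderOf f = 1 := by
      rw [← Nat.cast_add_one, ← Nat.cast_pow, h3, h.qs, Nat.cast_add, Nat.cast_mul,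
        (ZMod.natCast_eq_zero_iff _ _).2 hd]; simp
    have k3 : ((m : ZMod l) + 1) ^ 3 = -1 := by push_cast at k1; linear_combination (m + 2) * k1
    have k4 := congrArg (· ^ 3) k2
    simp only [← pow_mul, mul_comm (orderOf f)] at k4
    rw [pow_mul, k3, (h.ordF hf).neg_one_pow, one_pow] at k4
    have k5 : ((2 : ℕ) : ZMod l) = 0 := by push_cast; linear_combination -k4
    exact l2 ((Nat.prime_dvd_prime_iff_eq hl Nat.prime_two).1 ((ZMod.natCast_eq_zero_iff _ _).1 k5))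

end GF

end CfsgLib.JR
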