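import Cfsg.Agent.Lib.JR.BPw

/-!
# The torus `T` is a Hall subgroup
-/

set_option autoImplicit false
set_option linter.unusedSimpArgs false
set_option linter.unusedSectionVars false

namespace CfsgLib.JR

open Subgroup Cfsg CfsgLib.FT CfsgLib.FT.BGN CfsgLib.FT.U4 CfsgLib.GW

variable {G : Type*} [Group G] [Fintype G] {q r s : ℤ} {c : Cfg G} {a b e f g i j n w x y z φ : G}
  {F H O P W X : Subgroup G} {k l ω : ℕ}

theorem relIndex_sup_dvd (hn : P ≤ 𝐍(H)) :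
    H.relIndex (H ⊔ P) ∣ Nat.card P ∧ P.relIndex (H ⊔ P) ∣ Nat.card H := by
  have h1 := card_sup_dvd_mul hn
  rw [sup_comm] at h1
  constructor
  · rw [← card_mul_relIndex le_sup_left, mul_comm (Nat.card P)] at h1
    exact Nat.dvd_of_mul_dvd_mul_left Nat.card_pos h1
  · rw [← card_mul_relIndex le_sup_right] at h1
    exact Nat.dvd_of_mul_dvd_mul_left Nat.card_pos h1

theorem zpowers_eq (hC : IsCyclic H) (hx : x ∈ H) (hy : y ∈ H) (e : orderOf x = orderOf y) :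
    zpowers x = zpowers y :=
  eq_of_le_cyclic hC (zpowers_le.2 hx) (zpowers_le.2 hy) (by rwa [Nat.card_zpowers, Nat.card_zpowers])

theorem eq_bot_of_ord (hl : l.Prime) (hP : IsPGroup l P) (h : ∀ x ∈ P, orderOf x ≠ l) : P = ⊥ :=
  eq_bot_of_forall fun x hx => by
    by_contra e
    obtain ⟨y, hy, k⟩ := exists_ord hl hP hx e
    exact h y (zpowers_le.2 hx hy) k

theorem exists_ord_of_dvd (hl : l.Prime) (hd : l ∣ Nat.card H) : ∃ x ∈ H, orderOf x = l := by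
  have := Fact.mk hl
  obtain ⟨⟨f, hf⟩, e⟩ := exists_prime_orderOf_dvd_card' l hd
  exact ⟨f, hf, (orderOf_coe (⟨f, hf⟩ : H)).trans e⟩

namespace GF

variable (h : GF q r s c F)
include h

theorem inv_cases (ha : orderOf a = 2) (hx : x ∈ 𝐂[a]) (hk : (orderOf x).Prime)
    (ho : Odd (orderOf x)) (hi : i ∈ 𝐂[a]) (e : i * x * i⁻¹ = x⁻¹) :
    orderOf x ∣ s.natAbs ∨ ∃ g, g * x * g⁻¹ ∈ c.R := by
  obtain ⟨g, rfl⟩ := h.conj_t ha
  have h1 := (h.conj g).mem_L_of_inv hx ho hi e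
  rcases (h.conj g).prime_cases hk (fun e => not_odd_of_inv e ho) (orderOf_dvd_natCard _ h1)
    with k | k | k
  · obtain ⟨z, -, k⟩ := exists_conj_mem_of_hall hk (h.conj g).RL ((h.conj g).hall_R hk k)
      (isPGroup_zpowers rfl) (zpowers_le.2 h1)
    exact Or.inr ⟨g⁻¹ * z, by
      simpa [mul_assoc] using mem_conj.1 (k (conj_mem_conj_iff.2 (mem_zpowers x)))⟩
  · exact Or.inl k
  · exact (h.nonreal0 ha hx (h.eq_p hk k) hi e).elim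

theorem four_cy (hy : y ∈ c.T) (h1 : y ≠ 1) : ¬ 4 ∣ Nat.card 𝐂[y] :=
  h.not_four (mem_cent1_comm.1 (h.L_le (h.TL hy))) (h.cent_eq_T hy h1 ▸ h.oddT)

theorem le_K (hy : y ∈ c.T) (h1 : y ≠ 1) (hP : P ≤ 𝐂[y]) (ho : Odd (Nat.card P)) : P ≤ Od 𝐂[y] :=
  (nilp2_of_not_four_dvd (h.four_cy hy h1)).le_Od hP ho

theorem V_K (hy : y ∈ c.T) : V c.t c.u ≤ 𝐍(Od 𝐂[y]) :=
  le_norm_of_V (le_norm_Od _ (mem_cent1_comm.1 (h.L_le (h.TL hy)))) (norm_le_norm_Od _ (by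
    rw [← U4.cent_zpowers]; exact U4.norm_le_norm_cent _ (inverts_zpowers (h.uT y hy)).mem_norm))

theorem V_le_S : V c.t c.u ≤ c.S := V_le h.t_S h.u_S

theorem V_comm' (ha : a ∈ V c.t c.u) (hb : b ∈ V c.t c.u) : b ∈ 𝐂[a] :=
  U4.cent_le_cent1 ha (h.four_tu.V_le_cent hb)

theorem ord_V (ha : a ∈ V c.t c.u) (h1 : a ≠ 1) : orderOf a = 2 :=
  inv_of_mul_self (h.four_tu.mul_self_of_mem ha) h1

theorem le_of_V (ho : Odd (Nat.card P)) (hn : V c.t c.u ≤ 𝐍(P)) (ht : P ⊓ 𝐂[c.t] ≤ X)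
    (k : ∀ a ∈ V c.t c.u, a ≠ 1 → a ≠ c.t → P ⊓ 𝐂[a] ≤ X) : P ≤ X :=
  h.four_tu.le_of_cent_le ho hn ht (k _ (s_mem_V _ _) h.four_tu.s1 h.four_tu.ne.symm)
    (k _ (mul_mem (t_mem_V _ _) (s_mem_V _ _)) h.four_tu.ts1 (by simpa using h.four_tu.s1))

theorem trx (hl : l.Prime) (hd : l ∣ s.natAbs) (hf : f ∈ F) (hω : ∀ y ∈ c.T, f * y * f⁻¹ = y ^ ω)
    (ha : a ∈ V c.t c.u) (h1 : a ≠ 1) (hx : x ∈ 𝐂[a]) (hP : IsPGroup l (zpowers x))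
    (hn : f ∈ 𝐍(zpowers x)) : f * x * f⁻¹ = x ^ ω := by
  obtain ⟨w, hw⟩ := h.exists_w
  obtain ⟨z, hz, rfl⟩ := h.conj_w hw ha h1
  obtain ⟨x, rfl⟩ : ∃ x', x = z * x' * z⁻¹ := ⟨z⁻¹ * x * z, by group⟩
  have h2 := mem_cent.1 (zpowers_le.2 hw.wF hz) f hf
  have h3 : f = z * f * z⁻¹ := by rw [← h2, mul_inv_cancel_right]
  rw [cent1_conj, conj_mem_conj_iff] at hx
  rw [zpowers_conj, normalizer_map_conj, h3, conj_mem_conj_iff] at hn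
  have h4 : IsPGroup l (zpowers x) := by
    rw [zpowers_conj] at hP
    exact map_conj_inv_map_conj z (zpowers x) ▸ hP.map (MulAut.conj z⁻¹).toMonoidHom
  obtain ⟨z', hz', e⟩ := exists_conj_mem_of_hall hl h.TL (h.hall_T hl hd) h4
    (h.le_L hl hd h4 (zpowers_le.2 hx))
  rw [← conj_conj, h2, conj_conj, h.tr hf hω hz' (e (conj_mem_conj_iff.2 (mem_zpowers x))) hn,
    conj_pow]

/-- An element of order `l` commuting with an element of order `3` of `L` is real. -/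
theorem real_of (hl : l.Prime) (hd : l ∣ s.natAbs) (ow : orderOf w = 3) (hw : g * w * g⁻¹ ∈ c.L)
    (oe : orderOf e = l) (he : e ∈ 𝐂[w]) : ∃ n, n * e * n⁻¹ = e⁻¹ := by
  have := Fact.mk hl
  obtain ⟨l2, l3, lF, -, lq⟩ := h.cop_s hl hd
  obtain ⟨z, -, k⟩ := h.conj_Q (isPGroup_zpowers ((U4.orderOf_conj g w).trans ow)) (zpowers_le.2 hw)
  replace k := k (conj_mem_conj_iff.2 (mem_zpowers _))
  rw [← conj_conj] at k
  have k1 := conj_cent (z * g) (mem_cent1.1 he)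
  have x1 : z * g * w * (z * g)⁻¹ ≠ 1 := conj_ne_one_iff.2 fun e => by simp [e] at ow
  generalize z * g * w * (z * g)⁻¹ = x at *
  have ht := mem_cent1_comm.1 (h.L_le (h.QL k))
  have k2 := h.cent_eq_Q k x1
  have k3 := nilp2_of_not_four_dvd (h.not_four ht (k2 ▸ h.oddQ))
  obtain ⟨P, p1, p2⟩ := Cop.exists_invariant_sylowOf l (zpowers_le.2 (le_norm_Od _ ht))
    (coprime_zpowers_inv h.ot (odd_Od _)) (Or.inr (solvable_Od _))
  have p3 := Cop.isPGroup_of_isPiHallOf p1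
  have p4 := inverts_of_inf_cent h.tt (odd_card_of_isPGroup hl l2 p3) (p2 (mem_zpowers _))
    (eq_bot_of_ord hl p3.to_inf_left fun y hy e => lq (by
      rw [← e, ← h.cardQ, ← k2]
      exact orderOf_dvd_natCard _ (mem_inf.2 ⟨h.le_L hl hd p3.to_inf_left inf_le_right hy,
        Od_le _ (p1.1 hy.1)⟩)))
  obtain ⟨m, -, p5⟩ := Cop.exists_conj_le_sylowOf
    (isPGroup_zpowers ((U4.orderOf_conj (z * g) e).trans oe))
    (zpowers_le.2 (k3 _ k1 (by rw [U4.orderOf_conj, oe]; exact hl.odd_of_ne_two l2))) p1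
  have p6 := p4 _ (p5 (conj_mem_conj_iff.2 (mem_zpowers _)))
  refine ⟨(m * (z * g))⁻¹ * c.t * (m * (z * g)), ?_⟩
  rw [conj_conj, conj_conj, conj_conj m, p6]; group

end GF

namespace GB

variable (h : GB q r s c F) (hy : y ∈ c.T) (h1 : y ≠ 1)
include h hy h1

theorem K_ct (hg : g ∈ Od 𝐂[y]) (ht : g ∈ 𝐂[c.t]) : g ∈ c.T ⊔ F :=
  h.mem_TF hy h1 ht (odd_of_mem_Od hg) (by rwa [conj_eq_of_mem_cent1 (Od_le _ hg)])

theorem K_V (ha : a ∈ V c.t c.u) (a1 : a ≠ 1) (at' : a ≠ c.t) (hg : g ∈ Od 𝐂[y]) (ht : g ∈ 𝐂[c.t])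
    (hc : g ∈ 𝐂[a]) : g ∈ F := by
  obtain ⟨z, hz, φ, hφ, rfl⟩ := h.decT (h.K_ct hy h1 hg ht)
  rwa [eq_one_of_inv_of_comm (odd_orderOf_of_mem h.oddT hz) (h.invT ha a1 at' z hz)
    (mem_cent1.1 ((mul_mem_cancel_right (h.F_le (h.V_le_S ha) hφ)).1 hc)), one_mul]

omit h1 in
theorem F_K : F ≤ 𝐍(Od 𝐂[y]) := fun _ hφ => norm_le_norm_Od _ (by
  rw [← U4.cent_zpowers]
  exact U4.norm_le_norm_cent _ (norm_le_norm_of_le_cyclic h.cycT (zpowers_le.2 hy) (h.FT hφ)))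

omit h1 in
theorem conj_F' (hk : (orderOf x).Prime) (hs : ¬ orderOf x ∣ s.natAbs) (hx : x ∈ c.T ⊔ F) :
    ∃ z ∈ 𝐍(zpowers y), z * x * z⁻¹ ∈ F := by
  obtain ⟨z, hz, e⟩ := exists_conj_mem_of_hall hk (le_sup_right : F ≤ c.T ⊔ F)
    (fun e => hs (h.cardT ▸ e.trans (relIndex_sup_dvd h.FT).2)) (isPGroup_zpowers rfl)
    (zpowers_le.2 hx)
  exact ⟨z, norm_le_norm_of_le_cyclic h.cycT (zpowers_le.2 hy) (h.TF_norm hz),
    e (conj_mem_conj_iff.2 (mem_zpowers x))⟩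

theorem not_dvd_K (hk : k.Prime) (hr : ¬ k ∣ r.natAbs) (hs : ¬ k ∣ s.natAbs)
    (hF : ∀ φ ∈ F, orderOf φ = k → φ ∉ 𝐂[y]) : ¬ k ∣ Nat.card (Od 𝐂[y]) := fun e => by
  have := Fact.mk hk
  obtain ⟨P, p1, p2⟩ := Cop.exists_invariant_sylowOf k (h.V_K hy) (h.four_tu.coprime_V (odd_Od _))
    (Or.inr (solvable_Od _))
  have p3 := Cop.isPGroup_of_isPiHallOf p1
  have po := GW.odd_card_of_le (odd_Od _) p1.1
  have p4 : P ⊓ 𝐂[c.t] = ⊥ := eq_bot_of_ord hk p3.to_inf_left fun x hx e => by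
    obtain ⟨z, hz, k⟩ := h.conj_F' hy (e ▸ hk) (e ▸ hs) (h.K_ct hy h1 (p1.1 hx.1) hx.2)
    refine hF _ k (by rw [U4.orderOf_conj, e]) ?_
    rw [← U4.cent_zpowers]
    exact norm_mem (U4.norm_le_norm_cent _ hz) (by rw [U4.cent_zpowers]; exact Od_le _ (p1.1 hx.1))
  have p5 := inverts_of_inf_cent h.tt po (p2 (t_mem_V _ _)) p4
  refine IsSylowIn.ne_bot (sylow_of_hallOf p1) e (le_bot_iff.1 (h.le_of_V po p2 p4.le
    fun a ha a1 _ => (eq_bot_of_ord hk p3.to_inf_left fun x hx e => ?_).le))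
  rcases h.inv_cases (h.ord_V ha a1) hx.2 (e ▸ hk) (odd_orderOf_of_mem po hx.1)
    (h.V_comm' ha (t_mem_V _ _)) (p5 x hx.1) with k | ⟨g, k⟩
  · exact hs (e ▸ k)
  · exact hr (by rw [← e, ← U4.orderOf_conj g, ← h.cardR]; exact orderOf_dvd_natCard _ k)

variable (hl : l.Prime) (hd : l ∣ s.natAbs)
include hl hd

theorem inv_x (ha : a ∈ V c.t c.u) (a1 : a ≠ 1) (at' : a ≠ c.t) (hx : x ∈ Od 𝐂[y]) (hc : x ∈ 𝐂[a])
    (ox : orderOf x = l) : c.t * x * c.t⁻¹ = x⁻¹ ∧ F ≤ 𝐍(zpowers x) := by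
  have := Fact.mk hl
  obtain ⟨w, hw⟩ := h.exists_w
  obtain ⟨z, hz, e⟩ := h.conj_w hw ha a1
  have h' := h.toGF.conj z
  rw [conj_eq_of_mem_cent (zpowers_le.2 hw.wF hz)] at h'
  have e' : (c.conj z).t = a := e
  have k0 : ∀ g ∈ 𝐍(Od 𝐂[y]), g ∈ 𝐂[a] → g ∈ 𝐍(Od 𝐂[y] ⊓ (c.conj z).L) := fun g k1 k2 =>
    mem_norm_of fun x hx => ⟨norm_mem k1 hx.1, norm_mem (h'.ct_norm (e' ▸ k2)) hx.2⟩
  have k1 := inverts_of_inf_cent h.tt (GW.odd_card_of_le (odd_Od _) inf_le_left)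
    (k0 _ (h.V_K hy (t_mem_V _ _)) (h.V_comm' ha (t_mem_V _ _))) (eq_bot_of_forall fun g hg =>
      eq_one_of_mem_inf h'.inf_LF hg.1.2 (h.K_V hy h1 ha a1 at' hg.1.1 hg.2 (e' ▸ h'.L_le hg.1.2)))
  have k2 : x ∈ Od 𝐂[y] ⊓ (c.conj z).L :=
    ⟨hx, h'.le_L hl hd (isPGroup_zpowers ox) (zpowers_le.2 (e' ▸ hc)) (mem_zpowers x)⟩
  refine ⟨k1 x k2, fun φ hφ => mem_normalizer_of_map_conj_eq ?_⟩
  have k3 := norm_mem (k0 φ (h.F_K hy hφ) (h.F_le (h.V_le_S ha) hφ)) k2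
  rw [← zpowers_conj]
  refine zpowers_eq (h.cyc_of_inv hl hd (H1.isPGroup_sup_of_le_normalizer (isPGroup_zpowers ox)
    (isPGroup_zpowers ((U4.orderOf_conj φ x).trans ox)) (zpowers_le.2 (U4.cent_le_norm _ ?_)))
    (h.ord_V ha a1) (sup_le (zpowers_le.2 hc) (zpowers_le.2 (e' ▸ h'.L_le k3.2))))
    (mem_sup_right (mem_zpowers _)) (mem_sup_left (mem_zpowers _)) (U4.orderOf_conj φ x)
  rw [U4.cent_zpowers]
  exact mem_cent1.2 (k1.comm k2 k3)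

omit h1 in
theorem sylow_V (oy : orderOf y = l) (hP : IsPGroup l P) (yP : y ∈ P) (xP : x ∈ P)
    (ox : orderOf x = l) (hV : V c.t c.u ≤ 𝐍(P)) (ha : a ∈ V c.t c.u) (a1 : a ≠ 1) (at' : a ≠ c.t)
    (hc : x ∈ 𝐂[a]) (ti : c.t * x * c.t⁻¹ = x⁻¹)
    (hn : ∀ i, orderOf i = 2 → i ∈ 𝐂[x] → i ∈ 𝐂[y] → False) : IsSylowIn 2 (V c.t c.u) 𝐍(P) := by
  refine IsSylowIn.of_maximal hV h.four_tu.isPGroup_V fun X hX k1 k2 j hj => ?_
  have key : ∀ b ∈ V c.t c.u, b ≠ 1 → ∀ z ∈ P, z ∈ 𝐂[b] → orderOf z = l →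
      j * z * j⁻¹ = z ∨ j * z * j⁻¹ = z⁻¹ := fun b hb b1 z hz k3 oz => by
    have k4 : j * z * j⁻¹ ∈ P ⊓ 𝐂[b] :=
      ⟨norm_mem (k2 hj) hz, cmem (mem_cent1.2 (h.two_comm hX hj (k1 hb))) k3⟩
    refine inv_or_cent (h.two_sq hX hj) (oz ▸ hl) ?_
    rw [← zpowers_eq (h.cyc_of_inv hl hd hP.to_inf_left (h.ord_V hb b1) inf_le_right) k4 ⟨hz, k3⟩
      (U4.orderOf_conj j z)]
    exact mem_zpowers _
  have fin : ∀ b ∈ V c.t c.u, j * (b * x * b⁻¹) * j⁻¹ = x → j * (b * y * b⁻¹) * j⁻¹ = y →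
      j ∈ V c.t c.u := fun b hb e1 e2 => by
    by_contra e
    exact hn (j * b) (inv_of_mul_self (h.two_sq hX (mul_mem hj (k1 hb))) fun e' =>
      e (eq_inv_of_mul_eq_one_left e' ▸ inv_mem hb)) (mem_cent1_of_conj_eq (conj_conj j b x ▸ e1))
      (mem_cent1_of_conj_eq (conj_conj j b y ▸ e2))
  have t1 := conj_eq_of_mem_cent1 (mem_cent1_comm.1 (h.L_le (h.TL hy)))
  have a2 := conj_eq_of_mem_cent1 (mem_cent1_comm.1 hc)
  have a3 := h.invT ha a1 at' y hy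
  rcases key a ha a1 x xP hc ox with e1 | e1 <;>
    rcases key _ (t_mem_V _ _) h.four_tu.t1 y yP (h.L_le (h.TL hy)) oy with e2 | e2
  · exact fin 1 (one_mem _) (by simpa using e1) (by simpa using e2)
  · exact fin a ha (by rw [a2, e1]) (by rw [a3, ← conj_inv, e2, inv_inv])
  · exact fin _ (t_mem_V _ _) (by rw [ti, ← conj_inv, e1, inv_inv]) (by rw [t1, e2])
  · exact fin _ (mul_mem (t_mem_V _ _) ha) (by rw [conj_conj, a2, ti, ← conj_inv, e1, inv_inv])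
      (by rw [conj_conj, a3, ← conj_inv, t1, ← conj_inv, e2, inv_inv])

end GB

end CfsgLib.JR
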