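import Cfsg.Agent.Lib.JR.BT

/-!
# Centralizers of elements of `T`
-/

set_option autoImplicit false
set_option linter.unusedSimpArgs false
set_option linter.unusedSectionVars false

namespace CfsgLib.JR

open Subgroup Cfsg CfsgLib.FT CfsgLib.FT.BGN CfsgLib.FT.U4 CfsgLib.GW

variable {G : Type*} [Group G] [Fintype G] {q r s : ℤ} {c : Cfg G} {a b e f g i j n w x y z φ : G}
  {F H O P W X : Subgroup G} {k l ω : ℕ}

namespace GB

variable (h : GB q r s c F)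
include h

theorem exists_f (hF : F ≠ ⊥) : ∃ f ∈ F, (orderOf f).Prime ∧ (3 ∣ Nat.card F → orderOf f = 3) := by
  by_cases h3 : 3 ∣ Nat.card F
  · obtain ⟨f, hf, e⟩ := exists_ord_of_dvd Nat.prime_three h3
    exact ⟨f, hf, e ▸ Nat.prime_three, fun _ => e⟩
  · obtain ⟨k, hk, hd⟩ := U4.exists_prime_dvd_card hF
    obtain ⟨f, hf, e⟩ := exists_ord_of_dvd hk hd
    exact ⟨f, hf, e ▸ hk, fun e => absurd e h3⟩

/-- An abelian `l`-subgroup on which `f` acts as a power map is Sylow. -/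
theorem sylow_top (hl : l.Prime) (hf : f ∈ F) (hk : (orderOf f).Prime) (hP : IsSylowIn l P X)
    (hC : 𝐂(P) ≤ X) (hX : ¬ orderOf f ∣ Nat.card X) (hH : ¬ l ∣ Nat.card 𝐂[f])
    (hω : ∀ x ∈ P, f * x * f⁻¹ = x ^ ω) : IsSylowIn l P ⊤ := by
  have := Fact.mk hl
  have := Fact.mk hk
  have fP : f ∈ 𝐍(P) := mem_norm_of fun x hx => hω x hx ▸ pow_mem hx ω
  have fC := zpowers_le.2 (U4.norm_le_norm_cent _ fP)
  have h1 : IsSylowIn (orderOf f) (zpowers f) (𝐂(P) ⊔ zpowers f) := ⟨le_sup_right,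
    isPGroup_zpowers rfl, fun e => hX ((e.trans (relIndex_sup_dvd fC).2).trans (card_dvd_of_le hC))⟩
  have h2 : 𝐍(P) ≤ 𝐂(P) ⊔ 𝐍(P) ⊓ 𝐂[f] := fun n hn => by
    have k1 : n * f * n⁻¹ * f⁻¹ ∈ 𝐂(P) := mem_cent.2 fun x hx => by
      have := hω _ (norm_mem' hn (norm_mem' fP hx))
      rw [show n⁻¹ * (f⁻¹ * x * f) * n = n⁻¹ * (f⁻¹ * x * f) * n⁻¹⁻¹ by group, conj_pow,
        ← hω _ (norm_mem' fP hx)] at this
      calc _ = n * (n⁻¹ * (f * (f⁻¹ * x * f) * f⁻¹) * n⁻¹⁻¹) * f * n⁻¹ * f⁻¹ := by group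
        _ = _ := by rw [← this]; group
    obtain ⟨κ, k2, k3⟩ := h1.frattini_elem (g := n) (mem_norm_of fun x hx => by
      refine (show 𝐂(P) ⊔ zpowers f ≤ n⁻¹ •ᶜ (𝐂(P) ⊔ zpowers f) from sup_le (fun y hy => ?_)
        (zpowers_le.2 ?_)) hx |> mem_conj.1 |> fun e => by simpa using e
      · exact mem_conj.2 (mem_sup_left (by simpa using norm_mem (U4.norm_le_norm_cent _ hn) hy))
      · exact mem_conj.2 (by simpa using mul_mem_sup k1 (mem_zpowers f)))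
    have k4 : κ * n ∈ 𝐂[f] := mem_cent1_of_conj_eq (h.eq_of_conj hf
      (zpowers_le.2 hf (norm_mem k3 (mem_zpowers f))))
    have k5 : 𝐂(P) ⊔ zpowers f ≤ 𝐂(P) ⊔ 𝐍(P) ⊓ 𝐂[f] :=
      sup_le_sup_left (zpowers_le.2 (mem_inf.2 ⟨fP, self_mem_cent1 f⟩)) _
    exact (mul_mem_cancel_left (k5 k2)).1 (mem_sup_right (mem_inf.2 ⟨mul_mem
      (sup_le (U4.cent_le_norm _) (zpowers_le.2 fP) k2) hn, k4⟩))
  refine sylow_of_hallOf (Cop.sylowOf_of_sylowOf_normalizer (hallOf_of_sylow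
    (IsSylowIn.of_maximal (le_inf le_top le_normalizer) hP.isPGroup fun T hT k1 k2 =>
      (hP.eq_of_le hT k1 (le_trans (fun x hx => ?_) hC)).le)))
  have k3 := inf_le_left.trans (U4.norm_le_norm_cent P) (a := 𝐍(P) ⊓ 𝐂[f])
  exact mem_of_cop (sup_le le_normalizer k3) (h2 (k2 hx).2) (cop_of_pgroup hl hT hx fun e =>
    hH ((e.trans (relIndex_sup_dvd k3).1).trans (card_dvd_of_le inf_le_right)))

variable (hy : y ∈ c.T) (hl : l.Prime) (hd : l ∣ s.natAbs) (oy : orderOf y = l)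
include hy hl hd oy

theorem false_of_w (hf : ∀ φ ∈ F, orderOf φ = 3 → ¬ l ∣ Nat.card 𝐂[φ])
    (h3 : ¬ 3 ∣ Nat.card (Od 𝐂[y])) (hP : IsSylowIn l P ⊤) (hc : P ≤ 𝐂(P)) (yP : y ∈ P)
    (hV : IsSylowIn 2 (V c.t c.u) 𝐍(P)) (ow : orderOf w = 3) (hw : w ∈ 𝐍(P) ⊓ 𝐍(V c.t c.u))
    (hw' : w ∉ 𝐂(V c.t c.u)) (hL : g * w * g⁻¹ ∈ c.L) : False := by
  have := Fact.mk hl
  have : Fact (Nat.Prime 3) := ⟨Nat.prime_three⟩
  obtain ⟨l2, l3, lF, -⟩ := h.cop_s hl hd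
  have y1 := ne_one_of_prime (oy ▸ hl)
  have po := odd_card_of_isPGroup hl l2 hP.isPGroup
  have w3 : w * w * w = 1 := by rw [← pow_orderOf_eq_one w, ow, pow_succ, sq]
  have pT : P ⊓ 𝐂[c.t] ≤ c.T := fun g hg => h.mem_T hy y1 hg.2 (U4.cent_le_cent1 yP (hc hg.1))
    (odd_orderOf_of_mem po hg.1) (cop_of_pgroup hl hP.isPGroup hg.1 lF)
  have k1 : ∀ z ∈ 𝐍(P) ⊓ 𝐍(V c.t c.u), z ∉ 𝐂(V c.t c.u) →
      c.t * (z * y * z⁻¹) * c.t⁻¹ = (z * y * z⁻¹)⁻¹ := fun z hz hz' => by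
    have k2 := norm_mem hz.2 (t_mem_V _ _)
    refine inverts_of_inf_cent (X := P ⊓ 𝐂[z * c.t * z⁻¹]) h.tt (GW.odd_card_of_le po inf_le_left)
      (mem_norm_of fun x hx => ⟨norm_mem (hV.le (t_mem_V _ _)) hx.1,
        cmem (h.V_comm' k2 (t_mem_V _ _)) hx.2⟩) (eq_bot_of_forall fun x hx => ?_) _
      ⟨norm_mem hz.1 yP, conj_cent z (h.comm y (h.TL hy))⟩
    exact eq_one_of_inv_of_comm (odd_orderOf_of_mem po hx.1.1) (h.invT k2
      (conj_ne_one_iff.2 h.four_tu.t1) (fun e => hz' (h.fix_of_norm h.four_tu hz.2 e)) x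
      (pT ⟨hx.1.1, hx.2⟩)) (mem_cent1.1 hx.1.2)
  have p1 := norm_mem hw.1 yP
  have p2 := norm_mem (mul_mem hw hw).1 yP
  have k2 := k1 w hw hw'
  have k3 := k1 _ (mul_mem hw hw) fun e => hw' (by
    rw [← one_mul w, ← w3, mul_assoc (w * w)]; exact mul_mem e e)
  have k4 : w * (y * (w * y * w⁻¹ * (w * w * y * (w * w)⁻¹))) * w⁻¹ =
      y * (w * y * w⁻¹ * (w * w * y * (w * w)⁻¹)) := by
    rw [← conj_mul, ← conj_mul, ← conj_conj, ← conj_conj w (w * w), ← mul_assoc w w w, w3, one_mul,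
      inv_one, mul_one, ← mul_assoc (w * y * w⁻¹), mem_cent.1 (hc (mul_mem p1 p2)) y yP]
  have o1 : (w * y * w⁻¹) ^ l = 1 := by rw [conj_pow, ← oy, pow_orderOf_eq_one]; simp
  have o2 : (w * w * y * (w * w)⁻¹) ^ l = 1 := by rw [conj_pow, ← oy, pow_orderOf_eq_one]; simp
  generalize w * y * w⁻¹ = y' at *
  generalize w * w * y * (w * w)⁻¹ = y'' at *
  have eP := mul_mem yP (mul_mem p1 p2)
  have c1 : Commute y' y'' := mem_cent.1 (hc p2) _ p1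
  have oe : orderOf (y * (y' * y'')) = l := orderOf_eq_prime (by
    rw [Commute.mul_pow (mem_cent.1 (hc (mul_mem p1 p2)) y yP), c1.mul_pow, o1, o2, ← oy,
      pow_orderOf_eq_one]; simp) fun e => y1 (by
    have k5 : c.t * y⁻¹ * c.t⁻¹ = y := by
      rw [← eq_inv_of_mul_eq_one_right e, ← conj_mul, k2, k3, ← mul_inv_rev, ← c1.eq,
        eq_inv_of_mul_eq_one_right e, inv_inv]
    rw [← h.comm _ (h.TL (inv_mem hy)), mul_inv_cancel_right] at k5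
    exact eq_one_of_odd_of_mul_self (odd_orderOf_of_mem po yP) (eq_inv_iff_mul_eq_one.1 k5.symm))
  generalize y * (y' * y'') = e at *
  have we : w ∈ 𝐂[e] := mem_cent1_of_conj_eq k4
  obtain ⟨n, hn⟩ := h.real_of hl hd ow hL oe (mem_cent1_comm.1 we)
  obtain ⟨n, hn, k5⟩ := exists_norm_conj hP (hc.trans (U4.cent_le_cent1 eP))
    (hc.trans (U4.cent_le_cent1 (inv_mem eP))) (mem_top n) hn
  obtain ⟨i, hi, oi, k6⟩ := h.exists_inv (odd_orderOf_of_mem po eP) (ne_one_of_prime (oe ▸ hl))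
    hn.2 k5
  have k7 : Odd (Nat.card 𝐂[e]) := odd_card_of_forall fun j hj oj => by
    obtain ⟨z, -, k⟩ := h.conj_T hl hd (isPGroup_zpowers oe) oj (zpowers_le.2 (mem_cent1_comm.1 hj))
    have := zpowers_eq h.cycT (k (conj_mem_conj_iff.2 (mem_zpowers e))) hy
      (by rw [U4.orderOf_conj, oe, oy])
    refine h3 (ow ▸ U4.orderOf_conj z w ▸ orderOf_dvd_natCard _
      (nilp2_of_not_four_dvd (h.four_cy hy y1) _ ?_ (by rw [U4.orderOf_conj, ow]; decide)))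
    rw [← U4.cent_zpowers, ← this, U4.cent_zpowers]
    exact conj_cent z (mem_cent1.1 we)
  have k8 := GW.odd_card_of_le k7 (inf_le_left (b := 𝐍(P)))
  obtain ⟨Y, y2, y3⟩ := Cop.exists_invariant_sylowOf 3 (A := zpowers i) (G := 𝐂[e] ⊓ 𝐍(P))
    (zpowers_le.2 (mem_norm_of fun x hx => mem_inf.2 ⟨by
      rw [← U4.cent_zpowers] at hx ⊢
      exact norm_mem (U4.norm_le_norm_cent _ (inverts_zpowers k6).mem_norm) hx.1, cmem hi hx.2⟩))
    (coprime_zpowers_inv oi k8) (Or.inr (solvable_of_odd k8))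
  have y4 := Cop.isPGroup_of_isPiHallOf y2
  have y5 := inverts_of_inf_cent (mul_self_of_inv oi) (GW.odd_card_of_le k8 y2.1)
    (y3 (mem_zpowers i)) (eq_bot_of_ord Nat.prime_three y4.to_inf_left fun σ hσ oσ => by
      obtain ⟨z, hz, m1⟩ := hV.exists_conj_le (isPGroup_zpowers oi) (zpowers_le.2 hi)
      obtain ⟨z', hz', m2⟩ := h.trans_of hw hw' (m1 (conj_mem_conj_iff.2 (mem_zpowers i)))
        (conj_ne_one_iff.2 (ne_one_of_inv oi))
      have m3 := mul_mem (inv_mem (mem_inf.1 hz').1) hz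
      have m4 : z'⁻¹ * z * σ * (z'⁻¹ * z)⁻¹ ∈ 𝐂[c.t] := by
        have := conj_cent (z'⁻¹ * z) (mem_cent1.1 hσ.2)
        rwa [conj_conj _ _ i, ← m2, show z'⁻¹ * (z' * c.t * z'⁻¹) * z'⁻¹⁻¹ = c.t by group] at this
      have m5 := U4.orderOf_conj (z'⁻¹ * z) σ
      obtain ⟨m, -, m6⟩ := h.conj_F' hy (by rw [m5, oσ]; exact Nat.prime_three)
        (by rw [m5, oσ]; exact h.not_three_s) (h.mem_TF hy y1 m4 (by rw [m5, oσ]; decide)
          (pT ⟨norm_mem (cmem m3 (y2.1 hσ.1).2) yP, cmem m4 (h.L_le (h.TL hy))⟩))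
      refine hf _ m6 (by rw [U4.orderOf_conj, m5, oσ]) ?_
      rw [← conj_conj, cent1_conj, card_conj, ← oe]
      exact orderOf_dvd_natCard _ (mem_cent1_comm.1 (y2.1 hσ.1).1))
  obtain ⟨m, -, m1⟩ := Cop.exists_conj_le_sylowOf (isPGroup_zpowers ow)
    (zpowers_le.2 (mem_inf.2 ⟨we, hw.1⟩)) y2
  have m2 := y5 _ (m1 (conj_mem_conj_iff.2 (mem_zpowers w)))
  refine h.nonreal (a := (m * g⁻¹) * c.t * (m * g⁻¹)⁻¹) (by rw [U4.orderOf_conj, h.ot]) ?_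
    (by rw [U4.orderOf_conj, ow]) m2
  have := conj_cent (m * g⁻¹) (h.comm _ hL).symm
  rwa [show m * g⁻¹ * (g * w * g⁻¹) * (m * g⁻¹)⁻¹ = m * w * m⁻¹ by group] at this

theorem no_x (hF : F ≠ ⊥) (ha : a ∈ V c.t c.u) (a1 : a ≠ 1) (at' : a ≠ c.t) (hx : x ∈ Od 𝐂[y])
    (hc : x ∈ 𝐂[a]) (ox : orderOf x = l) : False := by
  have := Fact.mk hl
  obtain ⟨l2, l3, lF, lr, -⟩ := h.cop_s hl hd
  have y1 := ne_one_of_prime (oy ▸ hl)
  obtain ⟨ti, fx⟩ := h.inv_x hy y1 hl hd ha a1 at' hx hc ox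
  obtain ⟨f, hf, hk, f3⟩ := h.exists_f hF
  have := Fact.mk hk
  obtain ⟨ω, hω⟩ := exists_exp h.cycT (h.FT hf)
  have xy : x ∈ 𝐂[y] := Od_le _ hx
  have hA : IsPGroup l ↥(zpowers x ⊔ zpowers y) := H1.isPGroup_sup_of_le_normalizer
    (isPGroup_zpowers ox) (isPGroup_zpowers oy)
    (zpowers_le.2 (U4.cent_le_norm _ (by rwa [U4.cent_zpowers])))
  have hn : ∀ i, orderOf i = 2 → i ∈ 𝐂[x] → i ∈ 𝐂[y] → False := fun i oi k1 k2 => by
    have := zpowers_eq (h.cyc_of_inv hl hd hA oi (sup_le (zpowers_le.2 (mem_cent1_comm.1 k1))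
      (zpowers_le.2 (mem_cent1_comm.1 k2)))) (mem_sup_left (mem_zpowers x))
      (mem_sup_right (mem_zpowers y)) (ox.trans oy.symm)
    exact ne_one_of_prime (ox ▸ hl) (eq_one_of_inv_of_comm (odd_of_mem_Od hx) ti
      (h.comm x (h.TL (zpowers_le.2 hy (this ▸ mem_zpowers x)))))
  by_cases fy : f ∈ 𝐂[y]
  · have k1 := h.trx hl hd hf hω ha a1 hc (isPGroup_zpowers ox) (fx hf)
    rw [pow_eq_of_ord (ox.trans oy.symm) ((hω y hy).symm.trans (conj_eq_of_mem_cent1 fy))] at k1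
    obtain ⟨z, -, k2⟩ := exists_conj_mem_of_hall hl inf_le_right (h.conj_H hl hd hf hk) hA
      (sup_le (zpowers_le.2 (mem_cent1_comm.1 (mem_cent1_of_conj_eq k1)))
        (zpowers_le.2 (mem_cent1_comm.1 fy)))
    have k3 : ∀ b ∈ zpowers x ⊔ zpowers y, z⁻¹ * c.t * z⁻¹⁻¹ ∈ 𝐂[b] := fun b hb => by
      simpa [mul_assoc] using conj_cent z⁻¹ (h.comm _ (k2 (conj_mem_conj_iff.2 hb)).1).symm
    exact hn _ (by rw [U4.orderOf_conj, h.ot]) (k3 _ (mem_sup_left (mem_zpowers x)))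
      (k3 _ (mem_sup_right (mem_zpowers y)))
  have lH : ¬ l ∣ Nat.card 𝐂[f] := fun e => by
    rw [← card_mul_relIndex (inf_le_right : c.L ⊓ 𝐂[f] ≤ _), hl.dvd_mul] at e
    obtain ⟨z, hz, oz⟩ := exists_ord_of_dvd hl (e.resolve_right (h.conj_H hl hd hf hk))
    have k1 := mem_cent1_comm.1 hz.2
    have k2 := h.trx hl hd hf hω (t_mem_V _ _) h.four_tu.t1 (h.L_le hz.1) (isPGroup_zpowers oz)
      (U4.cent_le_norm _ (by rwa [U4.cent_zpowers]))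
    exact fy (mem_cent1_of_conj_eq ((hω y hy).trans (pow_eq_of_ord (oy.trans oz.symm)
      (k2.symm.trans (conj_eq_of_mem_cent1 k1)))))
  have kF : ∀ φ ∈ F, orderOf φ = orderOf f → 𝐂[φ] = 𝐂[f] := fun φ hφ e => by
    rw [← U4.cent_zpowers, zpowers_eq h.cycF hφ hf e, U4.cent_zpowers]
  have k0 : ∀ m, (Nat.card F).Coprime m → ¬ orderOf f ∣ m := fun m hm =>
    hk.coprime_iff_not_dvd.1 (hm.coprime_dvd_left (orderOf_dvd_natCard _ hf))
  have kK := h.not_dvd_K hy y1 hk (k0 _ h.cop_Fr) (k0 _ h.cop_Fs) fun φ hφ e k =>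
    fy (mem_cent1_comm.1 (kF φ hφ e ▸ mem_cent1_comm.1 k))
  have f3' : ∀ φ ∈ F, orderOf φ = 3 → 𝐂[φ] = 𝐂[f] := fun φ hφ e =>
    kF φ hφ (e.trans (f3 (e ▸ orderOf_dvd_natCard _ hφ)).symm)
  have K3 := h.not_dvd_K hy y1 Nat.prime_three h.not_three_r h.not_three_s fun φ hφ e k =>
    fy (mem_cent1_comm.1 (f3' φ hφ e ▸ mem_cent1_comm.1 k))
  obtain ⟨E, e1, e2⟩ := IsSylowIn.exists_ge (isPGroup_zpowers (g := f) rfl) (zpowers_le.2 hf)
  have EV : E ≤ 𝐂(V c.t c.u) := (e2.le.trans le_sup_right).trans h.RF_le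
  have Vx : V c.t c.u ≤ 𝐍(zpowers x) := by
    rw [← h.four_tu.V_eq ⟨h.ot, h.ord_V ha a1, mem_cent1.1 (h.V_comm' ha (t_mem_V _ _)), at'.symm⟩
      (t_mem_V _ _) ha]
    exact le_norm_of_V (inverts_zpowers ti).mem_norm
      (U4.cent_le_norm _ (by rw [U4.cent_zpowers]; exact mem_cent1_comm.1 hc))
  obtain ⟨P, p1, p2, p3⟩ := Cop.exists_invariant_sylowOf_ge (A := E ⊔ V c.t c.u)
    (sup_le (e2.le.trans (h.F_K hy)) (h.V_K hy)) (Nat.Coprime.coprime_dvd_left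
      (card_sup_dvd_mul (EV.trans (U4.cent_le_norm _))) (Nat.Coprime.mul_left (by
        rw [e2.card_eq_ordProj]; exact (hk.coprime_iff_not_dvd.2 kK).pow_left _)
        (h.four_tu.coprime_V (odd_Od _))))
    (Or.inr (solvable_Od _)) (isPGroup_zpowers ox) (zpowers_le.2 hx) (sup_le (e2.le.trans fx) Vx)
  have p4 := Cop.isPGroup_of_isPiHallOf p1
  have po := GW.odd_card_of_le (odd_Od _) p1.1
  have xP := p3 (mem_zpowers x)
  have yP : y ∈ P := Cop.le_sylowOf_of_le_normalizer p1 (isPGroup_zpowers oy)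
    (h.le_K hy y1 (zpowers_le_cent1 y) (odd_zpowers (odd_orderOf_of_mem h.oddT hy)))
    ((p1.1.trans (Od_le _)).trans (U4.cent_zpowers y ▸ U4.cent_le_norm _)) (mem_zpowers y)
  have VP := le_sup_right.trans p2
  have fP := p2 (mem_sup_left (e1 (mem_zpowers f)))
  have p5 : ∀ b ∈ V c.t c.u, b ≠ 1 → ∀ z ∈ P, z ∈ 𝐂[b] → f * z * f⁻¹ = z ^ ω :=
    fun b hb b1 z hz k => h.trx hl hd hf hω hb b1 k (p4.to_le (zpowers_le.2 hz))
      (norm_le_norm_of_le_cyclic (h.cyc_of_inv hl hd p4.to_inf_left (h.ord_V hb b1) inf_le_right)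
        (zpowers_le.2 ⟨hz, k⟩) (mem_norm_of fun v hv =>
          ⟨norm_mem fP hv.1, cmem (h.F_le (h.V_le_S hb) hf) hv.2⟩))
  have p6 := comm_of_pow hl p4 h.four_tu po VP p5 fun z hz e => by
    by_contra z1
    obtain ⟨v, hv, ov⟩ := exists_ord hl p4 hz z1
    exact lH (ov ▸ orderOf_dvd_natCard _ (zpowers_le.2 (mem_cent1_comm.1 (mem_cent1_of_conj_eq e)) hv))
  have p7 := h.sylow_top hl hf hk (sylow_of_hallOf p1) (h.le_K hy y1 (U4.cent_le_cent1 yP)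
    (odd_card_of_forall fun i hi oi => hn i oi (U4.cent_le_cent1 xP hi) (U4.cent_le_cent1 yP hi)))
    kK lH (pow_of_comm h.four_tu po VP p6 p5)
  have p8 := h.sylow_V hy hl hd oy p4 yP xP ox VP ha a1 at' hc ti hn
  obtain ⟨g, -, g1⟩ := h.conj_T hl hd (isPGroup_zpowers ox) (h.ord_V ha a1) (zpowers_le.2 hc)
  have g2 := zpowers_eq h.cycT (g1 (conj_mem_conj_iff.2 (mem_zpowers x))) hy
    (by rw [U4.orderOf_conj, ox, oy])
  have g3 : 𝐂[g * x * g⁻¹] = 𝐂[y] := by rw [← U4.cent_zpowers, g2, U4.cent_zpowers]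
  obtain ⟨n, hn, n1⟩ := exists_norm_conj p7 (p6.trans (U4.cent_le_cent1 xP))
    (g3 ▸ p6.trans (U4.cent_le_cent1 yP)) (mem_top g) rfl
  obtain ⟨z, hz, n2⟩ := GF.conj_of_not_four (M := 𝐂[y] ⊓ 𝐍(P)) (a := n * a * n⁻¹)
    (by rw [U4.orderOf_conj, h.ord_V ha a1]) ⟨by
      rw [← g3, ← n1]; exact conj_cent n (mem_cent1'.1 hc), cmem hn.2 (VP ha)⟩ h.ot
    ⟨mem_cent1_comm.1 (h.L_le (h.TL hy)), VP (t_mem_V _ _)⟩
    fun e => h.four_cy hy y1 (e.trans (card_dvd_of_le inf_le_left))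
  obtain ⟨m, hm, m1⟩ := exists_norm_conj p8 (fun b hb => h.V_comm' ha hb) h.four_tu.V_le_cent1
    (mul_mem hz.2 hn.2) (by rw [conj_conj, n2])
  have m2 : m ∉ 𝐂(V c.t c.u) := fun e =>
    at' ((conj_eq_of_mem_cent1 (U4.cent_le_cent1 ha e)).symm.trans m1)
  obtain ⟨w, hw⟩ := h.exists_w
  have w1 : w ∉ 𝐂(V c.t c.u) := fun e => h.four_tu.ne
    ((conj_eq_of_mem_cent1 (U4.cent_le_cent1 (t_mem_V _ _) e)).symm.trans hw.wt)
  have w2 : ¬ 3 ∣ (𝐍(P) ⊓ 𝐍(V c.t c.u)).relIndex 𝐍(V c.t c.u) := fun e => by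
    obtain ⟨E, e1, e2, e3⟩ : ∃ E ≤ 𝐂(V c.t c.u) ⊓ (𝐍(P) ⊓ 𝐍(V c.t c.u)), E ≤ F ∧
        ¬ 3 ∣ E.relIndex F := by
      by_cases k : 3 ∣ Nat.card F
      · exact ⟨E, le_inf EV (le_inf (le_sup_left.trans p2) (EV.trans (U4.cent_le_norm _))), e2.le,
          f3 k ▸ e2.not_dvd⟩
      · exact ⟨⊥, bot_le, bot_le, by rwa [relIndex_bot_left]⟩
    have k1 := card_mul_relIndex (U4.cent_le_norm (V c.t c.u))
    have k2 := h.idx_of (M := ⊤) ⟨mem_top w, h.w_nv hw⟩ w1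
    rw [top_inf_eq] at k2
    rw [k2, h.card_cv, ← card_mul_relIndex e2,
      ← card_mul_relIndex (inf_le_right : 𝐍(P) ⊓ 𝐍(V c.t c.u) ≤ _),
      ← card_mul_relIndex (inf_le_right : 𝐂(V c.t c.u) ⊓ (𝐍(P) ⊓ 𝐍(V c.t c.u)) ≤ _),
      inf_relIndex_right, h.idx_of hm m2, ← card_mul_relIndex e1] at k1
    have k3 : 8 * (r.natAbs * E.relIndex F) = E.relIndex (𝐂(V c.t c.u) ⊓ (𝐍(P) ⊓ 𝐍(V c.t c.u))) *
        (𝐍(P) ⊓ 𝐍(V c.t c.u)).relIndex 𝐍(V c.t c.u) :=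
      Nat.eq_of_mul_eq_mul_left (Nat.mul_pos (Nat.card_pos (α := E)) (by norm_num : 0 < 3))
        (by linear_combination k1)
    have k4 := k3 ▸ e.mul_left _
    simp only [Nat.prime_three.dvd_mul] at k4
    exact k4.elim (by decide) fun k => k.elim h.not_three_r e3
  obtain ⟨v, hv, w3⟩ := exists_conj_mem_of_hall Nat.prime_three inf_le_right w2
    (isPGroup_zpowers hw.ow) (zpowers_le.2 (h.w_nv hw))
  obtain ⟨g, w4⟩ := hw.wL
  exact h.false_of_w (g := g * v⁻¹) hy hl hd oy (fun φ hφ e => f3' φ hφ e ▸ lH) K3 p7 p6 yP p8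
    (by rw [U4.orderOf_conj, hw.ow]) (w3 (conj_mem_conj_iff.2 (mem_zpowers w)))
    (fun e => w1 (by simpa [mul_assoc] using norm_mem' (U4.norm_le_norm_cent _ hv) e))
    (by simpa [mul_assoc] using w4)

omit hy oy in
theorem hall_T' (hF : F ≠ ⊥) (hT : c.T ≤ H) : ¬ l ∣ c.T.relIndex H := fun e => by
  have := Fact.mk hl
  obtain ⟨l2, l3, lF, lr, -⟩ := h.cop_s hl hd
  obtain ⟨y, hy, oy⟩ := exists_ord_of_dvd hl (h.cardT ▸ hd)
  have y1 := ne_one_of_prime (oy ▸ hl)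
  obtain ⟨P, p1, p2⟩ := Cop.exists_invariant_sylowOf l (h.V_K hy) (h.four_tu.coprime_V (odd_Od _))
    (Or.inr (solvable_Od _))
  have p3 := Cop.isPGroup_of_isPiHallOf p1
  have po := GW.odd_card_of_le (odd_Od _) p1.1
  have p4 : P ≤ c.T := h.le_of_V po p2 (fun g hg => h.mem_T hy y1 hg.2 (Od_le _ (p1.1 hg.1))
    (odd_orderOf_of_mem po hg.1) (cop_of_pgroup hl p3 hg.1 lF)) fun a ha a1 a2 =>
      (eq_bot_of_ord hl p3.to_inf_left fun x hx ox =>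
        h.no_x hy hl hd oy hF ha a1 a2 (p1.1 hx.1) hx.2 ox).le.trans bot_le
  have yP : zpowers y ≤ P := Cop.le_sylowOf_of_le_normalizer p1 (isPGroup_zpowers oy)
    (h.le_K hy y1 (zpowers_le_cent1 y) (odd_zpowers (odd_orderOf_of_mem h.oddT hy)))
    ((p1.1.trans (Od_le _)).trans (U4.cent_zpowers y ▸ U4.cent_le_norm _))
  have p5 := sylow_of_hallOf (Cop.sylowOf_of_sylowOf_normalizer (G := ⊤) (hallOf_of_sylow
    (IsSylowIn.of_maximal (le_inf le_top le_normalizer) p3 fun X hX k1 k2 =>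
      (Cop.eq_of_sylowOf_le p1 hX (h.le_K hy y1 ?_ (odd_card_of_isPGroup hl l2 hX)) k1).ge)))
  · refine p5.not_dvd ?_
    rw [← relIndex_mul_relIndex _ _ _ p4 le_top, ← relIndex_mul_relIndex _ _ _ hT le_top]
    exact (e.mul_right _).mul_left _
  have k3 := (k2.trans inf_le_right).trans
    (norm_le_norm_of_le_cyclic (isCyclic_of_le' h.cycT p4) yP)
  rw [← U4.cent_zpowers]
  refine fun x hx => mem_of_cop (k3.trans (U4.norm_le_norm_cent _)) hx (cop_of_pgroup hl hX hx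
    fun e => ?_)
  have k4 : l ∣ l - 1 := e.trans (relIndex_cent_prime_dvd k3 (by rw [Nat.card_zpowers, oy]))
  have := hl.two_le
  have := Nat.le_of_dvd (by omega) k4
  omega

end GB

theorem GB.cent_T (h : GB q r s c F) (hF : F ≠ ⊥) (hy : y ∈ c.T) (h1 : y ≠ 1) :
    𝐂[y] ≤ 𝐂[c.t] := by
  have ht : c.t ∈ 𝐂[y] := mem_cent1'.2 (h.comm y (h.TL hy))
  have h4 : c.T ≤ Od 𝐂[y] := h.le_K hy h1 (h.cent_eq_T hy h1 ▸ inf_le_right) h.oddT
  have nt := le_norm_Od _ ht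
  have h5 : Od 𝐂[y] ≤ 𝐂[c.t] := h.le_of_V (odd_Od _) (h.V_K hy) inf_le_right fun a ha a1 _ => by
    by_contra e
    have hc := h.V_comm' ha (t_mem_V _ _)
    obtain ⟨x, hx, x1, k1⟩ := exists_inverted h.tt (GW.odd_card_of_le (odd_Od _) inf_le_left)
      (mem_norm_of fun x hx => ⟨norm_mem nt hx.1, cmem hc hx.2⟩) e
    obtain ⟨x, hx', hk⟩ := exists_prime_elem x1
    replace k1 := inverts_zpowers k1 x hx'
    replace hx := zpowers_le.2 hx hx'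
    have ox := odd_of_mem_Od hx.1
    rcases h.inv_cases (h.ord_V ha a1) hx.2 hk ox hc k1 with k3 | ⟨g, k3⟩
    · obtain ⟨z, hz, k4⟩ := exists_conj_mem_of_hall hk h4 (h.hall_T' hk k3 hF h4)
        (isPGroup_zpowers rfl) (zpowers_le.2 hx.1)
      have k5 := h.comm _ (h.TL (k4 (conj_mem_conj_iff.2 (mem_zpowers x))))
      have k6 := eq_inv_of_odd (z := c.t * z⁻¹ * c.t⁻¹ * z) (x := x)
        (odd_of_mem_Od (mul_mem (norm_mem nt (inv_mem hz)) hz)) (by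
          rw [← k1, show c.t * z⁻¹ * c.t⁻¹ * z * x * (c.t * z⁻¹ * c.t⁻¹ * z)⁻¹ =
            c.t * z⁻¹ * c.t⁻¹ * (z * x * z⁻¹ * c.t) * z * c.t⁻¹ by group, k5]
          group)
      exact ne_one_of_prime hk (eq_one_of_odd_of_mul_self ox (eq_inv_iff_mul_eq_one.1 k6))
    · obtain ⟨l, hl, hd⟩ := exists_prime_dvd_orderOf h1
      refine h.not_dvd_cx k3 (conj_ne_one_iff.2 (ne_one_of_prime hk)) hl
        (hd.trans (h.cardT ▸ orderOf_dvd_natCard _ hy)) ?_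
      rw [cent1_conj, card_conj]
      exact hd.trans (orderOf_dvd_natCard _ (mem_cent1_comm.1 (Od_le _ hx.1)))
  exact fun g hg => (GF.mem_Od h.ot ht (h.four_cy hy h1) hg).elim (fun e => h5 e)
    fun e => (mul_mem_cancel_left (self_mem_cent1 _)).1 (h5 e)

end CfsgLib.JR
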