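import Cfsg.Agent.Lib.JR.BHecke

/-!
# The linear character of `B` with kernel `K D`, and the case `3 ∣ |F|`
-/

set_option autoImplicit false
set_option linter.unusedSimpArgs false
set_option linter.unusedSectionVars false
set_option linter.unusedVariables false

namespace CfsgLib.JR

open Subgroup Cfsg CfsgLib.FT CfsgLib.FT.BGN CfsgLib.FT.U4 CfsgLib.GW

variable {G : Type*} [Group G] [Fintype G] {q r s : ℤ} {c : Cfg G} {a b d f g j x y z φ : G}
  {B F H K N P U X Z : Subgroup G} {lam : G → ℂ}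

theorem prod_three {ι : Type*} {π : ι → ι} (h3 : ∀ x, π (π (π x)) = x) {a : ι → ℂ} (s : Finset ι)
    (hs : ∀ x ∈ s, π x ∈ s) (hne : ∀ x ∈ s, π x ≠ x)
    (ha : ∀ x ∈ s, a x * (a (π x) * a (π (π x))) = 1) : ∏ x ∈ s, a x = 1 := by
  classical
  induction' s using Finset.strongInduction with s ih
  rcases s.eq_empty_or_nonempty with rfl | ⟨x, hx⟩
  · rfl
  have h1 : {x, π x, π (π x)} ⊆ s := by
    simp [Finset.insert_subset_iff, hx, hs _ hx, hs _ (hs _ hx)]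
  have h2 : Function.Injective π := fun x y e => by rw [← h3 x, e, h3]
  rw [← Finset.prod_sdiff h1, ih _ (Finset.sdiff_ssubset h1 (by simp)) (fun y hy => ?_)
    (fun y hy => hne y (Finset.mem_sdiff.1 hy).1) fun y hy => ha y (Finset.mem_sdiff.1 hy).1, one_mul,
    Finset.prod_insert, Finset.prod_pair (hne _ (hs _ hx)).symm, ha x hx]
  · simpa using ⟨(hne x hx).symm, fun e => hne x hx ((congrArg π e).trans (h3 x))⟩
  · simp only [Finset.mem_sdiff, Finset.mem_insert, Finset.mem_singleton, h2.eq_iff] at hy ⊢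
    refine ⟨hs y hy.1, fun e => hy.2 ?_⟩
    rcases e with e | e | e
    · exact Or.inr (Or.inr (by rw [← e, h3]))
    · exact Or.inl e
    · exact Or.inr (Or.inl e)

/-- A linear character of `B` with kernel `N`, extended by zero. -/
structure LM (B N : Subgroup G) (lam : G → ℂ) : Prop where
  le : N ≤ B
  mul : ∀ a ∈ B, ∀ b ∈ B, lam (a * b) = lam a * lam b
  ker : ∀ g, lam g = 1 ↔ g ∈ N
  zero : ∀ g ∉ B, lam g = 0

theorem exists_LM (hF : IsCyclic F) (h1 : B = N ⊔ F) (h2 : F ≤ 𝐍(N)) (h3 : N ⊓ F = ⊥) :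
    ∃ lam, LM B N lam := by
  classical
  have : NeZero (Nat.card F) := ⟨Nat.card_pos.ne'⟩
  let e : F ≃* rootsOfUnity (Nat.card F) ℂ :=
    mulEquivOfCyclicCardEq (Complex.card_rootsOfUnity _).symm
  let ρ : F →* ℂ := ((Units.coeHom ℂ).comp (rootsOfUnity _ ℂ).subtype).comp e.toMonoidHom
  have hρ : Function.Injective ρ := (Units.val_injective.comp Subtype.val_injective).comp e.injective
  have k0 : ∀ g ∈ B, ∃ φ : F, g * (φ : G)⁻¹ ∈ N := fun g hg => by
    obtain ⟨n, hn, φ, hφ, rfl⟩ := (mem_sup_iff_of_le_normalizer' h2).1 (h1 ▸ hg)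
    exact ⟨⟨φ, hφ⟩, by simpa⟩
  choose! ψ hψ using k0
  have k1 : ∀ g ∈ B, ∀ φ : F, g * (φ : G)⁻¹ ∈ N → ψ g = φ := fun g hg φ e =>
    Subtype.ext (mul_inv_eq_one.1 (eq_one_of_mem_inf h3 (by
      simpa [mul_assoc] using mul_mem (inv_mem (hψ g hg)) e) (mul_mem (ψ g).2 (inv_mem φ.2))))
  have k2 : N ≤ B := h1 ▸ le_sup_left
  refine ⟨fun g => if g ∈ B then ρ (ψ g) else 0, k2, fun a ha b hb => ?_, fun g => ?_,
    fun g hg => if_neg hg⟩
  · rw [if_pos ha, if_pos hb, if_pos (mul_mem ha hb), ← map_mul, k1 _ (mul_mem ha hb) (ψ a * ψ b) (by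
      simpa [mul_assoc] using mul_mem (hψ a ha) (norm_mem (h2 (ψ a).2) (hψ b hb)))]
  · by_cases e : g ∈ B
    · rw [if_pos e, map_eq_one_iff ρ hρ]
      exact ⟨fun k => by simpa [k] using hψ g e, fun k => k1 g e 1 (by simpa)⟩
    · simpa [e] using fun k => e (k2 k)

namespace LM

variable (h : LM B N lam)
include h

theorem one : lam 1 = 1 := (h.ker 1).2 (one_mem _)

theorem pow (ha : a ∈ B) (m : ℕ) : lam (a ^ m) = lam a ^ m := by
  induction m with
  | zero => rw [pow_zero, pow_zero, h.one]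
  | succ m ih => rw [pow_succ, pow_succ, h.mul _ (pow_mem ha m) _ ha, ih]

theorem conj (ha : a ∈ B) (hb : b ∈ B) : lam (b * a * b⁻¹) = lam a := by
  rw [h.mul _ (mul_mem hb ha) _ (inv_mem hb), h.mul _ hb _ ha, mul_right_comm,
    ← h.mul _ hb _ (inv_mem hb), mul_inv_cancel, h.one, one_mul]

theorem eq_of (ha : a ∈ N) (hb : b ∈ B) : lam (a * b) = lam b := by
  rw [h.mul _ (h.le ha) _ hb, (h.ker a).2 ha, one_mul]

/-- Evaluation of the transfer at an element of order `3`. -/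
theorem transfer (hp : ∀ V : G →* ℂ, V f = 1) (hf : f ∈ B) (f3 : f ^ 3 = 1) (d3 : d ^ 3 = 1)
    (hc : d * f = f * d) (hi : ¬ 3 ∣ B.index)
    (key : ∀ g, g⁻¹ * f * g ∈ B → g⁻¹ * d * g ∈ B → lam (g⁻¹ * f * g) = lam f) : f ∈ N := by
  classical
  have := Fintype.ofFinite (G ⧸ B)
  have k0 : ∀ (g : G) (ω : G ⧸ B), (g • ω).out⁻¹ * g * ω.out ∈ B := fun g ω => by
    rw [mul_assoc, ← QuotientGroup.eq, QuotientGroup.out_eq']
    exact (MulAction.Quotient.mk_smul_out B g ω).symm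
  have k1 : ∀ (a b : G) (ω : G ⧸ B), lam (((a * b) • ω).out⁻¹ * (a * b) * ω.out) =
      lam ((a • b • ω).out⁻¹ * a * (b • ω).out) * lam ((b • ω).out⁻¹ * b * ω.out) := fun a b ω => by
    rw [← h.mul _ (k0 _ _) _ (k0 _ _), mul_smul]; congr 1; group
  have h1 := hp ⟨⟨fun g => ∏ ω : G ⧸ B, lam ((g • ω).out⁻¹ * g * ω.out), by simp [h.one]⟩,
    fun a b => by
      simp only [k1, Finset.prod_mul_distrib]
      exact congrArg (· * _)
        (Equiv.prod_comp (MulAction.toPerm b) fun ω : G ⧸ B => lam ((a • ω).out⁻¹ * a * ω.out))⟩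
  replace h1 : ∏ ω : G ⧸ B, lam ((f • ω).out⁻¹ * f * ω.out) = 1 := h1
  have z3 : lam f ^ 3 = 1 := by rw [← h.pow hf, f3, h.one]
  have k2 : ∀ g : G, g ^ 3 = 1 → ∀ ω : G ⧸ B, g • g • g • ω = ω := fun g e ω => by
    rw [smul_smul, smul_smul, ← pow_three', e, one_smul]
  have k3 : ∀ (g : G) (ω : G ⧸ B), f • ω = ω → f • g • ω = g • ω → g * f = f * g →
      lam ((f • g • ω).out⁻¹ * f * (g • ω).out) = lam ((f • ω).out⁻¹ * f * ω.out) :=
    fun g ω e1 e2 e3 => by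
      rw [← h.conj (k0 f ω) (k0 g ω), e1, e2]
      congr 1
      calc _ = (g • ω).out⁻¹ * (f * g) * g⁻¹ * (g • ω).out := by group
        _ = _ := by rw [← e3]; group
  have h2 : ∏ ω : G ⧸ B, lam ((f • ω).out⁻¹ * f * ω.out) * lam f ^ 2 = 1 := by
    rw [← Finset.prod_filter_mul_prod_filter_not _ fun ω => f • ω = ω,
      ← Finset.prod_filter_mul_prod_filter_not (Finset.filter _ _) fun ω => d • ω = ω,
      Finset.prod_eq_one fun ω hω => ?_, prod_three (k2 d d3) _ (fun ω hω => ?_)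
      (fun ω hω => (Finset.mem_filter.1 hω).2) fun ω hω => ?_, prod_three (k2 f f3) _ (fun ω hω => ?_)
      (fun ω hω => (Finset.mem_filter.1 hω).2) fun ω hω => ?_, one_mul, one_mul]
    · simpa using hω
    · have := k1 f (f * f) ω
      rw [k1 f f, ← pow_three, f3, mul_smul] at this
      simp only [one_smul, mul_one, inv_mul_cancel, h.one] at this
      linear_combination -lam f ^ 6 * this + (lam f ^ 3 + 1) * z3
    · simp only [Finset.mem_filter, Finset.mem_univ, true_and] at hω ⊢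
      exact ⟨by rw [smul_smul, ← hc, mul_smul, hω.1], by simpa using hω.2⟩
    · have e1 := (Finset.mem_filter.1 (Finset.mem_filter.1 hω).1).2
      have e2 : f • d • ω = d • ω := by rw [smul_smul, ← hc, mul_smul, e1]
      have := h.pow (k0 f ω) 3
      rw [k3 d _ e2 (by rw [smul_smul, ← hc, mul_smul, e2]) hc, k3 d _ e1 e2 hc]
      rw [e1, ← inv_inv ω.out, inv_inv ω.out⁻¹, conj_pow, f3, mul_one, mul_inv_cancel, h.one,
        inv_inv] at this
      rw [e1]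
      linear_combination -lam f ^ 6 * this + (lam f ^ 3 + 1) * z3
    · simp only [Finset.mem_filter, Finset.mem_univ, true_and] at hω
      have e1 := k0 f ω
      have e2 := k0 d ω
      rw [hω.1] at e1 ⊢
      rw [hω.2] at e2
      rw [key _ e1 e2, ← pow_succ', z3]
  rw [Finset.prod_mul_distrib, h1, one_mul, Finset.prod_const, Finset.card_univ,
    ← Nat.card_eq_fintype_card, ← pow_mul] at h2
  exact (h.ker f).1 ((pow_eq_one_iff_of_coprime (Nat.Coprime.mul_right (by norm_num)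
    (Nat.prime_three.coprime_iff_not_dvd.2 hi))).1 ⟨z3, h2⟩)

end LM

namespace GB

variable (h : GB q r s c F)
include h

theorem hom_one (V : G →* ℂ) (g : G) : V g = 1 := by
  have := h.simpleG
  rcases V.normal_ker.eq_bot_or_eq_top with e | e
  · obtain ⟨y, hy, y1⟩ := exists_ne_one h.T_ne
    have h1 : Function.Injective V := (injective_iff_map_eq_one V).2 fun a ha => mem_bot.1 (e ▸ ha)
    exact absurd (eq_one_of_inv_of_comm (odd_orderOf_of_mem h.oddT hy) (h.uT y hy)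
      (h1 (by rw [map_mul, map_mul, mul_comm]))) y1
  · exact (e ▸ mem_top g : g ∈ V.ker)

theorem D_cent : c.D ≤ 𝐂(c.T) := sup_le (le_cent_of_isCyclic h.cycT)
  (zpowers_le.2 (mem_cent.2 fun y hy => h.comm y (h.TL hy)))

variable (hU : MU c F U) (hK : KB c F U 𝐍(U) K)
include hU hK

theorem F_N : F ≤ 𝐍(K ⊔ c.D) := fun _ hg => mem_norm_sup (hK.norm (hU.FU hg)) (mem_norm_sup (h.FT hg)
  (U4.cent_le_norm _ (by rw [U4.cent_zpowers]; exact h.F_le h.t_S hg)))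

theorem N_le : K ⊔ c.D ≤ 𝐍(U) := sup_le (hK.le.trans (Od_le _)) hU.DU

theorem B_eq : 𝐍(U) = (K ⊔ c.D) ⊔ F := le_antisymm (h.B_le hU hK (le_sup_left.trans le_sup_left)
  (le_sup_right.trans le_sup_left) le_sup_right) (sup_le (h.N_le hU hK) hU.FU)

theorem NF_bot : (K ⊔ c.D) ⊓ F = ⊥ := eq_bot_of_forall fun φ hφ => by
  obtain ⟨a, ha, d, hd, e⟩ := (mem_sup_iff_of_le_normalizer' (hU.DU.trans hK.norm)).1 hφ.1
  refine h.faithT hφ.2 (mem_cent.2 fun y hy => ?_)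
  have := eq_one_of_mem_inf hK.KT_bot (x := φ * y * φ⁻¹ * y⁻¹) (by
    rw [← e, conj_conj, ← mem_cent.1 (h.D_cent hd) y hy, mul_inv_cancel_right]
    simpa only [mul_assoc] using mul_mem ha (norm_mem (hK.norm (hU.TU hy)) (inv_mem ha)))
    (mul_mem (norm_mem (h.FT hφ.2) hy) (inv_mem hy))
  rw [mul_inv_eq_one, mul_inv_eq_iff_eq_mul] at this
  exact this.symm

theorem exists_lam : ∃ lam, LM 𝐍(U) (K ⊔ c.D) lam :=
  exists_LM h.cycF (h.B_eq hU hK) (h.F_N hU hK) (h.NF_bot hU hK)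

theorem mem_U_of_N (hx : x ∈ K ⊔ c.D) (hP : IsPGroup 3 (zpowers x)) : x ∈ U :=
  hK.mem_U (mem_of_cop (sup_le le_normalizer (hU.DU.trans hK.norm)) hx
    (cop_of_pgroup Nat.prime_three hP (mem_zpowers x) fun e => by
      have := e.trans (relIndex_sup_dvd (hU.DU.trans hK.norm)).1
      have := h.not_three_s
      rw [h.card_D] at *
      omega)) hP

theorem LB_le (hx : x ∈ c.L) (hb : x ∈ 𝐍(U)) : x ∈ K ⊔ c.D :=
  sup_le_sup (hU.QU.trans hK.UK) le_sup_left (h.normQ h.hq0 x hx (mem_norm_of fun y hy => by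
    rw [← h.U_ct hU] at hy ⊢
    exact ⟨norm_mem hb hy.1, cmem (h.L_le hx) hy.2⟩))

theorem not_three (hF : F ≠ ⊥) (hZ : ZB c U Z) : ¬ 3 ∣ Nat.card F := fun h3 => by
  have : Fact (Nat.Prime 3) := ⟨Nat.prime_three⟩
  obtain ⟨f, hf, of⟩ := exists_ord_of_dvd Nat.prime_three h3
  obtain ⟨d0, hd0, d1, dF⟩ := h.dQ
  obtain ⟨d, hd, od⟩ := exists_ord Nat.prime_three h.pQ hd0 d1
  have dL := h.QL (zpowers_le.2 hd0 hd)
  have hc := (mem_cent.1 (zpowers_le.2 dF hd) f hf).symm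
  obtain ⟨lam, hl⟩ := h.exists_lam hU hK
  obtain ⟨P, hP⟩ := IsSylowIn.exists_in (p := 3) 𝐍(U)
  have f3 := of ▸ pow_orderOf_eq_one f
  have d3 := od ▸ pow_orderOf_eq_one d
  have ft := h.F_le h.t_S hf
  refine ne_one_of_prime (of ▸ Nat.prime_three) (eq_one_of_mem_inf (h.NF_bot hU hK)
    (hl.transfer (fun V => h.hom_one V f) (hU.FU hf) f3 d3 hc (fun e => ?_) fun g k1 k2 => ?_) hf)
  · refine (h.sylow_B hU hK hF hZ hP).2.2.not_dvd ?_
    rw [relIndex_top_right, ← relIndex_mul_index hP.le]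
    exact e.mul_left _
  have key : ∀ y ∈ 𝐂[c.t], y ≠ 1 → y ^ 3 = 1 → lam (g⁻¹ * y * g) = 1 →
      g⁻¹ * c.t * g⁻¹⁻¹ ∈ 𝐍(U) := fun y hy y1 y3 e => by
    rw [← inv_inv g, inv_inv g⁻¹] at e
    exact h.cent_U hU hK hF hZ (h.mem_U_of_N hU hK ((hl.ker _).1 e) (isPGroup_zpowers (by
      rw [U4.orderOf_conj, orderOf_eq_prime y3 y1]))) (conj_ne_one_iff.2 y1)
      (conj_cent g⁻¹ (mem_cent1'.1 hy))
  have k3 : ∀ y : G, y ^ 3 = 1 → g⁻¹ * y * g ∈ 𝐍(U) → lam (g⁻¹ * y * g) ^ 3 = 1 := fun y y3 e => by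
    rw [← hl.pow e, ← inv_inv g, inv_inv g⁻¹, conj_pow, y3, mul_one, mul_inv_cancel, hl.one]
  have k4 : ∀ i : ℕ, lam (g⁻¹ * d * g) * lam (g⁻¹ * f * g) ^ i = 1 →
      g⁻¹ * c.t * g⁻¹⁻¹ ∈ 𝐍(U) := fun i e => key (d * f ^ i) (mul_mem (h.L_le dL) (pow_mem ft i))
    (fun e => ne_one_of_prime (od ▸ Nat.prime_three) (eq_one_of_mem_inf h.inf_LF dL
      (eq_inv_of_mul_eq_one_left e ▸ inv_mem (pow_mem hf i))))
    (by rw [(Commute.pow_right hc i).mul_pow, d3, pow_right_comm, f3, one_pow, one_mul]) (by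
      rw [← e, ← hl.pow k1, ← hl.mul _ k2 _ (pow_mem k1 i), ← inv_inv g, inv_inv g⁻¹, conj_pow, conj_mul])
  have k5 : g⁻¹ * c.t * g⁻¹⁻¹ ∈ 𝐍(U) := by
    have e1 := k3 f f3 k1
    have e2 := k3 d d3 k2
    by_cases e : lam (g⁻¹ * f * g) = 1
    · exact key f ft (ne_one_of_prime (of ▸ Nat.prime_three)) f3 e
    generalize lam (g⁻¹ * f * g) = b at *
    generalize lam (g⁻¹ * d * g) = a at *
    have e3 : b ^ 2 + b + 1 = 0 := mul_left_cancel₀ (sub_ne_zero.2 e) (by linear_combination e1)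
    have e4 : (a * b ^ 0 - 1) * ((a * b ^ 1 - 1) * (a * b ^ 2 - 1)) = 0 := by
      linear_combination (a - a ^ 2 * b) * e3 + a ^ 3 * e1 + e2
    simp only [mul_eq_zero, sub_eq_zero] at e4
    exact e4.elim (k4 0) fun e => e.elim (k4 1) (k4 2)
  obtain ⟨b, hb, e⟩ := GF.conj_of_not_four (by rw [U4.orderOf_conj, h.ot]) k5 h.ot hU.tU hK.four
  rw [← conj_conj] at e
  have k6 : b * g⁻¹ * f * (b * g⁻¹)⁻¹ = b * (g⁻¹ * f * g) * b⁻¹ := by group
  rw [← hl.conj k1 hb, ← k6, ← hl.eq_of (h.LB_le hU hK (h.comm_mem_L (mem_cent1_of_conj_eq e) ft)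
    (mul_mem (k6 ▸ cmem hb k1) (inv_mem (hU.FU hf)))) (hU.FU hf), inv_mul_cancel_right]

end GB

end CfsgLib.JR
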