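import Cfsg.Agent.Lib.JR.BLoc

/-!
# The uniqueness theorem for `B = N(U)`
-/

set_option autoImplicit false
set_option linter.unusedSimpArgs false
set_option linter.unusedSectionVars false
set_option linter.unusedVariables false

namespace CfsgLib.JR

open Subgroup Cfsg CfsgLib.FT CfsgLib.FT.BGN CfsgLib.FT.U4 CfsgLib.GW

variable {G : Type*} [Group G] [Fintype G] {q r s : ℤ} {c : Cfg G} {a b e f g i j n w x y z φ : G}
  {A C F H K M O P T U W X Y Z : Subgroup G} {k l ω : ℕ} {π : Set ℕ}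

local instance : Fact (Nat.Prime 3) := ⟨Nat.prime_three⟩

theorem odd3 (hP : IsPGroup 3 P) : Odd (Nat.card P) :=
  odd_card_of_isPGroup Nat.prime_three (by decide) hP

theorem cop_of_pgroup' {X : Type*} [Group X] [Finite X] {p : ℕ} {P : Subgroup X} {x : X}
    (hp : p.Prime) (hP : IsPGroup p P) (hx : x ∈ P) {m : ℕ} (h : ¬ p ∣ m) : (orderOf x).Coprime m :=
  have := Fintype.ofFinite X
  cop_of_pgroup hp hP hx h

theorem sylow_of_norm {p : ℕ} [Fact p.Prime] (hP : IsSylowIn p P X) (h1 : P ≤ M)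
    (h2 : M ⊓ 𝐍(P) ≤ X) : IsSylowIn p P M :=
  sylow_of_hallOf (Cop.sylowOf_of_sylowOf_normalizer (hallOf_of_sylow
    (hP.mono (le_inf h1 le_normalizer) h2)))

theorem le_of_puig (h4 : ¬ 4 ∣ Nat.card M) (hP : IsSylowIn 3 P (M ⊓ X))
    (hn : 𝐍(centerPuigOf P) ≤ X) (hO : piCoreOf {3}ᶜ (Od M) ≤ X) : M ≤ X := by
  have h0 := (normalizer_le_normalizer_centerPuigOf P).trans hn
  have h1 := sylow_of_norm hP (hP.le.trans inf_le_left) (inf_le_inf_left _ h0)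
  have h2 := h1.mono ((nilp2_of_not_four_dvd h4).le_Od h1.le (odd3 h1.isPGroup)) (Od_le M)
  have h3 := Puig_factorization_of (solvable_Od M) (odd_Od M) h2
  rw [H1.map_pPrimeCore_eq_piCoreOf] at h3
  exact (h2.frattini_le (Od_le M) (le_norm_Od M)).trans (sup_le
    (h3 ▸ sup_le hO (inf_le_right.trans hn)) (inf_le_right.trans h0))

/-- A subgroup `Z` of `Z(U)`. -/
structure ZB (c : Cfg G) (U Z : Subgroup G) : Prop where
  le : Z ≤ U
  cent : U ≤ 𝐂(Z)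
  ne : Z ≠ ⊥
  norm : 𝐍(U) ≤ 𝐍(Z)
  tz : ∀ z ∈ Z, c.t ∈ 𝐍(zpowers z)
  four : ∀ z ∈ Z, z ≠ 1 → ¬ 4 ∣ Nat.card 𝐂[z]

namespace KB

variable (hK : KB c F U M K)
include hK

theorem UK : U ≤ K := hK.eq ▸ pcore_le _ _

theorem mem_U (hx : x ∈ K) (hP : IsPGroup 3 (zpowers x)) : x ∈ U :=
  hK.eq ▸ le_pcore_of_nil hK.nil (zpowers_le.2 hx) (isPiSubgroup_of_isPGroup hP (Set.mem_singleton 3))
    (mem_zpowers x)

theorem A_cent : piCoreOf {3}ᶜ K ≤ 𝐂(U) := U4.le_cent_of_nil hK.nil (pcore_le _ _) hK.UK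
  (by rw [← hK.eq]; exact IsPiNum.coprime_compl (pcore_pi _ _) (pcore_pi _ _) |>.symm)

theorem K_cent (h1 : Z ≤ U) (h2 : U ≤ 𝐂(Z)) : K ≤ 𝐂(Z) := by
  rw [← pcore_sup_of_nil hK.nil {3}, hK.eq]
  exact sup_le h2 (hK.A_cent.trans (centralizer_le h1))

theorem KT_bot : K ⊓ c.T = ⊥ := (disjoint_of_coprime_natCard hK.cop).eq_bot

end KB

namespace GB

variable (h : GB q r s c F)
include h

theorem exists_X (hf : f ∈ F) (hk : (orderOf f).Prime) :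
    ∃ X, IsSylowIn 3 X 𝐂[f] ∧ c.t ∈ 𝐍(X) ∧ ¬ X ≤ 𝐂[c.t] := by
  obtain ⟨d, hd, d1, dF⟩ := h.dQ
  obtain ⟨X, hQ, ⟨hX, hH, ht⟩, hm⟩ := Finite.exists_le_maximal
    (p := fun P : Subgroup G => IsPGroup 3 P ∧ P ≤ 𝐂[f] ∧ c.t ∈ 𝐍(P))
    ⟨h.pQ.to_le (zpowers_le.2 hd), zpowers_le.2 (U4.cent_le_cent1 hf dF),
      h.t_norm (zpowers_le.2 (h.QL hd))⟩
  replace hQ := hQ (mem_zpowers d)
  have h1 : X ⊓ c.L ≤ c.Q := by
    obtain ⟨z, hz, e⟩ := h.conj_Q hX.to_inf_left (inf_le_right (a := X))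
    have k := h.norm_Q hz hd d1 (e (conj_mem_conj_iff.2 ⟨hQ, h.QL hd⟩))
    exact fun x hx => by simpa [mul_assoc] using norm_mem' k (e (conj_mem_conj_iff.2 hx))
  have ht' : c.t ∈ 𝐂[f] ⊓ 𝐍(X) := ⟨mem_cent1_comm.1 (h.F_le h.t_S hf), ht⟩
  have h2 := h.not_four ht' (odd_card_of_forall fun a ha oa => d1 (h.inv_norm_Q h.hq0 ha.1 oa hd
    (h1 ⟨norm_mem ha.2.2 hQ, cmem ha.1 (h.QL hd)⟩)))
  have h3 := nilp2_of_not_four_dvd h2
  obtain ⟨P, p1, p2, p3⟩ := Cop.exists_invariant_sylowOf_ge (zpowers_le.2 (le_norm_Od _ ht'))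
    (coprime_zpowers_inv h.ot (odd_Od _)) (Or.inr (solvable_Od _)) hX
    (h3.le_Od (le_inf hH le_normalizer) (odd3 hX)) (zpowers_le.2 ht)
  obtain rfl := le_antisymm p3 (hm ⟨Cop.isPGroup_of_isPiHallOf p1,
    (p1.1.trans (Od_le _)).trans inf_le_left, p2 (mem_zpowers _)⟩ p3)
  have h4 := sylow_of_norm (IsSylowIn.of_maximal (le_inf hH le_normalizer) hX fun Y k1 k2 k3 =>
    (Cop.eq_of_sylowOf_le p1 k1 (h3.le_Od k3 (odd3 k1)) k2).ge) hH le_rfl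
  refine ⟨X, h4, ht, fun e => h4.not_dvd ?_⟩
  have k1 : F ≤ 𝐂[f] := fun φ hφ => mem_cent1.2 (h.commF hφ hf)
  have k2 : F ≤ 𝐍(c.L ⊓ 𝐂[f]) := fun φ hφ => mem_norm_of fun x hx =>
    ⟨norm_mem (h.FL hφ) hx.1, cmem (k1 hφ) hx.2⟩
  have k3 : X ≤ c.L ⊓ 𝐂[f] ⊔ F := fun x hx => by
    obtain ⟨z, hz, φ, hφ, rfl⟩ := h.dec (h.mem_E (e hx) (odd_orderOf_of_mem (odd3 hX) hx))
    exact mul_mem_sup ⟨hz, (mul_mem_cancel_right (k1 hφ)).1 (hH hx)⟩ hφ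
  refine Dvd.dvd.trans ?_ (relIndex_dvd_of_le_left _ k3)
  obtain ⟨m, j, m1, -, m2, m3, -⟩ := h.fix' hf hk
  have k4 := card_mul_relIndex (sup_le inf_le_right k1 : c.L ⊓ 𝐂[f] ⊔ F ≤ 𝐂[f])
  rw [card_sup' k2 (le_bot_iff.1 ((inf_le_inf_right _ inf_le_left).trans h.inf_LF.le)), m3] at k4
  rw [Nat.eq_of_mul_eq_mul_left (Nat.mul_pos Nat.card_pos Nat.card_pos) (k4.trans (by
    linear_combination (Nat.card F * (m + 1) ^ 2 * (m ^ 2 + m + 1)) * m2.symm :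
      _ = Nat.card ↥(c.L ⊓ 𝐂[f]) * Nat.card F * (2 * (m + 1) ^ 2 * (m ^ 2 + m + 1)))), m1]
  exact ((dvd_pow (dvd_pow_self 3 (by omega)) (by norm_num)).mul_left _).mul_right _

variable (hU : MU c F U) (hK : KB c F U 𝐍(U) K)
include hU hK

theorem B_le (h1 : K ≤ X) (h2 : c.D ≤ X) (h3 : F ≤ X) : 𝐍(U) ≤ X := fun g hg => by
  have := hK.sup.trans (sup_le h1 (sup_le (le_sup_left.trans h2) h3))
  exact (GF.mem_Od h.ot hU.tU hK.four hg).elim (fun e => this e) fun e =>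
    (mul_mem_cancel_left (h2 (mem_sup_right (mem_zpowers _)))).1 (this e)

theorem decB (hg : g ∈ Od 𝐍(U)) : ∃ a ∈ K, ∃ b ∈ c.T ⊔ F, a * b = g :=
  (mem_sup_iff_of_le_normalizer' ((sup_le hU.TU hU.FU).trans hK.norm)).1 (hK.sup hg)

theorem le_Od (hP : P ≤ 𝐍(U)) (ho : Odd (Nat.card P)) : P ≤ Od 𝐍(U) :=
  (nilp2_of_not_four_dvd hK.four).le_Od hP ho

theorem norm_KT : 𝐍(U) ≤ 𝐍(K ⊔ c.T) := h.B_le hU hK (le_sup_left.trans le_normalizer)
  (fun g hg => mem_norm_sup (hK.norm (hU.DU hg))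
    (sup_le le_normalizer (zpowers_le.2 (h.t_norm h.TL)) hg))
  fun g hg => mem_norm_sup (hK.norm (hU.FU hg)) (h.FT hg)

theorem inv_mem_K (hx : x ∈ Od 𝐍(U)) (e : c.t * x * c.t⁻¹ = x⁻¹) : x ∈ K := by
  obtain ⟨a, ha, b, hb, rfl⟩ := h.decB hU hK hx
  have h1 := sup_le (h.TL.trans h.L_le) (h.F_le h.t_S) hb
  have h2 := hK.norm (sup_le hU.TU hU.FU hb)
  rw [← conj_mul, conj_eq_of_mem_cent1 (mem_cent1_comm.1 h1), eq_inv_iff_mul_eq_one] at e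
  refine zpowers_le.2 ?_ (mem_zpowers_sq (odd_of_mem_Od hx))
  have := mul_mem ha (inv_mem (norm_mem (hK.norm hU.tU) ha))
  rwa [← mul_one (a * _), ← e, show a * (c.t * a * c.t⁻¹)⁻¹ * (c.t * a * c.t⁻¹ * b * (a * b)) =
    a * b * (a * b) by group] at this

theorem exists_Z (hF : F ≠ ⊥) : ∃ Z, ZB c U Z := by
  have h1 := inf_centralizer_ne_bot_of_isNilpotent hU.pU.isNilpotent le_rfl le_normalizer
    (h.U_ne hF hU)
  have h2 : 𝐍(U) ≤ 𝐍(U ⊓ 𝐂(U)) := fun g hg => mem_norm_of fun x hx =>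
    ⟨norm_mem hg hx.1, norm_mem (U4.norm_le_norm_cent _ hg) hx.2⟩
  by_cases e : U ⊓ 𝐂(U) ⊓ 𝐂[c.t] = ⊥
  · have h3 := inverts_of_inf_cent h.tt (odd3 hU.pU.to_inf_left) (h2 hU.tU) e
    refine ⟨_, inf_le_left, le_centralizer_iff.1 inf_le_right, h1, h2,
      fun z hz => (inverts_zpowers (h3 z hz)).mem_norm, fun z hz z1 k => ?_⟩
    obtain ⟨y, hy, oy⟩ := exists_ord Nat.prime_three hU.pU hz.1 z1
    obtain ⟨a, ha, oa⟩ := exists_inv_of_not_odd (H := 𝐂[z]) (by rw [Nat.odd_iff]; omega)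
    exact h.nonreal oa (cent1_le_cent1 hy ha) oy (h3 y (zpowers_le.2 hz hy))
  have h3 : U ⊓ 𝐂(U) ⊓ 𝐂[c.t] = c.Q := h.irrQ (h.U_ct hU ▸ inf_le_inf_right _ inf_le_left)
    (fun y hy => mem_norm_of fun x hx => ⟨norm_mem (h2 (hU.TU hy)) hx.1,
      cmem (h.L_le (h.TL hy)) hx.2⟩) e
  have h4 : U ≤ 𝐂(c.Q) := le_centralizer_iff.1 (h3 ▸ inf_le_left.trans inf_le_right)
  exact ⟨c.Q, hU.QU, h4, h3 ▸ e, h.B_le hU hK ((hK.K_cent hU.QU h4).trans (U4.cent_le_norm _))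
    (sup_le (h.TQ h.hq0) (zpowers_le.2 (h.t_norm h.QL))) h.FQ,
    fun z hz => h.t_norm (zpowers_le.2 (h.QL hz)), fun z hz z1 => h.not_four
      (mem_cent1_comm.1 (h.L_le (h.QL hz))) (h.cent_eq_Q hz z1 ▸ h.oddQ)⟩

variable (hF : F ≠ ⊥) (hZ : ZB c U Z)
include hF hZ

theorem quad (hA : IsPGroup 3 A) (hn : A ≤ 𝐍(U)) (hq : ⁅⁅Z, A⁆, A⁆ = ⊥) : A ≤ U := fun g hg => by
  have h1 := h.le_Od hU hK hn (odd3 hA)
  have h2 := (hZ.le.trans hK.UK).trans hK.le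
  have hT := h.le_Od hU hK hU.TU h.oddT
  have := solvable_Od 𝐍(U)
  have := normal_subgroupOf_of_le_normalizer ((Od_le _).trans hZ.norm)
  have h3 := odd_p_stable_normal (odd_Od 𝐍(U)) (Z.subgroupOf _)
    ((hU.pU.to_le hZ.le).comap_subtype) (hA.comap_subtype (K := Od 𝐍(U))) (by
      rw [← map_eq_bot_iff_of_injective _ (Od 𝐍(U)).subtype_injective, map_commutator, map_commutator]
      erw [H1.map_subtype_subgroupOf h1, H1.map_subtype_subgroupOf h2]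
      exact hq)
  have k0 : ∀ x : Od 𝐍(U), x ∈ 𝐂(Z.subgroupOf (Od 𝐍(U))) ↔ (x : G) ∈ 𝐂(Z) := fun x =>
    ⟨fun e => mem_cent.2 fun z hz => congrArg Subtype.val (mem_cent.1 e ⟨z, h2 hz⟩ hz),
      fun e => mem_cent.2 fun z hz => Subtype.ext (mem_cent.1 e z hz)⟩
  have kC := hK.K_cent hZ.le hZ.cent
  have kT := hU.TU.trans hK.norm
  obtain ⟨a, ha, b, hb, rfl⟩ := h.decB hU hK (h1 hg)
  have h4 := h.mem_KT kC (eq_bot_of_forall fun y hy => by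
    by_contra e
    exact hZ.ne (le_bot_iff.1 (h.U_reg hF hU hy.2 e ▸ le_inf hZ.le fun z hz =>
      mem_cent1.2 (mem_cent.1 hy.1 z hz)))) kT ha hb fun y hy => by
    obtain ⟨κ, k1, y', k2, k3⟩ := (mem_sup_iff_of_le_normalizer' kT).1
      (mul_mem (norm_mem (h.norm_KT hU hK (hn hg)) (mem_sup_right hy)) (mem_sup_right (inv_mem hy)))
    rw [← k3, mul_mem_cancel_left (kC k1), ← k0 ⟨y', hT k2⟩, ← QuotientGroup.eq_one_iff]
    have k4 := h3 (mem_map_of_mem _ (show (⟨a * b, h1 hg⟩ : Od 𝐍(U)) ∈ _ from hg))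
    have k5 := mul_mem k4 ((pCore_normal 3 _).conj_mem _ (inv_mem k4) (⟨y, hT hy⟩ : Od 𝐍(U)))
    have k6 : ((⟨y', hT k2⟩ : Od 𝐍(U)) : Od 𝐍(U) ⧸ 𝐂(Z.subgroupOf (Od 𝐍(U)))) ∈ pCore 3 _ := by
      convert k5 using 1
      rw [← one_mul (QuotientGroup.mk _), ← (QuotientGroup.eq_one_iff (⟨κ, hK.le k1⟩ : Od 𝐍(U))).2
        ((k0 _).2 (kC k1))]
      simp only [QuotientGroup.mk'_apply, ← QuotientGroup.mk_mul, ← QuotientGroup.mk_inv]
      congr 1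
      exact Subtype.ext (by simpa [mul_assoc] using k3)
    exact orderOf_eq_one_iff.1 (Nat.eq_one_of_dvd_coprimes (cop_of_pgroup' Nat.prime_three
      (pCore_isPGroup 3) k6 h.not_three_s) dvd_rfl ((orderOf_map_dvd (QuotientGroup.mk' _) _).trans (by
        rw [← orderOf_coe, ← h.cardT]; exact orderOf_dvd_natCard _ k2)))
  exact hK.mem_U (mem_of_cop (sup_le le_normalizer kT) (mul_mem_sup ha h4)
    (cop_of_pgroup Nat.prime_three hA hg fun e =>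
      h.not_three_s (h.cardT ▸ e.trans (relIndex_sup_dvd kT).1))) (hA.to_le (zpowers_le.2 hg))

theorem puig_le (hP : IsPGroup 3 P) (h1 : Z ≤ P) (h2 : P ≤ 𝐍(U)) :
    puigOf P ≤ U ∧ Z ≤ centerPuigOf P := by
  have h3 := le_puigLowerOf_of_abelian h1 (le_centralizer_iff_isMulCommutative.1 (hZ.le.trans hZ.cent))
    ((puigOf_le P).trans (h2.trans hZ.norm))
  have h4 : puigOf P ≤ U := by
    rw [← puigStepIn_puigLowerOf]
    refine sSup_le fun A hA => h.quad hU hK hF hZ (hP.to_le hA.1) (hA.1.trans h2) ?_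
    exact commutator_eq_bot_iff_le_centralizer.2 ((U4.comm_le_right (h3.trans hA.2.2)).trans
      (le_centralizer_iff_isMulCommutative.2 hA.2.1))
  exact ⟨h4, le_inf (h3.trans (puigLowerOf_le_puigOf P)) (le_centralizer_iff.1 (h4.trans hZ.cent))⟩

theorem norm_ZL (hP : IsPGroup 3 P) (h1 : U ≤ P) (h2 : P ≤ 𝐍(U)) :
    𝐍(centerPuigOf P) ≤ 𝐍(U) := by
  have h3 := normalizer_le_normalizer_centerPuigOf U
  rw [centerPuigOf, ← sub_Puig_eq h1 (h.puig_le hU hK hF hZ hP (hZ.le.trans h1) h2).1]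
  exact h.norm_le hF hU (hU.pU.to_le (centerPuigOf_le U)) (centerPuigOf_ne_bot hU.pU (h.U_ne hF hU))
    (le_normalizer.trans h3) (hU.DU.trans h3) (hU.FU.trans h3)

theorem sylow_B (hP : IsSylowIn 3 P 𝐍(U)) : U ≤ P ∧ 𝐍(P) ≤ 𝐍(U) ∧ IsSylowIn 3 P ⊤ := by
  have h1 := Cop.le_sylowOf_of_le_normalizer (hallOf_of_sylow hP) hU.pU le_normalizer hP.le
  have h2 := (normalizer_le_normalizer_centerPuigOf P).trans
    (h.norm_ZL hU hK hF hZ hP.isPGroup h1 hP.le)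
  exact ⟨h1, h2, sylow_of_norm hP le_top (inf_le_right.trans h2)⟩

theorem not_le_ct : ¬ U ≤ 𝐂[c.t] := fun e => by
  obtain ⟨f, hf, hk, -⟩ := h.exists_f hF
  obtain ⟨X, hX, ht, h1⟩ := h.exists_X hf hk
  obtain ⟨x, hx, x1, k⟩ := exists_inverted h.tt (odd3 hX.isPGroup) ht h1
  obtain ⟨y, hy, oy⟩ := exists_ord Nat.prime_three hX.isPGroup hx x1
  obtain ⟨P, p1, p2⟩ := Cop.exists_invariant_sylowOf 3 (zpowers_le.2 (le_norm_Od _ hU.tU))
    (coprime_zpowers_inv h.ot (odd_Od _)) (Or.inr (solvable_Od _))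
  have p3 := Cop.isPGroup_of_isPiHallOf p1
  have p4 := (h.sylow_B hU hK hF hZ (IsSylowIn.of_maximal (p1.1.trans (Od_le _)) p3 fun Y k1 k2 k3 =>
    (Cop.eq_of_sylowOf_le p1 k1 (h.le_Od hU hK k3 (odd3 k1)) k2).ge)).2.2
  have p5 : P ≤ 𝐂[c.t] := by
    by_contra k1
    obtain ⟨z, hz, z1, k2⟩ := exists_inverted h.tt (odd3 p3) (p2 (mem_zpowers _)) k1
    exact z1 (eq_one_of_inv_of_comm (odd_orderOf_of_mem (odd3 p3) hz) k2 (mem_cent1.1
      (e (hK.mem_U (h.inv_mem_K hU hK (p1.1 hz) k2) (p3.to_le (zpowers_le.2 hz))))))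
  obtain ⟨g, -, k1⟩ := p4.exists_conj_le (isPGroup_zpowers oy) le_top
  refine h.nonreal (a := g⁻¹ * c.t * g⁻¹⁻¹) (by rw [U4.orderOf_conj, h.ot]) ?_ oy
    (inverts_zpowers k y hy)
  simpa [mul_assoc] using conj_cent g⁻¹ (mem_cent1'.1 (p5 (k1 (conj_mem_conj_iff.2 (mem_zpowers y)))))

theorem cent_Z (hz : z ∈ Z) (h1 : z ≠ 1) : 𝐂[z] ≤ 𝐍(U) := by
  have h2 : U ≤ 𝐂[z] := hZ.cent.trans (U4.cent_le_cent1 hz)
  obtain ⟨P, p1, hP⟩ := IsSylowIn.exists_ge hU.pU (le_inf h2 le_normalizer)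
  refine le_of_puig (hZ.four z hz h1) hP
    (h.norm_ZL hU hK hF hZ hP.isPGroup p1 (hP.le.trans inf_le_right)) ?_
  set O := piCoreOf {3}ᶜ (Od 𝐂[z])
  have o1 : 𝐍(𝐂[z]) ≤ 𝐍(O) := (norm_le_norm_Od _).trans (norm_le_norm_pcore _ _)
  have o2 : Odd (Nat.card O) := GW.odd_card_of_le (odd_Od _) (pcore_le _ _)
  have o3 := (h2.trans le_normalizer).trans o1
  have o4 : (Nat.card c.Q).Coprime (Nat.card O) := IsPiNum.coprime_compl
    (isPiSubgroup_of_isPGroup h.pQ (Set.mem_singleton 3)) (pcore_pi _ _)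
  have o5 := (disjoint_of_coprime_natCard o4).eq_bot
  have o6 := inverts_of_inf_cent h.tt o2 (o1 (U4.cent_zpowers z ▸ U4.norm_le_norm_cent _ (hZ.tz z hz)))
    (le_bot_iff.1 (Cop.le_of_centralizer_le_of_not_isCyclic ⟨⟨fun a b => Subtype.ext
      (h.commQ _ a.2 _ b.2)⟩⟩ h.not_cyclic_Q (fun g hg => mem_norm_of fun x hx =>
        ⟨norm_mem (o3 (hU.QU hg)) hx.1, cmem (h.L_le (h.QL hg)) hx.2⟩)
      (o4.coprime_dvd_right (card_dvd_of_le inf_le_left)) fun x hx x1 g hg => by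
        have k1 := h.norm_Q' hg.1.2 hx x1 (by rwa [conj_eq_of_mem_cent1 hg.2])
        refine mem_bot.2 (eq_one_of_mem_inf o5 (h.mem_Q_of_cent (h.mem_E hg.1.2
          (odd_orderOf_of_mem o2 hg.1.1)) (mem_cent.2 fun y hy => ?_)) hg.1.1)
        have := eq_one_of_mem_inf o5 (x := y * (g * y⁻¹ * g⁻¹))
          (mul_mem hy (norm_mem k1 (inv_mem hy))) (by
            simpa only [mul_assoc] using mul_mem (norm_mem (o3 (hU.QU hy)) (mem_inf.1 hg.1).1)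
              (inv_mem (mem_inf.1 hg.1).1))
        rw [← mul_assoc, ← mul_assoc, mul_inv_eq_one, mul_inv_eq_iff_eq_mul] at this
        exact this))
  have k : ∀ g ∈ 𝐍(U), g ∈ 𝐂[c.t] → g ∈ 𝐍(⁅U, zpowers c.t⁆) := fun g k1 k2 =>
    mem_normalizer_of_map_conj_eq (by
      rw [conj_comm, ← zpowers_conj, conj_eq_of_mem_cent1 k2, map_conj_eq_of_mem_normalizer k1])
  exact ((le_centralizer_iff.1 (o6.commutator_le_cent h.tt o3)).trans (U4.cent_le_norm _)).trans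
    (h.norm_le hF hU (hU.pU.to_le (U4.comm_le_left (zpowers_le.2 hU.tU))) (fun e =>
      h.not_le_ct hU hK hF hZ (U4.cent_zpowers c.t ▸ commutator_eq_bot_iff_le_centralizer.1 e))
      (normalizer_commutator_ge_left _ _) (fun g hg => k g (hU.DU hg) (h.D_le_ct hg))
      fun g hg => k g (hU.FU hg) (h.F_le h.t_S hg))

theorem not_cyc' (h1 : Z ≤ P) : ¬ IsCyclic P := fun e =>
  h.not_cyc hF hU hZ.le (hU.TU.trans hZ.norm) hZ.ne (isCyclic_of_le' e h1)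

theorem uniq (h4 : ¬ 4 ∣ Nat.card M) (h1 : Z ≤ M) : M ≤ 𝐍(U) := by
  have pZ := hU.pU.to_le hZ.le
  obtain ⟨P, p1, hP⟩ := IsSylowIn.exists_ge pZ (le_inf h1 (hZ.le.trans le_normalizer))
  induction' e : Nat.card G - Nat.card P using Nat.strong_induction_on with m ih generalizing M P
  have p2 := hP.le.trans inf_le_right
  refine le_of_puig h4 hP ?_ (Cop.le_of_centralizer_le_of_not_isCyclic
    (le_centralizer_iff_isMulCommutative.1 (hZ.le.trans hZ.cent)) (h.not_cyc' hU hK hF hZ le_rfl)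
    ((h1.trans (le_norm_Od M)).trans (norm_le_norm_pcore _ _)) (IsPiNum.coprime_compl
      (isPiSubgroup_of_isPGroup pZ (Set.mem_singleton 3)) (pcore_pi _ _))
    fun z hz z1 => inf_le_right.trans (h.cent_Z hU hK hF hZ hz z1))
  obtain ⟨X, x1, hX⟩ := IsSylowIn.exists_ge hP.isPGroup p2
  rcases x1.eq_or_lt with rfl | x2
  · exact h.norm_ZL hU hK hF hZ hP.isPGroup (h.sylow_B hU hK hF hZ hX).1 p2
  have k1 := (h.puig_le hU hK hF hZ hP.isPGroup p1 p2).2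
  obtain ⟨Y, y1, hY⟩ := IsSylowIn.exists_ge hX.isPGroup.to_inf_left (le_inf
    (inf_le_right.trans (normalizer_le_normalizer_centerPuigOf P)) (inf_le_left.trans hX.le))
  have k2 := (lt_inf_normalizer_of_isPGroup hX.isPGroup x2).trans_le y1
  refine ih _ ?_ (h.four_norm hF hU (hP.isPGroup.to_le (centerPuigOf_le P))
    (h.not_cyc' hU hK hF hZ k1)) (k1.trans le_normalizer) Y (p1.trans k2.le) hY rfl
  have := card_lt_card_of_lt k2
  have := Y.card_le_card_group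
  omega

omit hK hZ in
theorem four_Q (hx : x ∈ c.Q) (h1 : x ≠ 1) : ¬ 4 ∣ Nat.card 𝐂[x] :=
  h.not_four (mem_cent1_comm.1 (h.L_le (h.QL hx))) (h.cent_eq_Q hx h1 ▸ h.oddQ)

theorem four_x (hx : x ∈ U) (ox : orderOf x = 3) : ¬ 4 ∣ Nat.card 𝐍(zpowers x) := fun e => by
  obtain ⟨g, k⟩ := h.conj_F (isPGroup_zpowers ox) e
  replace k := k (conj_mem_conj_iff.2 (mem_zpowers x))
  obtain ⟨X, hX, ht, -⟩ := h.exists_X k (by rw [U4.orderOf_conj, ox]; exact Nat.prime_three)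
  obtain ⟨Y, y1, hY⟩ := IsSylowIn.exists_ge (hU.pU.to_le hZ.le)
    ((le_centralizer_iff.1 hZ.cent).trans (U4.cent_le_cent1 hx))
  have h1 := hX.map_conj g⁻¹
  rw [cent1_conj, map_conj_inv_map_conj] at h1
  obtain ⟨z, hz, h2⟩ := hY.exists_conj_eq h1
  have h3 : z * g⁻¹ * c.t * (z * g⁻¹)⁻¹ ∈ 𝐍(U) := h.uniq hU hK hF hZ (h.four_norm hF hU hY.isPGroup
    (h.not_cyc' hU hK hF hZ y1)) (y1.trans le_normalizer) (by
      rwa [← h2, ← map_conj_mul, normalizer_map_conj, conj_mem_conj_iff])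
  obtain ⟨b, hb, h4⟩ := GF.conj_of_not_four (by rw [U4.orderOf_conj, h.ot]) h3 h.ot hU.tU hK.four
  have h5 : b * x * b⁻¹ ∈ c.Q := h.U_ct hU ▸ mem_inf.2 ⟨norm_mem hb hx, by
    have := conj_cent (b * (z * g⁻¹)) (mem_cent1.1 (h.F_le h.t_S k))
    rwa [conj_conj b _ c.t, h4, conj_conj, conj_conj, show g⁻¹ * (g * x * g⁻¹) * g⁻¹⁻¹ = x by group,
      conj_eq_of_mem_cent1 hz] at this⟩
  refine h.four_Q hU hF h5 (conj_ne_one_iff.2 fun e => by simp [e] at ox) ?_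
  rw [cent1_conj, card_conj, ← card_conj g, ← cent1_conj]
  exact Dvd.dvd.trans (by rw [h.card_S]; norm_num)
    (card_dvd_of_le (h.S_cent_F.trans (U4.cent_le_cent1 k)))

theorem cent_U (hx : x ∈ U) (h1 : x ≠ 1) : 𝐂[x] ≤ 𝐍(U) := by
  obtain ⟨y, hy, oy⟩ := exists_ord Nat.prime_three hU.pU hx h1
  have h2 := zpowers_le.2 hx hy
  have h3 : 𝐂[y] ≤ 𝐍(zpowers y) := U4.cent_zpowers y ▸ U4.cent_le_norm _
  exact (cent1_le_cent1 hy).trans (h3.trans (h.uniq hU hK hF hZ (h.four_x hU hK hF hZ h2 oy)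
    (((le_centralizer_iff.1 hZ.cent).trans (U4.cent_le_cent1 h2)).trans h3)))

theorem ti_U (hx : x ∈ U) (h1 : x ≠ 1) (e : g * x * g⁻¹ ∈ U) : g ∈ 𝐍(U) := by
  have h2 : g •ᶜ 𝐍(U) ≤ 𝐍(U) := h.uniq hU hK hF hZ (by rw [card_conj]; exact hK.four)
    (((le_centralizer_iff.1 hZ.cent).trans (U4.cent_le_cent1 e)).trans (by
      rw [cent1_conj]; exact map_mono (h.cent_U hU hK hF hZ hx h1)))
  have h3 := norm_le_norm_pcore {3} 𝐍(U)
  have h4 := le_pcore le_normalizer le_rfl (isPiSubgroup_of_isPGroup hU.pU (Set.mem_singleton 3))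
  rw [le_antisymm h4 (hU.max _ (pcore_pgroup 3 _) ((hU.DU.trans le_normalizer).trans h3)
    ((hU.FU.trans le_normalizer).trans h3) h4)]
  exact h3 (mem_norm_of fun y hy => h2 (conj_mem_conj_iff.2 hy))

end GB

end CfsgLib.JR
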