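import Cfsg.Agent.Lib.JR.Theta

/-!
# Lattices of virtual characters
-/

set_option autoImplicit false
set_option linter.unusedSimpArgs false
set_option linter.unusedSectionVars false

namespace CfsgLib.JR

/-- A lattice with an orthonormal basis, a degree `z`, a value `n` at an involution and the
functional `Θ`. -/
structure Lat (Λ : Type*) [AddCommGroup Λ] where
  B : Λ →+ Λ →+ ℤ
  z : Λ →+ ℤ
  n : Λ →+ ℤ
  Θ : Λ →+ ℚ
  symm : ∀ v w, B v w = B w v
  pos : ∀ v, v ≠ 0 → 0 < B v v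
  exU : ∀ v, v ≠ 0 → ∃ e, B e e = 1 ∧ 0 < B v e
  zne : ∀ e, B e e = 1 → z e ≠ 0
  th : ∀ e, B e e = 1 → Θ e = (n e : ℚ) ^ 2 / z e

namespace Lat

variable {Λ : Type*} [AddCommGroup Λ] (l : Lat Λ) {v w e f g : Λ}

theorem nonneg (v : Λ) : 0 ≤ l.B v v := by
  by_cases h : v = 0
  · simp [h]
  · exact (l.pos v h).le

theorem eq_zero (h : l.B v v = 0) : v = 0 := by
  by_contra h0; exact (l.pos v h0).ne' h

theorem sq_le (he : l.B e e = 1) (v : Λ) : l.B v e ^ 2 ≤ l.B v v := by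
  have := l.nonneg (v - l.B v e • e)
  simp only [map_add, map_sub, map_neg, AddMonoidHom.add_apply, AddMonoidHom.sub_apply, AddMonoidHom.neg_apply, map_zsmul, AddMonoidHom.zsmul_apply, smul_eq_mul, he, l.symm e v] at this
  nlinarith

theorem abs_le (he : l.B e e = 1) (h : l.B v v ≤ 3) : -1 ≤ l.B v e ∧ l.B v e ≤ 1 := by
  have := l.sq_le he v
  constructor <;> nlinarith

theorem eq_of_one (he : l.B e e = 1) (hf : l.B f f = 1) (h : l.B e f = 1) : e = f := by
  refine sub_eq_zero.1 (l.eq_zero ?_)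
  simp only [map_add, map_sub, map_neg, AddMonoidHom.add_apply, AddMonoidHom.sub_apply, AddMonoidHom.neg_apply, he, hf, h, l.symm f e]; rfl

theorem neg_unit (he : l.B e e = 1) : l.B (-e) (-e) = 1 := by simpa using he

theorem cases (he : l.B e e = 1) (hf : l.B f f = 1) : e = f ∨ e = -f ∨ l.B e f = 0 := by
  have := l.abs_le hf (v := e) (by omega)
  rcases (by omega : l.B e f = 1 ∨ l.B e f = -1 ∨ l.B e f = 0) with h | h | h
  · exact Or.inl (l.eq_of_one he hf h)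
  · exact Or.inr (Or.inl (l.eq_of_one he (l.neg_unit hf) (by simp [h])))
  · exact Or.inr (Or.inr h)

theorem sub_unit (he : l.B e e = 1) (h : l.B v e = 1) : l.B (v - e) (v - e) = l.B v v - 1 := by
  simp only [map_add, map_sub, map_neg, AddMonoidHom.add_apply, AddMonoidHom.sub_apply, AddMonoidHom.neg_apply, he, h, l.symm e v]; ring

theorem exists_one (h0 : 0 < l.B v v) (h : l.B v v ≤ 3) : ∃ e, l.B e e = 1 ∧ l.B v e = 1 := by
  obtain ⟨e, he, h1⟩ := l.exU v (by rintro rfl; simp at h0)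
  exact ⟨e, he, by have := l.abs_le he h; omega⟩

theorem two (h : l.B v v = 2) :
    ∃ e f, l.B e e = 1 ∧ l.B f f = 1 ∧ l.B e f = 0 ∧ v = e + f := by
  obtain ⟨e, he, h1⟩ := l.exists_one (v := v) (by omega) (by omega)
  refine ⟨e, v - e, he, by rw [l.sub_unit he h1, h]; rfl, ?_, by abel⟩
  simp only [map_add, map_sub, map_neg, AddMonoidHom.add_apply, AddMonoidHom.sub_apply, AddMonoidHom.neg_apply, he, l.symm e v, h1]; rfl

theorem orth_two (he : l.B e e = 1) (_ : l.B f f = 1) (h : l.B e f = 0) (hg : l.B g g = 1)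
    (h0 : l.B (e + f) g = 0) : l.B e g = 0 ∧ l.B f g = 0 := by
  rcases l.cases he hg with rfl | rfl | h1
  · simp only [map_add, map_sub, map_neg, AddMonoidHom.add_apply, AddMonoidHom.sub_apply, AddMonoidHom.neg_apply, he, l.symm f e, h] at h0; omega
  · simp only [map_add, map_sub, map_neg, AddMonoidHom.add_apply, AddMonoidHom.sub_apply, AddMonoidHom.neg_apply, hg] at h h0; have := l.symm f g; omega
  · simp only [map_add, map_sub, map_neg, AddMonoidHom.add_apply, AddMonoidHom.sub_apply, AddMonoidHom.neg_apply] at h0; omega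

theorem three (h : l.B v v = 3) : ∃ e f g, l.B e e = 1 ∧ l.B f f = 1 ∧ l.B g g = 1 ∧
    l.B e f = 0 ∧ l.B e g = 0 ∧ l.B f g = 0 ∧ v = e + f + g := by
  obtain ⟨e, he, h1⟩ := l.exists_one (v := v) (by omega) (by omega)
  obtain ⟨f, g, hf, hg, hfg, e1⟩ := l.two (v := v - e) (by rw [l.sub_unit he h1, h]; rfl)
  have := l.orth_two hf hg hfg he (by rw [← e1]; simp only [map_add, map_sub, map_neg, AddMonoidHom.add_apply, AddMonoidHom.sub_apply, AddMonoidHom.neg_apply, he, h1]; rfl)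
  exact ⟨e, f, g, he, hf, hg, l.symm .. ▸ this.1, l.symm .. ▸ this.2, hfg, by
    rw [add_assoc, ← e1]; abel⟩

theorem orth_three {k : Λ} (he : l.B e e = 1) (hf : l.B f f = 1) (hg : l.B g g = 1)
    (h1 : l.B e f = 0) (h2 : l.B e g = 0) (h3 : l.B f g = 0) (hk : l.B k k = 1)
    (h0 : l.B (e + f + g) k = 0) : l.B e k = 0 ∧ l.B f k = 0 ∧ l.B g k = 0 := by
  rcases l.cases he hk with rfl | rfl | h4
  · simp only [map_add, map_sub, map_neg, AddMonoidHom.add_apply, AddMonoidHom.sub_apply, AddMonoidHom.neg_apply, he, l.symm f e, l.symm g e, h1, h2] at h0; omega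
  · simp only [map_add, map_sub, map_neg, AddMonoidHom.add_apply, AddMonoidHom.sub_apply, AddMonoidHom.neg_apply, hk] at h1 h2 h0; have := l.symm f k; have := l.symm g k; omega
  · exact ⟨h4, l.orth_two hf hg h3 hk (by simp only [map_add, map_sub, map_neg, AddMonoidHom.add_apply, AddMonoidHom.sub_apply, AddMonoidHom.neg_apply] at h0 ⊢; omega)⟩

/-- Two orthogonal vectors of norm `2` and the same degree have disjoint supports. -/
theorem orth_of_two (he : l.B e e = 1) (hf : l.B f f = 1) (h : l.B e f = 0) (hw : l.B w w = 2)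
    (h0 : l.B w (e + f) = 0) (hz : l.z w = l.z (e + f)) : l.B w e = 0 ∧ l.B w f = 0 := by
  have h1 := l.abs_le he (v := w) (by omega)
  have h2 := l.zne e he
  have h3 := l.zne f hf
  simp only [map_add, map_sub, map_neg, AddMonoidHom.add_apply, AddMonoidHom.sub_apply, AddMonoidHom.neg_apply] at h0 hz
  rcases (by omega : l.B w e = 1 ∨ l.B w e = -1 ∨ l.B w e = 0) with h4 | h4 | h4
  · have : w = e - f := sub_eq_zero.1 (l.eq_zero (by
      simp only [map_add, map_sub, map_neg, AddMonoidHom.add_apply, AddMonoidHom.sub_apply, AddMonoidHom.neg_apply, l.symm e w, l.symm f w, l.symm f e]; omega))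
    rw [this] at hz; simp only [map_add, map_sub, map_neg, AddMonoidHom.add_apply, AddMonoidHom.sub_apply, AddMonoidHom.neg_apply] at hz; omega
  · have : w = f - e := sub_eq_zero.1 (l.eq_zero (by
      simp only [map_add, map_sub, map_neg, AddMonoidHom.add_apply, AddMonoidHom.sub_apply, AddMonoidHom.neg_apply, l.symm e w, l.symm f w, l.symm f e]; omega))
    rw [this] at hz; simp only [map_add, map_sub, map_neg, AddMonoidHom.add_apply, AddMonoidHom.sub_apply, AddMonoidHom.neg_apply] at hz; omega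
  · omega

theorem pat (he : l.B e e = 1) (hf : l.B f f = 1) (hg : l.B g g = 1)
    (h1 : l.B e f = 0) (h2 : l.B e g = 0) (h3 : l.B f g = 0) (hw : l.B w w = 3)
    (h0 : l.B w (e + f + g) = 1) (hz : l.z w = l.z (e + f + g)) :
    (l.B w e = 1 ∧ l.B w f = 0 ∧ l.B w g = 0) ∨ (l.B w e = 0 ∧ l.B w f = 1 ∧ l.B w g = 0) ∨
      (l.B w e = 0 ∧ l.B w f = 0 ∧ l.B w g = 1) := by
  have key : ∀ e f g, l.B e e = 1 → l.B f f = 1 → l.B g g = 1 → l.B e f = 0 → l.B e g = 0 →
      l.B f g = 0 → l.z w = l.z e + l.z f + l.z g →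
      ¬ (l.B w e = 1 ∧ l.B w f = 1 ∧ l.B w g = -1) := by
    rintro e f g he hf hg h1 h2 h3 hz ⟨h4, h5, h6⟩
    have : w = e + f - g := sub_eq_zero.1 (l.eq_zero (by
      simp only [map_add, map_sub, map_neg, AddMonoidHom.add_apply, AddMonoidHom.sub_apply, AddMonoidHom.neg_apply, l.symm e w, l.symm f w, l.symm g w, l.symm f e, l.symm g e, l.symm g f]; omega))
    have h7 := l.zne g hg
    rw [this] at hz; simp only [map_add, map_sub, map_neg, AddMonoidHom.add_apply, AddMonoidHom.sub_apply, AddMonoidHom.neg_apply] at hz; omega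
  have a1 := l.abs_le he (v := w) hw.le
  have a2 := l.abs_le hf (v := w) hw.le
  have a3 := l.abs_le hg (v := w) hw.le
  simp only [map_add, map_sub, map_neg, AddMonoidHom.add_apply, AddMonoidHom.sub_apply, AddMonoidHom.neg_apply] at h0 hz
  have k1 := key e f g he hf hg h1 h2 h3 hz
  have k2 := key e g f he hg hf h2 h1 (l.symm .. ▸ h3) (by omega)
  have k3 := key f g e hf hg he h3 (l.symm .. ▸ h1) (l.symm .. ▸ h2) (by omega)
  omega

/-- `e` is a unit vector with the given inner products with `a₁, a₂, a₃`. -/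
structure X (a1 a2 a3 e : Λ) (x1 x2 x3 : ℤ) : Prop where
  u : l.B e e = 1
  x1 : l.B e a1 = x1
  x2 : l.B e a2 = x2
  x3 : l.B e a3 = x3

/-- The three vectors `aₖ`. -/
structure Al (o a1 a2 a3 : Λ) : Prop where
  oo : l.B o o = 1
  zo : l.z o = 1
  no : l.n o = 1
  n1 : l.B a1 a1 = 4
  n2 : l.B a2 a2 = 4
  n3 : l.B a3 a3 = 4
  i12 : l.B a1 a2 = 2
  i13 : l.B a1 a3 = 2
  i23 : l.B a2 a3 = 2
  o1 : l.B o a1 = 1
  o2 : l.B o a2 = 1
  o3 : l.B o a3 = 1
  z1 : l.z a1 = 0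
  z2 : l.z a2 = 0
  z3 : l.z a3 = 0

/-- First pattern. -/
structure Star (o a1 a2 a3 e0 e1 f1 e2 f2 e3 f3 : Λ) : Prop where
  d1 : a1 = o + e0 - e1 - f1
  d2 : a2 = o + e0 - e2 - f2
  d3 : a3 = o + e0 - e3 - f3
  o0 : l.B e0 o = 0
  x0 : l.X a1 a2 a3 e0 1 1 1
  x1 : l.X a1 a2 a3 e1 (-1) 0 0
  y1 : l.X a1 a2 a3 f1 (-1) 0 0
  x2 : l.X a1 a2 a3 e2 0 (-1) 0
  y2 : l.X a1 a2 a3 f2 0 (-1) 0
  x3 : l.X a1 a2 a3 e3 0 0 (-1)
  y3 : l.X a1 a2 a3 f3 0 0 (-1)

/-- Second pattern. -/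
structure Tri (o a1 a2 a3 e1 e2 e3 f1 f2 f3 : Λ) : Prop where
  d1 : a1 = o - e1 + f2 + f3
  d2 : a2 = o - e2 + f1 + f3
  d3 : a3 = o - e3 + f1 + f2
  x1 : l.X a1 a2 a3 e1 (-1) 0 0
  x2 : l.X a1 a2 a3 e2 0 (-1) 0
  x3 : l.X a1 a2 a3 e3 0 0 (-1)
  y1 : l.X a1 a2 a3 f1 0 1 1
  y2 : l.X a1 a2 a3 f2 1 0 1
  y3 : l.X a1 a2 a3 f3 1 1 0

variable {l} {o a1 a2 a3 : Λ}

theorem X.swap {x1 x2 x3 : ℤ} (h : l.X a1 a2 a3 e x1 x2 x3) : l.X a1 a3 a2 e x1 x3 x2 :=
  ⟨h.u, h.x1, h.x3, h.x2⟩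

theorem Al.swap (h : l.Al o a1 a2 a3) : l.Al o a1 a3 a2 :=
  ⟨h.oo, h.zo, h.no, h.n1, h.n3, h.n2, h.i13, h.i12, l.symm .. ▸ h.i23, h.o1, h.o3, h.o2, h.z1,
    h.z3, h.z2⟩

theorem Al.star_of (h : l.Al o a1 a2 a3) (he : l.B e e = 1) (hf : l.B f f = 1)
    (hg : l.B g g = 1) (h1 : l.B e f = 0) (h2 : l.B e g = 0) (h3 : l.B f g = 0)
    (d : a1 - o = e + f + g) (oe : l.B e o = 0) (of : l.B f o = 0) (og : l.B g o = 0)
    (p2 : l.B (a2 - o) e = 1 ∧ l.B (a2 - o) f = 0 ∧ l.B (a2 - o) g = 0)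
    (p3 : l.B (a3 - o) e = 1 ∧ l.B (a3 - o) f = 0 ∧ l.B (a3 - o) g = 0) :
    ∃ e0 e1 f1 e2 f2 e3 f3, l.Star o a1 a2 a3 e0 e1 f1 e2 f2 e3 f3 := by
  obtain ⟨oo, zo, -, n1, n2, n3, i12, i13, i23, o1, o2, o3, z1, z2, z3⟩ := h
  have s := l.symm
  simp only [map_add, map_sub, map_neg, AddMonoidHom.add_apply, AddMonoidHom.sub_apply, AddMonoidHom.neg_apply, s o e, s o f, s o g, oe, of, og] at p2 p3
  obtain ⟨⟨a1', a2', a4'⟩, p5, p6, p7⟩ := And.intro p2 p3
  have m2 : l.B (a2 - o - e) (a2 - o - e) = 2 := by simp only [map_add, map_sub, map_neg, AddMonoidHom.add_apply, AddMonoidHom.sub_apply, AddMonoidHom.neg_apply, s o e, s a2 o, s e a2]; omega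
  have m3 : l.B (a3 - o - e) (a3 - o - e) = 2 := by simp only [map_add, map_sub, map_neg, AddMonoidHom.add_apply, AddMonoidHom.sub_apply, AddMonoidHom.neg_apply, s o e, s a3 o, s e a3]; omega
  obtain ⟨e2, f2, he2, hf2, h22, d2⟩ := l.two m2
  obtain ⟨e3, f3, he3, hf3, h33, d3⟩ := l.two m3
  have q1 := l.orth_two he2 hf2 h22 oo (by rw [← d2]; simp only [map_add, map_sub, map_neg, AddMonoidHom.add_apply, AddMonoidHom.sub_apply, AddMonoidHom.neg_apply, s a2 o]; omega)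
  have q2 := l.orth_two he2 hf2 h22 he (by rw [← d2]; simp only [map_add, map_sub, map_neg, AddMonoidHom.add_apply, AddMonoidHom.sub_apply, AddMonoidHom.neg_apply, s o e]; omega)
  have q3 := l.orth_two he2 hf2 h22 hf (by rw [← d2]; simp only [map_add, map_sub, map_neg, AddMonoidHom.add_apply, AddMonoidHom.sub_apply, AddMonoidHom.neg_apply, s o f]; omega)
  have q4 := l.orth_two he2 hf2 h22 hg (by rw [← d2]; simp only [map_add, map_sub, map_neg, AddMonoidHom.add_apply, AddMonoidHom.sub_apply, AddMonoidHom.neg_apply, s o g]; omega)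
  have r1 := l.orth_two he3 hf3 h33 oo (by rw [← d3]; simp only [map_add, map_sub, map_neg, AddMonoidHom.add_apply, AddMonoidHom.sub_apply, AddMonoidHom.neg_apply, s a3 o]; omega)
  have r2 := l.orth_two he3 hf3 h33 he (by rw [← d3]; simp only [map_add, map_sub, map_neg, AddMonoidHom.add_apply, AddMonoidHom.sub_apply, AddMonoidHom.neg_apply, s o e]; omega)
  have r3 := l.orth_two he3 hf3 h33 hf (by rw [← d3]; simp only [map_add, map_sub, map_neg, AddMonoidHom.add_apply, AddMonoidHom.sub_apply, AddMonoidHom.neg_apply, s o f]; omega)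
  have r4 := l.orth_two he3 hf3 h33 hg (by rw [← d3]; simp only [map_add, map_sub, map_neg, AddMonoidHom.add_apply, AddMonoidHom.sub_apply, AddMonoidHom.neg_apply, s o g]; omega)
  have t2 := l.orth_of_two he2 hf2 h22 m3 (by
    rw [← d2]; simp only [map_add, map_sub, map_neg, AddMonoidHom.add_apply, AddMonoidHom.sub_apply, AddMonoidHom.neg_apply, s o e, s a3 o, s e a2, s a3 a2]; omega) (by rw [← d2]; simp only [map_add, map_sub, map_neg, AddMonoidHom.add_apply, AddMonoidHom.sub_apply, AddMonoidHom.neg_apply]; omega)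
  rw [d3] at t2
  have t3 := l.orth_two he3 hf3 h33 he2 t2.1
  have t4 := l.orth_two he3 hf3 h33 hf2 t2.2
  have d1 : a1 = o + e - -f - -g := by rw [← sub_add_cancel a1 o, d]; abel
  have d2' : a2 = o + e - -e2 - -f2 := by
    rw [← sub_add_cancel a2 o, ← sub_add_cancel (a2 - o) e, d2]; abel
  have d3' : a3 = o + e - -e3 - -f3 := by
    rw [← sub_add_cancel a3 o, ← sub_add_cancel (a3 - o) e, d3]; abel
  clear d d2 d3 m2 m3 t2 n1 n2 n3 i12 i13 i23 o1 o2 o3 z1 z2 z3 a1' a2' a4' p5 p6 p7 p2 p3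
  refine ⟨e, -f, -g, -e2, -f2, -e3, -f3, d1, d2', d3', oe, ?_, ?_, ?_, ?_, ?_, ?_, ?_⟩ <;>
    subst d1 d2' d3' <;> constructor <;>
    (try simp only [map_add, map_sub, map_neg, AddMonoidHom.add_apply, AddMonoidHom.sub_apply, AddMonoidHom.neg_apply, s f e, s g e, s g f, s e e2, s e f2, s e e3, s e f3, s f e2, s f f2, s f e3, s f f3,
      s g e2, s g f2, s g e3, s g f3, s f2 e2, s f3 e3, s e2 e3, s e2 f3, s f2 e3, s f2 f3]) <;>
    omega

theorem Al.tri_of (h : l.Al o a1 a2 a3) (he : l.B e e = 1) (hf : l.B f f = 1)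
    (hg : l.B g g = 1) (h1 : l.B e f = 0) (h2 : l.B e g = 0) (h3 : l.B f g = 0)
    (d : a1 - o = e + f + g) (oe : l.B e o = 0) (of : l.B f o = 0) (og : l.B g o = 0)
    (p2 : l.B (a2 - o) e = 1 ∧ l.B (a2 - o) f = 0 ∧ l.B (a2 - o) g = 0)
    (p3 : l.B (a3 - o) e = 0 ∧ l.B (a3 - o) f = 1 ∧ l.B (a3 - o) g = 0) :
    ∃ e1 e2 e3 f1 f2 f3, l.Tri o a1 a2 a3 e1 e2 e3 f1 f2 f3 := by
  obtain ⟨oo, zo, -, n1, n2, n3, i12, i13, i23, o1, o2, o3, z1, z2, z3⟩ := h
  have s := l.symm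
  simp only [map_add, map_sub, map_neg, AddMonoidHom.add_apply, AddMonoidHom.sub_apply, AddMonoidHom.neg_apply, s o e, s o f, s o g, oe, of, og] at p2 p3
  obtain ⟨⟨a1', a2', a4'⟩, p5, p6, p7⟩ := And.intro p2 p3
  have m2 : l.B (a2 - o - e) (a2 - o - e) = 2 := by simp only [map_add, map_sub, map_neg, AddMonoidHom.add_apply, AddMonoidHom.sub_apply, AddMonoidHom.neg_apply, s o e, s a2 o, s e a2]; omega
  have m3 : l.B (a3 - o - f) (a3 - o - f) = 2 := by simp only [map_add, map_sub, map_neg, AddMonoidHom.add_apply, AddMonoidHom.sub_apply, AddMonoidHom.neg_apply, s o f, s a3 o, s f a3]; omega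
  obtain ⟨k, e2, hk, he2, h22, d2, t1, t2⟩ : ∃ k e2, l.B k k = 1 ∧ l.B e2 e2 = 1 ∧ l.B k e2 = 0 ∧
      a2 - o - e = k + e2 ∧ l.B (a3 - o - f) k = 1 ∧ l.B (a3 - o - f) e2 = 0 := by
    obtain ⟨k, e2, hk, he2, h22, d2⟩ := l.two m2
    have b1 := l.abs_le hk (v := a3 - o - f) (by omega)
    have b2 := l.abs_le he2 (v := a3 - o - f) (by omega)
    have b3 : l.B (a3 - o - f) (k + e2) = 1 := by
      rw [← d2]; simp only [map_add, map_sub, map_neg, AddMonoidHom.add_apply, AddMonoidHom.sub_apply, AddMonoidHom.neg_apply, s o e, s a3 o, s f a2, s a3 a2, s f e]; omega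
    rw [map_add] at b3
    rcases (by omega : l.B (a3 - o - f) k = 1 ∨ l.B (a3 - o - f) k = 0) with b | b
    · exact ⟨k, e2, hk, he2, h22, d2, b, by omega⟩
    · exact ⟨e2, k, he2, hk, s .. ▸ h22, by rw [d2, add_comm], by omega, b⟩
  have q1 := l.orth_two hk he2 h22 oo (by rw [← d2]; simp only [map_add, map_sub, map_neg, AddMonoidHom.add_apply, AddMonoidHom.sub_apply, AddMonoidHom.neg_apply, s a2 o]; omega)
  have q2 := l.orth_two hk he2 h22 he (by rw [← d2]; simp only [map_add, map_sub, map_neg, AddMonoidHom.add_apply, AddMonoidHom.sub_apply, AddMonoidHom.neg_apply, s o e]; omega)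
  have q3 := l.orth_two hk he2 h22 hf (by rw [← d2]; simp only [map_add, map_sub, map_neg, AddMonoidHom.add_apply, AddMonoidHom.sub_apply, AddMonoidHom.neg_apply, s o f]; omega)
  have q4 := l.orth_two hk he2 h22 hg (by rw [← d2]; simp only [map_add, map_sub, map_neg, AddMonoidHom.add_apply, AddMonoidHom.sub_apply, AddMonoidHom.neg_apply, s o g]; omega)
  obtain ⟨m, hm⟩ : ∃ m, m = a3 - o - f - k := ⟨_, rfl⟩
  have hm1 : l.B m m = 1 := by rw [hm, l.sub_unit hk t1, m3]; rfl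
  have r1 : l.B m o = 0 := by rw [hm]; simp only [map_add, map_sub, map_neg, AddMonoidHom.add_apply, AddMonoidHom.sub_apply, AddMonoidHom.neg_apply, s a3 o]; omega
  have r2 : l.B m e = 0 := by rw [hm]; simp only [map_add, map_sub, map_neg, AddMonoidHom.add_apply, AddMonoidHom.sub_apply, AddMonoidHom.neg_apply, s o e, s f e]; omega
  have r3 : l.B m f = 0 := by rw [hm]; simp only [map_add, map_sub, map_neg, AddMonoidHom.add_apply, AddMonoidHom.sub_apply, AddMonoidHom.neg_apply, s o f]; omega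
  have r4 : l.B m g = 0 := by rw [hm]; simp only [map_add, map_sub, map_neg, AddMonoidHom.add_apply, AddMonoidHom.sub_apply, AddMonoidHom.neg_apply, s o g]; omega
  have r5 : l.B m k = 0 := by rw [hm, map_sub, AddMonoidHom.sub_apply]; omega
  have r6 : l.B m e2 = 0 := by rw [hm, map_sub, AddMonoidHom.sub_apply]; omega
  have d1 : a1 = o - -g + f + e := by rw [← sub_add_cancel a1 o, d]; abel
  have d2' : a2 = o - -e2 + k + e := by
    rw [← sub_add_cancel a2 o, ← sub_add_cancel (a2 - o) e, d2]; abel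
  have d3' : a3 = o - -m + k + f := by rw [hm]; abel
  clear d d2 hm m2 m3 t1 t2 n1 n2 n3 i12 i13 i23 o1 o2 o3 z1 z2 z3 a1' a2' a4' p5 p6 p7 p2 p3
  refine ⟨-g, -e2, -m, k, f, e, d1, d2', d3', ?_, ?_, ?_, ?_, ?_, ?_⟩ <;>
    subst d1 d2' d3' <;> constructor <;>
    (try simp only [map_add, map_sub, map_neg, AddMonoidHom.add_apply, AddMonoidHom.sub_apply, AddMonoidHom.neg_apply, s f e, s g e, s g f, s e e2, s e k, s e m, s f e2, s f k, s f m,
      s g e2, s g k, s g m, s e2 k, s e2 m, s k m]) <;>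
    omega

theorem Al.pattern (h : l.Al o a1 a2 a3) :
    (∃ e0 e1 f1 e2 f2 e3 f3, l.Star o a1 a2 a3 e0 e1 f1 e2 f2 e3 f3) ∨
    ∃ e1 e2 e3 f1 f2 f3, l.Tri o a1 a2 a3 e1 e2 e3 f1 f2 f3 := by
  have s := l.symm
  obtain ⟨e, f, g, he, hf, hg, h1, h2, h3, d⟩ := l.three (v := a1 - o) (by
    simp only [map_add, map_sub, map_neg, AddMonoidHom.add_apply, AddMonoidHom.sub_apply, AddMonoidHom.neg_apply, s a1 o, h.oo, h.n1, h.o1]; rfl)
  obtain ⟨oe, of, og⟩ := l.orth_three he hf hg h1 h2 h3 h.oo (by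
    rw [← d]; simp only [map_add, map_sub, map_neg, AddMonoidHom.add_apply, AddMonoidHom.sub_apply, AddMonoidHom.neg_apply, s a1 o, h.oo, h.o1]; rfl)
  have p2 := l.pat he hf hg h1 h2 h3 (w := a2 - o) (by simp only [map_add, map_sub, map_neg, AddMonoidHom.add_apply, AddMonoidHom.sub_apply, AddMonoidHom.neg_apply, s a2 o, h.oo, h.n2, h.o2]; rfl)
    (by rw [← d]; simp only [map_add, map_sub, map_neg, AddMonoidHom.add_apply, AddMonoidHom.sub_apply, AddMonoidHom.neg_apply, s a2 o, s a2 a1, h.oo, h.i12, h.o2, h.o1]; rfl)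
    (by rw [← d]; simp only [map_add, map_sub, map_neg, AddMonoidHom.add_apply, AddMonoidHom.sub_apply, AddMonoidHom.neg_apply, h.z1, h.z2])
  have p3 := l.pat he hf hg h1 h2 h3 (w := a3 - o) (by simp only [map_add, map_sub, map_neg, AddMonoidHom.add_apply, AddMonoidHom.sub_apply, AddMonoidHom.neg_apply, s a3 o, h.oo, h.n3, h.o3]; rfl)
    (by rw [← d]; simp only [map_add, map_sub, map_neg, AddMonoidHom.add_apply, AddMonoidHom.sub_apply, AddMonoidHom.neg_apply, s a3 o, s a3 a1, h.oo, h.i13, h.o3, h.o1]; rfl)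
    (by rw [← d]; simp only [map_add, map_sub, map_neg, AddMonoidHom.add_apply, AddMonoidHom.sub_apply, AddMonoidHom.neg_apply, h.z1, h.z3])
  have h1' := s .. ▸ h1
  have h2' := s .. ▸ h2
  have h3' := s .. ▸ h3
  rcases p2 with p2 | p2 | p2 <;> rcases p3 with p3 | p3 | p3
  · exact Or.inl (h.star_of he hf hg h1 h2 h3 d oe of og p2 p3)
  · exact Or.inr (h.tri_of he hf hg h1 h2 h3 d oe of og p2 p3)
  · exact Or.inr (h.tri_of he hg hf h2 h1 h3' (by rw [d]; abel) oe og of (by tauto) (by tauto))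
  · exact Or.inr (h.tri_of hf he hg h1' h3 h2 (by rw [d]; abel) of oe og (by tauto) (by tauto))
  · exact Or.inl (h.star_of hf he hg h1' h3 h2 (by rw [d]; abel) of oe og (by tauto) (by tauto))
  · exact Or.inr (h.tri_of hf hg he h3 h1' h2' (by rw [d]; abel) of og oe (by tauto) (by tauto))
  · exact Or.inr (h.tri_of hg he hf h2' h3' h1 (by rw [d]; abel) og oe of (by tauto) (by tauto))
  · exact Or.inr (h.tri_of hg hf he h3' h2' h1' (by rw [d]; abel) og of oe (by tauto) (by tauto))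
  · exact Or.inl (h.star_of hg he hf h2' h3' h1 (by rw [d]; abel) og oe of (by tauto) (by tauto))

end Lat

section Inst

open Subgroup Cfsg CfsgLib.FT CfsgLib.GW

/-- Lift an additive map with values in the image of `ι`. -/
noncomputable def liftHom {Λ R : Type*} [AddCommGroup Λ] [AddCommGroup R] (f : Λ → ℂ)
    (hf : ∀ v w, f (v + w) = f v + f w) (ι : R →+ ℂ) (hι : Function.Injective ι)
    (h : ∀ v, ∃ k, f v = ι k) : Λ →+ R :=
  AddMonoidHom.mk' (fun v => (h v).choose) fun v w => hι (by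
    rw [map_add, ← (h v).choose_spec, ← (h w).choose_spec, ← (h _).choose_spec, hf])

theorem liftHom_spec {Λ R : Type*} [AddCommGroup Λ] [AddCommGroup R] (f : Λ → ℂ)
    (hf : ∀ v w, f (v + w) = f v + f w) (ι : R →+ ℂ) (hι : Function.Injective ι)
    (h : ∀ v, ∃ k, f v = ι k) (v : Λ) : f v = ι (liftHom f hf ι hι h v) := (h v).choose_spec

variable {G : Type*} [Group G] [Fintype G] {X : Subgroup G} {u : G}

/-- `l` is the lattice of virtual characters of `X`. -/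
structure IsLat (X : Subgroup G) (u : G) (l : Lat (ZIrr X)) : Prop where
  B : ∀ v w : ZIrr X, cfdot X v w = l.B v w
  z : ∀ v : ZIrr X, v.1 1 = l.z v
  n : ∀ v : ZIrr X, v.1 u = l.n v
  Θ : ∀ v : ZIrr X, Th X u v = l.Θ v

theorem exists_lat (hu : u ∈ X) (ho : orderOf u = 2) : ∃ l, IsLat X u l := by
  have i1 : Function.Injective (Int.castAddHom ℂ) := Int.cast_injective
  have i2 : Function.Injective (Rat.castHom ℂ).toAddMonoidHom := Rat.cast_injective
  have hB : ∀ v w : ZIrr X, ∃ k, cfdot X v w = Int.castAddHom ℂ k :=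
    fun v w => ZIrr_cfdot_int v.2 w.2
  let B0 : ZIrr X → ZIrr X →+ ℤ := fun v =>
    liftHom (fun w : ZIrr X => cfdot X v w) (fun _ _ => cfdot_add_right) _ i1 (hB v)
  have hB0 : ∀ v w : ZIrr X, cfdot X v w = B0 v w := fun v => liftHom_spec _ _ _ i1 (hB v)
  let B : ZIrr X →+ ZIrr X →+ ℤ := AddMonoidHom.mk' B0 fun v w => by
    ext x
    refine Int.cast_injective (α := ℂ) ?_
    rw [AddMonoidHom.add_apply, Int.cast_add, ← hB0, ← hB0, ← hB0]
    exact cfdot_add_left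
  have hB1 : ∀ v w : ZIrr X, cfdot X v w = B v w := hB0
  have hz : ∀ v : ZIrr X, ∃ k, v.1 1 = Int.castAddHom ℂ k := fun v => ZIrr_one_int v.2
  have hn : ∀ v : ZIrr X, ∃ k, v.1 u = Int.castAddHom ℂ k := fun v => int_of_inv v.2 ho
  have hΘ : ∀ v : ZIrr X, ∃ k, Th X u v = (Rat.castHom ℂ).toAddMonoidHom k := by
    rintro ⟨v, hv⟩
    induction hv using Submodule.span_induction with
    | mem χ hχ =>
      obtain ⟨a, ha⟩ := ZIrr_one_int (IsIrr.mem_ZIrr hχ)
      obtain ⟨b, hb⟩ := int_of_inv (IsIrr.mem_ZIrr hχ) ho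
      exact ⟨b ^ 2 / a, by rw [Th_dirr (IsIrr.isDirr hχ) hu, ha, hb]; simp⟩
    | zero => exact ⟨0, by simp [Th]⟩
    | add a b _ _ ha hb =>
      obtain ⟨x, hx⟩ := ha
      obtain ⟨y, hy⟩ := hb
      exact ⟨x + y, by rw [map_add, ← hx, ← hy]; exact Th_add⟩
    | smul k a _ ha =>
      obtain ⟨x, hx⟩ := ha
      refine ⟨k * x, ?_⟩
      have : Th X u (k • a) = k * Th X u a := by rw [← Th_smul, Int.cast_smul_eq_zsmul]
      simp only at hx ⊢
      rw [this, hx]; simp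
  let z := liftHom (fun v : ZIrr X => v.1 1) (fun _ _ => rfl) _ i1 hz
  let n := liftHom (fun v : ZIrr X => v.1 u) (fun _ _ => rfl) _ i1 hn
  let Θ := liftHom (fun v : ZIrr X => Th X u v) (fun _ _ => Th_add) _ i2 hΘ
  have hz1 : ∀ v : ZIrr X, v.1 1 = z v := liftHom_spec _ _ _ i1 hz
  have hn1 : ∀ v : ZIrr X, v.1 u = n v := liftHom_spec _ _ _ i1 hn
  have hΘ1 : ∀ v : ZIrr X, Th X u v = Θ v := liftHom_spec _ _ _ i2 hΘ
  have hd : ∀ e : ZIrr X, B e e = 1 → IsDirr X e := fun e he =>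
    isDirr_of_cfdot e.2 (by rw [hB1, he]; simp)
  refine ⟨⟨B, z, n, Θ, fun v w => ?_, fun v hv => ?_, fun v hv => ?_, fun e he => ?_,
    fun e he => ?_⟩, hB1, hz1, hn1, hΘ1⟩
  · exact Int.cast_injective (α := ℂ) (by rw [← hB1, ← hB1, ZIrr_cfdot_comm v.2 w.2])
  · have h1 := cfnorm_pos (ZIrr_mem_CF v.2) fun e => hv (Subtype.ext e)
    rw [cfnorm, hB1] at h1
    exact_mod_cast h1
  · obtain ⟨χ, hχ, h1⟩ := exists_constt (ZIrr_mem_CF v.2) fun e => hv (Subtype.ext e)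
    have h2 : B ⟨χ, hχ.mem_ZIrr⟩ ⟨χ, hχ.mem_ZIrr⟩ = 1 := by
      have := hB1 ⟨χ, hχ.mem_ZIrr⟩ ⟨χ, hχ.mem_ZIrr⟩
      rw [hχ.cfdot_self] at this
      exact_mod_cast this.symm
    have h3 : B v ⟨χ, hχ.mem_ZIrr⟩ ≠ 0 := fun e => h1 (by
      rw [hB1 v ⟨χ, hχ.mem_ZIrr⟩, e, Int.cast_zero])
    rcases lt_or_gt_of_ne h3 with h4 | h4
    · exact ⟨-⟨χ, hχ.mem_ZIrr⟩, by simpa using h2, by simpa using h4⟩
    · exact ⟨_, h2, h4⟩
  · intro h0
    exact (hd e he).one_ne_zero (by rw [hz1, h0, Int.cast_zero])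
  · refine Rat.cast_injective (α := ℂ) ?_
    rw [← hΘ1, Th_dirr (hd e he) hu, hn1, hz1]; simp

variable {l : Lat (ZIrr X)}

theorem IsLat.dirr (h : IsLat X u l) {e : ZIrr X} (he : l.B e e = 1) : IsDirr X e :=
  isDirr_of_cfdot e.2 (by rw [h.B, he]; simp)

theorem IsLat.B_eq (h : IsLat X u l) {v w : ZIrr X} {k : ℤ} (e : cfdot X v w = k) :
    l.B v w = k := by rw [h.B] at e; exact_mod_cast e

theorem IsLat.z_eq (h : IsLat X u l) {v : ZIrr X} {k : ℤ} (e : v.1 1 = k) : l.z v = k := by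
  rw [h.z] at e; exact_mod_cast e

theorem IsLat.n_eq (h : IsLat X u l) {v : ZIrr X} {k : ℤ} (e : v.1 u = k) : l.n v = k := by
  rw [h.n] at e; exact_mod_cast e

theorem IsLat.Θ_eq (h : IsLat X u l) {v : ZIrr X} {k : ℚ} (e : Th X u v = k) : l.Θ v = k := by
  rw [h.Θ] at e; exact_mod_cast e

end Inst

end CfsgLib.JR
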