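import Cfsg.Agent.Lib.JR.LBasic
import Cfsg.Agent.Lib.JR.Lat

/-!
# Tools on class functions
-/

set_option autoImplicit false
set_option linter.unusedSimpArgs false
set_option linter.unusedSectionVars false

namespace CfsgLib.JR

open Subgroup Cfsg CfsgLib.FT CfsgLib.FT.BGN CfsgLib.FT.U4 CfsgLib.GW CfsgLib.Blk
open scoped ComplexConjugate

variable {G : Type*} [Group G] [Fintype G] {V R W H N X O : Subgroup G} {φ ψ μ ρ θ : G → ℂ}
  {A : Set G} {u g : G}

theorem cfdot_prod (hc : IsComplIn V R W) :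
    cfdot W φ (cfProd V R μ ψ) = cfdot V (fun v => cfdot R (tr v φ) ψ) μ := by
  have h1 := card_ne_zero V
  have h2 := card_ne_zero R
  simp only [cfdot]
  rw [sum_elems_compl hc, IsComplIn_card hc, Finset.mul_sum, Finset.mul_sum]
  refine Finset.sum_congr rfl fun v hv => ?_
  rw [mul_assoc, Finset.sum_mul, Finset.sum_congr rfl fun x hx => by
    rw [cfProd_apply hc.2.2.1 (mem_elems.1 hv) (mem_elems.1 hx), map_mul, mul_comm (conj _),
      ← mul_assoc]]
  simp only [tr]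
  push_cast
  field_simp
  exact Finset.sum_congr rfl fun _ _ => by ring

theorem apply_of_cfdot (hc : ∀ x ∈ R, ∀ y ∈ R, x * y = y * x) {κ : ℂ}
    (hκ : ∀ ρ, IsIrr R ρ → ρ ≠ cf1 R → cfdot R φ (cf1 R - ρ) = κ) (hx : g ∈ R) :
    (g ≠ 1 → φ g = κ) ∧ (g = 1 → φ g = κ + Nat.card R * (cfdot R φ (cf1 R) - κ)) := by
  classical
  have h1 : cfRes R φ ∈ CF R := mem_CF.2 ⟨fun x hx => cfRes_apply_of_notMem hx, fun y hy x => by
    by_cases hx : x ∈ R
    · rw [hc y hy x hx, mul_inv_cancel_right]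
    · rw [cfRes_apply_of_notMem hx, cfRes_apply_of_notMem (mt (conj_mem_iff hy).1 hx)]⟩
  have h2 := congrFun (cfun_sum_cfdot h1) g
  rw [cfRes_apply hx, Finset.sum_apply, Finset.sum_congr rfl (g := fun χ : Irr R =>
    (cfdot R φ (cf1 R) - κ) * (χ 1 * χ g) + if χ = 1 then κ else 0) fun χ _ => by
      rw [Pi.smul_apply, cfdot_cfRes_left, smul_eq_mul, (χ.irr.isLin_of_comm hc).one, one_mul]
      split_ifs with e
      · rw [e, Irr.coe_one, cf1_apply hx]; ring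
      · rw [← hκ χ χ.irr fun e' => e (Irr.ext e'), cfdot_sub_right]; ring,
    Finset.sum_add_distrib, ← Finset.mul_sum, sum_irr_one_mul'] at h2
  rw [h2]
  constructor <;> intro e <;> simp [e, mul_comm, add_comm]

theorem cfdot_const (hρ : IsLin R ρ) (h1 : ρ ≠ cf1 R) {κ : ℂ} (h : ∀ x ∈ R, x ≠ 1 → φ x = κ) :
    cfdot R φ (cf1 R - ρ) = κ := by
  have : cfdot R φ (cf1 R - ρ) = cfdot R (κ • cf1 R) (cf1 R - ρ) := by
    simp only [cfdot]
    congr 1
    refine Finset.sum_congr rfl fun x hx => ?_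
    by_cases e : x = 1
    · simp [e, hρ.one, cf1_apply R.one_mem]
    · simp [h x (mem_elems.1 hx) e, cf1_apply (mem_elems.1 hx)]
  rw [this, cfdot_smul_left, cfdot_sub_right, cfdot_cf1, (isIrr_cf1 R).cfdot_ne hρ.isIrr h1.symm]
  ring

theorem cfdot_of_TI (h : NormedTI A X N) (hφ : φ ∈ CF X) (hψ : ψ ∈ CF X)
    (h0 : ∀ g ∈ X, g ∉ classSupport A X → φ g = 0) (hA : A ⊆ X) :
    cfdot X φ ψ = (Nat.card N : ℂ)⁻¹ * ∑ a ∈ elems A, φ a * conj (ψ a) := by
  have h1 := h.card_smul_sum_classSupport (f := fun a => φ a * conj (ψ a))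
    fun y hy x => by rw [CF_conj hφ hy, CF_conj hψ hy]
  have h2 := card_ne_zero X
  have h3 := card_ne_zero N
  rw [cfdot_eq_sum_of_supp (A := classSupport A X)
    (by rintro _ ⟨a, ha, y, hy, rfl⟩; exact cmem hy (hA ha)) fun x hx hn => by
      rw [h0 x hx hn, zero_mul]]
  simp only [nsmul_eq_mul] at h1
  field_simp
  linear_combination h1

theorem cfdot_ind_one (hHN : H ≤ N) (hn : N ≤ 𝐍(H)) (hθ : IsIrr H θ) (h1 : θ ≠ cf1 H) :
    cfdot N (cfInd H N (cf1 H)) (cfInd H N θ) = 0 := by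
  rw [cfdot_Ind_irr hHN hn (isIrr_cf1 H) hθ, if_neg]
  rw [cfclass_of_invariant fun x hx => mem_inertia_cf1 (hn hx)]
  simpa using h1

theorem norm_ind (hHN : H ≤ N) (hn : N ≤ 𝐍(H)) (hθ : IsIrr H θ) (h1 : θ ≠ cf1 H)
    (hI : N ⊓ inertia θ ≤ H) :
    cfdot N (cfInd H N (cf1 H - θ)) (cfInd H N (cf1 H - θ)) = H.relIndex N + 1 := by
  rw [map_sub, cfdot_sub_left, cfdot_sub_right, cfdot_sub_right, cfdot_ind_one hHN hn hθ h1,
    cfdot_symm_zero (cfdot_ind_one hHN hn hθ h1), (inertia_Ind_irr hHN hn hθ hI).cfdot_self,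
    cfdot_Ind_irr hHN hn (isIrr_cf1 H) (isIrr_cf1 H), if_pos self_mem_cfclass,
    inf_eq_left.2 fun x hx => mem_inertia_cf1 (hn hx)]
  ring

theorem not_inertia (ho : Odd (Nat.card R)) (hρ : IsIrr R ρ) (h1 : ρ ≠ cf1 R) (hg : Inverts g R)
    (hθ : ∀ x ∈ R, θ x = ρ x) : g ∉ inertia θ := fun h => by
  refine h1 ((odd_eq_conj_irr1 ho hρ).1 (funext fun x => ?_))
  rw [ZIrr_cfConjC_apply hρ.mem_ZIrr]
  by_cases hx : x ∈ R
  · rw [← hθ x hx, ← hθ _ (inv_mem hx), ← hg x hx, mem_inertia.1 h]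
  · rw [CF_zero hρ.mem_CF hx, CF_zero hρ.mem_CF (mt inv_mem_iff.1 hx)]

theorem ncard_diff (hle : H ≤ N) (h : H.relIndex N = 2) :
    ((N : Set G) \ H).ncard = Nat.card H := by
  rw [Set.ncard_sdiff hle, ← Nat.card_coe_set_eq, ← Nat.card_coe_set_eq]
  simp only [SetLike.coe_sort_coe]
  rw [card_two hle h]; omega

theorem cfdot_zpowers (hu : orderOf u = 2) :
    cfdot (zpowers u) φ ψ = (φ 1 * conj (ψ 1) + φ u * conj (ψ u)) / 2 := by
  classical
  have : elems (zpowers u : Set G) = {1, u} := by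
    ext x; simp [mem_elems, mem_zpowers_inv hu]
  rw [cfdot, this, Finset.sum_pair (ne_one_of_inv hu).symm, card_zpowers_inv hu]
  push_cast; ring

theorem exists_irr_ne (h : R ≠ ⊥) : ∃ ρ, IsIrr R ρ ∧ ρ ≠ cf1 R := by
  obtain ⟨x, hx, h1⟩ := exists_ne_one h
  obtain ⟨χ, h2, -, h3⟩ := exists_irr_ker_not_mem (N := ⊥) bot_le le_normalizer_bot hx h1
  exact ⟨χ, h2, fun e => h3 (by rwa [e, cfker_cf1])⟩

theorem conj_eq_of_odd {a b x y : G} (ha : orderOf a = 2) (hb : orderOf b = 2)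
    (hx : Odd (orderOf x)) (hy : Odd (orderOf y)) (h1 : x * a = a * x) (h2 : y * b = b * y)
    (h : g * (a * x) * g⁻¹ = b * y) : g * a * g⁻¹ = b ∧ g * x * g⁻¹ = y := by
  have := conj_eq_of_conj_mul_eq (a := 2) (b := orderOf x * orderOf y)
    (Nat.coprime_two_left.2 (hx.mul hy)) ha.dvd (Dvd.intro _ rfl) hb.dvd (Dvd.intro_left _ rfl)
    h1.symm h2.symm h
  refine ⟨this, mul_left_cancel (a := b) ?_⟩
  rw [← h, ← this]; group

theorem V4.ti (h : V4 X u O) : NormedTI {g | u * g ∈ O} X (X ⊓ 𝐂[u]) := by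
  have huu := mul_self_of_inv h.ou
  refine ⟨⟨u, by simp [huu]⟩, inf_le_left, fun x hx a ha => ?_, fun g hg a ha ha' => ⟨hg, ?_⟩⟩
  · have := norm_mem (h.norm hx) ha
    rwa [← mul_assoc, mem_cent1.1 hx.2, mul_assoc u x, mul_assoc u] at this
  · refine mem_cent1_of_conj_eq (conj_eq_of_odd h.ou h.ou (odd_orderOf_of_mem h.odd ha)
      (odd_orderOf_of_mem h.odd ha') (mem_cent1.1 (h.le ha).2) (mem_cent1.1 (h.le ha').2) ?_).1
    rw [← mul_assoc u u, ← mul_assoc u u, huu, one_mul, one_mul]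

theorem V4.sigma (h : V4 X u O) {a b c : G → ℂ} {x y z : ℤ} (hE : Eta X a b c x y z) :
    (1 + 1 / x + 1 / y + 1 / z : ℂ) * Nat.card X =
      16 * Nat.card O * ∑ g ∈ elems (O : Set G), th X (u * g) := by
  have huu := mul_self_of_inv h.ou
  have h1 := card_mul_relIndex h.le
  have h2 := card_ne_zero X
  have h3 := card_ne_zero O
  rw [← hE.Th_phi h.ou h.uX, Th_eq h.ou h.uX h.oneCl hE.phi_mem,
    cfdot_of_TI h.ti hE.phi_mem th_mem_CF (fun g hg hn => hE.phi_odd ((odd_or_two_dvd g).resolve_right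
      fun e => hn (by
        obtain ⟨z, hz, y, hy, e⟩ := h.even g hg e
        exact ⟨u * y, by simpa [← mul_assoc, huu] using hy, z⁻¹, inv_mem hz, by rw [← e]; group⟩)))
      fun g hg => (mul_mem_cancel_left h.uX).1 (h.le hg).1, ← h1, h.idx,
    ← Finset.sum_bij (s := elems (O : Set G)) (f := fun g => 4 * th X (u * g)) (fun g _ => u * g)
      (fun g hg => mem_elems.2 (by simpa [← mul_assoc, huu] using mem_elems.1 hg))
      (fun _ _ _ _ e => by simpa using e) (fun g hg => ⟨u * g, mem_elems.2 (mem_elems (A := {g | u * g ∈ O}).1 hg), by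
        rw [← mul_assoc, huu, one_mul]⟩) fun g hg => by
        have hg' := h.le (mem_elems.1 hg)
        rw [hE.phi_even (mul_mem h.uX hg'.1) (two_dvd_mul h.ou (mem_cent1.1 hg'.2)
          (odd_orderOf_of_mem h.odd (mem_elems.1 hg))), th, map_natCast], ← Finset.mul_sum]
  push_cast
  field_simp
  ring

namespace Lat

variable {Λ : Type*} [AddCommGroup Λ] {l : Lat Λ} {β o a b c : Λ} {ε : ℤ}

theorem dec (hβ : l.B β β = 3) (h1 : l.B β o = 1) (ho : l.B o o = 1) (ha : l.B a a = 1)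
    (hb : l.B b b = 1) (hc : l.B c c = 1) (ao : l.B a o = 0) (bo : l.B b o = 0) (co : l.B c o = 0)
    (ab : l.B a b = 0) (ac : l.B a c = 0) (bc : l.B b c = 0) (hε : ε = 1 ∨ ε = -1)
    (h : l.B β a + l.B β b + l.B β c = ε) :
    (l.B β a = ε ∧ l.B β b = 0 ∧ l.B β c = 0) ∨ (l.B β a = 0 ∧ l.B β b = ε ∧ l.B β c = 0) ∨
      (l.B β a = 0 ∧ l.B β b = 0 ∧ l.B β c = ε) := by
  have s := l.symm
  have := l.nonneg (β - o - l.B β a • a - l.B β b • b - l.B β c • c)
  simp only [map_add, map_sub, map_neg, AddMonoidHom.add_apply, AddMonoidHom.sub_apply, AddMonoidHom.neg_apply, map_zsmul, AddMonoidHom.zsmul_apply, smul_eq_mul, s _ β, hβ, h1, ho, ha, hb, hc, ao, bo, co,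
    ab, ac, bc, s o a, s o b, s o c, s b a, s c a, s c b] at this
  obtain ⟨_, _⟩ := l.abs_le ha hβ.le
  obtain ⟨_, _⟩ := l.abs_le hb hβ.le
  generalize l.B β a = x at *
  generalize l.B β b = y at *
  obtain rfl : ε = x + y + l.B β c := h.symm
  obtain ⟨_, _⟩ := l.abs_le hc hβ.le
  generalize l.B β c = z at *
  interval_cases x <;> interval_cases y <;> interval_cases z <;> omega

theorem dec_th (hβ : l.B β β = 3) (h1 : l.B β o = 1) (ho : l.B o o = 1) (ha : l.B a a = 1)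
    (ao : l.B a o = 0) (h : l.B β a = 1) (zo : l.z o = 1) (no : l.n o = 1) (hz : l.z β = 0) :
    1 + l.z a ≠ 0 ∧ l.Θ β = 1 + (l.n a : ℚ) ^ 2 / l.z a -
      ((l.n β - 1 - l.n a : ℤ) : ℚ) ^ 2 / (1 + l.z a : ℤ) := by
  have h5 : l.B (β - o - a) (β - o - a) = 1 := by
    simp only [map_add, map_sub, map_neg, AddMonoidHom.add_apply, AddMonoidHom.sub_apply, AddMonoidHom.neg_apply, l.symm o β, l.symm a β, l.symm o a]; omega
  have h6 := l.zne _ h5
  have h7 := l.th _ h5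
  simp only [map_add, map_sub, map_neg, AddMonoidHom.add_apply, AddMonoidHom.sub_apply, AddMonoidHom.neg_apply, hz, zo, no, l.th o ho, l.th a ha] at h6 h7
  refine ⟨by omega, ?_⟩
  rw [show (0 : ℤ) - 1 - l.z a = -(1 + l.z a) by ring, Int.cast_neg, div_neg] at h7
  push_cast at h7 ⊢
  linear_combination h7

end Lat

end CfsgLib.JR
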