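import Cfsg.Agent.Lib.JR.RLat

/-!
# The numerical analysis for `q = 5`
-/

set_option autoImplicit false
set_option linter.unusedSimpArgs false
set_option linter.unusedSectionVars false
set_option linter.unusedSimpArgs false

namespace CfsgLib.JR

/-- Square test. -/
def sqb (D : ℤ) : Bool := Int.sqrt D * Int.sqrt D == D

theorem sqb_of {D : ℤ} (a : ℤ) (h : D = a * a) : sqb D = true := by
  simp [sqb, h, Int.sqrt_eq]

/-- Check for the first pattern. -/
def chkS (M k : ℤ) : Bool :=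
  !(0 < M * k && k % 2 == 1 && 9 * M * (k * (M + 1)) % (k * (M + 1) - 1200) == 0 &&
    25 * M * (k * (M + 1)) % (k * (M + 1) - 720) == 0 &&
    sqb ((M + 1) ^ 2 - 4 * (9 * M * (k * (M + 1)) / (k * (M + 1) - 1200))) &&
    sqb ((M + 1) ^ 2 - 4 * (25 * M * (k * (M + 1)) / (k * (M + 1) - 720)))) ||
  M * k == 1463 || M == -15 && k == -105

/-- Check of one equation of the second pattern. -/
def chk2 (g k a b c : ℤ) : Bool :=
  sqb ((k * (g * (1 + 2 * g) + b * g + 2 * (1 + 2 * g)) - a * (1 + 2 * g)) ^ 2 -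
    4 * (k * (2 * g + 4) - 2 * a) * (c * k * g * (1 + 2 * g)))

/-- Check for the second pattern, small index. -/
def chkT (g k : ℤ) : Bool :=
  !(0 < g * k && g * k % 14 == 7 && chk2 g k 720 (-21) 2 && chk2 g k 1200 27 18) ||
  g == -21 && k == -15 || g == 3 || g == 7 && k == 25

/-- Check for the second pattern, small degrees. -/
def chkB (g h : ℤ) : Bool :=
  let e := 1 + 2 * g + 2 * h
  let Q := g * h * e - 25 * g * h + 2 * e * (g + h)
  !(720 * h * e % Q == 0 && 6000 < g * (720 * h * e / Q) && chk2 g (720 * h * e / Q) 1200 27 18)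

theorem all_range {n : ℕ} {f : ℕ → Bool} (h : (List.range n).all f = true) {i : ℕ} (hi : i < n) :
    f i = true := List.all_eq_true.1 h i (List.mem_range.2 hi)

theorem chkS_all : ((List.range 2101).all fun j => (List.range (8400 / (8 * (j : ℤ) - 8399).natAbs + 1)).all
    fun k => chkS (8 * j - 8399) k && chkS (8 * j - 8399) (-k)) = true := by decide +kernel

theorem chkT_all : ((List.range 3001).all fun j => (List.range (6000 / (4 * (j : ℤ) - 6001).natAbs + 1)).all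
    fun k => chkT (4 * j - 6001) k && chkT (4 * j - 6001) (-k)) = true := by decide +kernel

theorem chkB_all : ((List.range 77).all fun i => (List.range 77).all
    fun j => chkB (4 * i - 153) (4 * j - 153)) = true := by decide +kernel

theorem both {f : ℤ → Bool} {k : ℤ} (h : (f k.natAbs && f (-k.natAbs)) = true) : f k = true := by
  rw [Bool.and_eq_true] at h
  rcases Int.natAbs_eq k with e | e <;> rw [e]
  exacts [h.1, h.2]

theorem chkS_of {M k : ℤ} (h1 : M % 8 = 1) (h2 : 0 < M * k) (h3 : M * k < 8400) :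
    chkS M k = true := by
  have h4 : (M * k).natAbs = M.natAbs * k.natAbs := Int.natAbs_mul ..
  have h5 : 0 < M.natAbs := by omega
  have h6 : k.natAbs ≤ 8400 / M.natAbs := (Nat.le_div_iff_mul_le h5).2 (by rw [mul_comm]; omega)
  have h7 : M.natAbs ≤ M.natAbs * k.natAbs :=
    Nat.le_mul_of_pos_right _ (Int.natAbs_pos.2 (by rintro rfl; simp at h2))
  obtain ⟨j, hj, rfl⟩ : ∃ j : ℕ, j < 2101 ∧ M = 8 * j - 8399 :=
    ⟨((M + 8399) / 8).toNat, by omega, by omega⟩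
  exact both (all_range (all_range chkS_all hj) (Nat.lt_succ_of_le h6))

theorem chkT_of {g k : ℤ} (h1 : g % 4 = 3) (h2 : 0 < g * k) (h3 : g * k ≤ 6000) :
    chkT g k = true := by
  have h4 : (g * k).natAbs = g.natAbs * k.natAbs := Int.natAbs_mul ..
  have h5 : 0 < g.natAbs := by omega
  have h6 : k.natAbs ≤ 6000 / g.natAbs := (Nat.le_div_iff_mul_le h5).2 (by rw [mul_comm]; omega)
  have h7 : g.natAbs ≤ g.natAbs * k.natAbs :=
    Nat.le_mul_of_pos_right _ (Int.natAbs_pos.2 (by rintro rfl; simp at h2))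
  obtain ⟨j, hj, rfl⟩ : ∃ j : ℕ, j < 3001 ∧ g = 4 * j - 6001 :=
    ⟨((g + 6001) / 4).toNat, by omega, by omega⟩
  exact both (all_range (all_range chkT_all hj) (Nat.lt_succ_of_le h6))

theorem chkB_of {g h : ℤ} (h1 : g % 4 = 3) (h2 : h % 4 = 3) (h3 : g.natAbs ≤ 150)
    (h4 : h.natAbs ≤ 150) : chkB g h = true := by
  obtain ⟨i, hi, rfl⟩ : ∃ j : ℕ, j < 77 ∧ g = 4 * j - 153 :=
    ⟨((g + 153) / 4).toNat, by omega, by omega⟩
  obtain ⟨j, hj, rfl⟩ : ∃ j : ℕ, j < 77 ∧ h = 4 * j - 153 :=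
    ⟨((h + 153) / 4).toNat, by omega, by omega⟩
  exact all_range (all_range chkB_all hi) hj

theorem inv_lo {x : ℤ} (K : ℕ) (h : x ≤ -K ∨ 0 < x) (hK : 0 < K := by norm_num) :
    -(1 / K : ℚ) ≤ 1 / x := by
  have : (0 : ℚ) < K := by exact_mod_cast hK
  rcases h with h | h
  · have h1 : (K : ℚ) ≤ -x := by exact_mod_cast (by omega : (K : ℤ) ≤ -x)
    have := one_div_le_one_div_of_le this h1
    rw [div_neg] at this; linarith
  · have h1 : (0 : ℚ) < x := by exact_mod_cast h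
    have := one_div_pos.2 h1
    have := one_div_pos.2 ‹(0 : ℚ) < K›
    linarith

theorem inv_hi {x : ℤ} (K : ℕ) (h : x < 0 ∨ K ≤ x) (hK : 0 < K := by norm_num) :
    (1 / x : ℚ) ≤ 1 / K := by
  have := inv_lo (x := -x) K (by omega) hK
  rw [Int.cast_neg, div_neg] at this; linarith

theorem inv_pos' {x : ℤ} (h : 0 < x) : (0 : ℚ) < 1 / x := one_div_pos.2 (by exact_mod_cast h)

theorem inv_neg' {x : ℤ} (h : x < 0) : (1 / x : ℚ) < 0 := one_div_neg.2 (by exact_mod_cast h)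

theorem lt_of_eq {N : ℤ} {a B c : ℚ} (hN : 0 < N) (h : c < a / N) (hc : 0 < c) (e : a = B * c) :
    (N : ℚ) < B := by
  have : (0 : ℚ) < N := by exact_mod_cast hN
  rw [lt_div_iff₀ this, e, mul_comm] at h
  exact lt_of_mul_lt_mul_right h hc.le

theorem numS {N M x y z w : ℤ} (hN : 0 < N) (ho : N % 2 = 1) (hM : M % 8 = 1) (hd : M ∣ N)
    (hxy : x + y = M + 1) (hzw : z + w = M + 1) (hx : x < 0 ∨ 21 ≤ x) (hy : y < 0 ∨ 21 ≤ y)
    (hz : z ≠ 0) (hw : w ≠ 0) (E1 : (1 : ℚ) + 1 / M - 9 / x - 9 / y = 1200 / N)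
    (E3 : (1 : ℚ) + 1 / M - 25 / z - 25 / w = 720 / N) :
    N = 1463 ∨ N = 1575 ∧ M = -15 ∧ z * w = -735 := by
  have h1 : (N : ℚ) < 8400 := by
    refine lt_of_eq hN (c := 1 / 7) (a := 1200) ?_ (by norm_num) (by norm_num)
    rw [← E1]
    have k1 := inv_hi 21 hx
    have k2 := inv_hi 21 hy
    have k3 := inv_lo (x := M) 7 (by omega)
    rw [div_eq_mul_one_div 9, div_eq_mul_one_div 9 (y : ℚ)]
    push_cast at k1 k2 k3
    rcases hx with hx | hx
    · have := inv_neg' hx; linarith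
    rcases hy with hy | hy
    · have := inv_neg' hy; linarith
    have := inv_pos' (x := M) (by omega); linarith
  obtain ⟨k, rfl⟩ := hd
  have h2 := chkS_of hM hN (by exact_mod_cast h1)
  have c0 : (M : ℚ) ≠ 0 := by exact_mod_cast (by omega : M ≠ 0)
  have c1 : (k : ℚ) ≠ 0 := by rintro e; simp [Int.cast_eq_zero.1 e] at hN
  have c2 : (x : ℚ) ≠ 0 := by exact_mod_cast (by omega : x ≠ 0)
  have c3 : (y : ℚ) ≠ 0 := by exact_mod_cast (by omega : y ≠ 0)
  have c4 : (z : ℚ) ≠ 0 := by exact_mod_cast hz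
  have c5 : (w : ℚ) ≠ 0 := by exact_mod_cast hw
  have c6 : (x : ℚ) + y = M + 1 := by exact_mod_cast hxy
  have c7 : (z : ℚ) + w = M + 1 := by exact_mod_cast hzw
  push_cast at E1 E3
  field_simp at E1 E3
  have e1 : 9 * M * (k * (M + 1)) = (k * (M + 1) - 1200) * (x * y) := Int.cast_injective (α := ℚ)
    (by push_cast; linear_combination -E1 - 9 * M * k * c6)
  have e3 : 25 * M * (k * (M + 1)) = (k * (M + 1) - 720) * (z * w) := Int.cast_injective (α := ℚ)
    (by push_cast; linear_combination -E3 - 25 * M * k * c7)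
  have n0 : M * (k * (M + 1)) ≠ 0 := by
    rw [← mul_assoc]; exact mul_ne_zero hN.ne' (by omega)
  have n1 : k * (M + 1) - 1200 ≠ 0 := fun e => n0 (by rw [e] at e1; linarith)
  have n3 : k * (M + 1) - 720 ≠ 0 := fun e => n0 (by rw [e] at e3; linarith)
  have ok : k % 2 = 1 := Int.odd_iff.1 (Int.odd_mul.1 (Int.odd_iff.2 ho)).2
  rw [chkS, e1, e3, Int.mul_ediv_cancel_left _ n1, Int.mul_ediv_cancel_left _ n3,
    sqb_of (x - y) (by rw [← hxy]; ring), sqb_of (z - w) (by rw [← hzw]; ring)] at h2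
  simp only [hN, ok, Int.mul_emod_right, decide_true, beq_self_eq_true, Bool.and_self,
    Bool.not_true, Bool.false_or, Bool.or_eq_true, beq_iff_eq, Bool.and_eq_true] at h2
  refine h2.imp id ?_
  rintro ⟨rfl, rfl⟩
  exact ⟨rfl, rfl, by omega⟩

theorem chk2_of {g k a b c m : ℤ} (E : k * (g * m * (1 + 2 * g + 2 * m) + (b - 2 * c) * g * m +
    (2 * m + c * g) * (1 + 2 * g + 2 * m)) = a * m * (1 + 2 * g + 2 * m)) :
    chk2 g k a b c = true :=
  sqb_of (2 * (k * (2 * g + 4) - 2 * a) * m + (k * (g * (1 + 2 * g) + b * g + 2 * (1 + 2 * g)) -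
    a * (1 + 2 * g))) (by linear_combination -4 * (k * (2 * g + 4) - 2 * a) * E)

theorem boundT {N f1 f2 e : ℤ} (hN : 6000 < N) (m1 : f1 % 8 = 6) (m2 : f2 % 8 = 6)
    (he : e = 1 + f1 + f2)
    (E : (1 : ℚ) - 25 / e + 4 / f1 + 4 / f2 = 720 / N) : f2.natAbs ≤ 300 := by
  by_contra h
  have h1 : (6000 : ℚ) < N := by exact_mod_cast hN
  have h2 : (0 : ℚ) < 720 / N := by positivity
  have h3 : (720 / N : ℚ) < 720 / 6000 := div_lt_div_of_pos_left (by norm_num) (by norm_num) h1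
  rw [← E, div_eq_mul_one_div 25, div_eq_mul_one_div 4, div_eq_mul_one_div 4 (f2 : ℚ)] at h2 h3
  have k1 := inv_lo (x := f2) 300 (by omega)
  have k2 := inv_hi (x := f2) 300 (by omega)
  push_cast at k1 k2
  rcases (by omega : f1 = -2 ∨ f1 = -10 ∨ (f1 ≤ -18 ∨ 0 < f1) ∧ (e < 0 ∨ 45 ≤ e) ∨
    (f1 ≤ -264 ∨ 264 ≤ f1) ∧ (e = 5 ∨ e = 13 ∨ e = 21 ∨ e = 29 ∨ e = 37)) with e1 | e1 | e1 | e1
  · have := inv_lo (x := e) 100 (by omega)
    rw [e1] at h2; push_cast at *; linarith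
  · have := inv_hi (x := e) 100 (by omega)
    rw [e1] at h3; push_cast at *; linarith
  · have := inv_lo 18 e1.1
    have := inv_hi 45 e1.2
    push_cast at *; linarith
  · have k3 := inv_lo (x := f1) 264 (by omega)
    have k4 := inv_hi (x := f1) 264 (by omega)
    have k5 : 0 < (1 / f1 : ℚ) ∨ 0 < (1 / f2 : ℚ) :=
      (by omega : 0 < f1 ∨ 0 < f2).imp inv_pos' inv_pos'
    push_cast at k3 k4
    rcases e1.2 with e2 | e2 | e2 | e2 | e2 <;> rw [e2] at h2 h3 <;> push_cast at h2 h3 <;>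
      rcases k5 with k5 | k5 <;> linarith

theorem numT5 {N f1 f2 f3 e1 e2 e3 : ℤ} (hN : 0 < N) (ho : N % 14 = 7) (m1 : f1 % 8 = 6)
    (m2 : f2 % 8 = 6) (m3 : f3 % 8 = 6) (d1 : f1 ∣ N * -2) (d2 : f2 ∣ N * -2)
    (h1 : e1 = 1 + f2 + f3) (h2 : e2 = 1 + f1 + f3) (h3 : e3 = 1 + f1 + f2)
    (p1 : f1 < 0 ∨ 14 ≤ f1) (p2 : f2 < 0 ∨ 14 ≤ f2)
    (E1 : (1 : ℚ) - 9 / e1 + 4 / f2 + 36 / f3 = 1200 / N)
    (E2 : (1 : ℚ) - 9 / e2 + 4 / f1 + 36 / f3 = 1200 / N)
    (E3 : (1 : ℚ) - 25 / e3 + 4 / f1 + 4 / f2 = 720 / N) : False := by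
  have key : ∀ {f f' e : ℤ} (g k m a b c : ℤ), f = 2 * g → f' = 2 * m → N = g * k →
      e = 1 + f + f' → e ≠ 0 → m ≠ 0 →
      (1 : ℚ) + (b - 2 * c) / e + 4 / f + 2 * c / f' = a / N → k * (g * m * (1 + 2 * g + 2 * m) +
        (b - 2 * c) * g * m + (2 * m + c * g) * (1 + 2 * g + 2 * m)) =
          a * m * (1 + 2 * g + 2 * m) := by
    rintro _ _ e g k m a b c rfl rfl rfl he e0 m0 E
    rw [← he]
    have c0 : (g : ℚ) ≠ 0 := by rintro e; simp [Int.cast_eq_zero.1 e] at hN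
    have c1 : (k : ℚ) ≠ 0 := by rintro e; simp [Int.cast_eq_zero.1 e] at hN
    have c2 : (m : ℚ) ≠ 0 := by exact_mod_cast m0
    have c3 : (e : ℚ) ≠ 0 := by exact_mod_cast e0
    push_cast at E
    field_simp at E
    exact Int.cast_injective (α := ℚ) (by push_cast; linear_combination E / 2)
  obtain ⟨g, rfl⟩ : ∃ g, f1 = 2 * g := ⟨f1 / 2, by omega⟩
  obtain ⟨h, rfl⟩ : ∃ g, f2 = 2 * g := ⟨f2 / 2, by omega⟩
  obtain ⟨m, rfl⟩ : ∃ g, f3 = 2 * g := ⟨f3 / 2, by omega⟩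
  obtain ⟨k, hk⟩ : g ∣ N := by obtain ⟨k, hk⟩ := d1; exact ⟨-k, by linarith⟩
  obtain ⟨k', hk'⟩ : h ∣ N := by obtain ⟨k, hk⟩ := d2; exact ⟨-k, by linarith⟩
  have a1 := key h k' m 1200 27 18 rfl rfl hk' h1 (by omega) (by omega)
    (by push_cast at *; linear_combination E1)
  have a2 := key g k m 1200 27 18 rfl rfl hk h2 (by omega) (by omega)
    (by push_cast at *; linear_combination E2)
  have a3 := key g k h 720 (-21) 2 rfl rfl hk h3 (by omega) (by omega)
    (by push_cast at *; linear_combination E3)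
  have a4 := key h k' g 720 (-21) 2 rfl rfl hk' (e := e3) (by omega) (by omega) (by omega)
    (by push_cast at *; linear_combination E3)
  by_cases hB : N ≤ 6000
  · have b1 := chkT_of (g := g) (k := k) (by omega) (hk ▸ hN) (hk ▸ hB)
    have b2 := chkT_of (g := h) (k := k') (by omega) (hk' ▸ hN) (hk' ▸ hB)
    rw [chkT, chk2_of a2, chk2_of a3, ← hk] at b1
    rw [chkT, chk2_of a1, chk2_of a4, ← hk'] at b2
    simp only [hN, ho, decide_true, beq_self_eq_true, Bool.and_self,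
      Bool.not_true, Bool.false_or, Bool.or_eq_true, beq_iff_eq, Bool.and_eq_true] at b1 b2
    rcases b1 with (⟨rfl, rfl⟩ | rfl) | ⟨rfl, rfl⟩ <;>
      rcases b2 with (⟨rfl, rfl⟩ | rfl) | ⟨rfl, rfl⟩ <;> omega
  · have b1 := boundT (by omega) m1 m2 h3 E3
    have b2 := boundT (N := N) (by omega) m2 m1 (e := e3) (by omega) (by linear_combination E3)
    have b3 := chkB_of (g := g) (h := h) (by omega) (by omega) (by omega) (by omega)
    have b4 : 720 * h * (1 + 2 * g + 2 * h) = (g * h * (1 + 2 * g + 2 * h) - 25 * g * h +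
      2 * (1 + 2 * g + 2 * h) * (g + h)) * k := by linear_combination -a3
    have b5 : g * h * (1 + 2 * g + 2 * h) - 25 * g * h + 2 * (1 + 2 * g + 2 * h) * (g + h) ≠ 0 :=
      fun e => mul_ne_zero (show 720 * h ≠ 0 by omega) (show 1 + 2 * g + 2 * h ≠ 0 by omega)
        (by rw [b4, e, zero_mul])
    simp only [chkB] at b3
    rw [b4, Int.mul_ediv_cancel_left _ b5, chk2_of a2, ← hk] at b3
    simp at b3
    omega

namespace Lat

variable {Λ : Type*} [AddCommGroup Λ] {l : Lat Λ} {o a1 a2 a3 : Λ} {N : ℤ} {P : Λ → Prop}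

theorem Sec.five (h : l.Sec 5 1 3 N o a1 a2 a3 P) (ho : N % 14 = 7)
    (hp : ∀ e, l.B e e = 1 → 0 ≤ l.z e * (l.z e + 7 * l.n e)) :
    N = 1463 ∨ N = 1575 ∧ ∃ e0 e3 f3, a3 = o + e0 - e3 - f3 ∧ l.B e0 o = 0 ∧ l.B e0 a3 = 1 ∧
      l.B e0 e0 = 1 ∧ l.B e3 e3 = 1 ∧ l.B f3 f3 = 1 ∧ l.z e0 = -15 ∧ l.z e3 = 21 ∧
      l.z f3 = -35 := by
  have pos : ∀ e k, l.B e e = 1 → l.n e = -k → 0 ≤ k → l.z e < 0 ∨ 7 * k ≤ l.z e :=
    fun e k he hk h0 => by
      have h1 := hp e he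
      have := l.zne e he
      by_contra h2
      rw [hk] at h1
      nlinarith [mul_pos (by omega : 0 < l.z e) (by omega : 0 < 7 * k - l.z e)]
  have z1 := h.z1
  have z2 := h.z2
  have z3 := h.z3
  have t1 := h.t1
  have t2 := h.t2
  have t3 := h.t3
  rcases h.pattern with ⟨e0, e1, f1, e2, f2, e3, f3, hS⟩ | ⟨e1, e2, e3, f1, f2, f3, hT⟩
  · have n0 := h.n_eq hS.x0
    have n1 := h.n_eq hS.x1
    have n1' := h.n_eq hS.y1
    have n3 := h.n_eq hS.x3
    have n3' := h.n_eq hS.y3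
    have m0 := h.m8 e0
    have m3 := h.m8 e3
    have d0 := h.dv _ hS.x0.u
    rw [hS.d1] at z1 t1
    rw [hS.d3] at z3 t3
    simp only [map_add, map_sub, map_neg, AddMonoidHom.add_apply, AddMonoidHom.sub_apply, AddMonoidHom.neg_apply, h.zo, h.Θo, l.th _ hS.x0.u, l.th _ hS.x1.u, l.th _ hS.y1.u, l.th _ hS.x3.u, l.th _ hS.y3.u,
      n0, n1, n1', n3, n3'] at z1 z3 t1 t3
    refine (numS (M := l.z e0) (x := l.z e1) (y := l.z f1) (z := l.z e3) (w := l.z f3) h.Npos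
      (by omega) (by omega) (by simpa [n0] using d0) (by omega) (by omega)
      (pos e1 3 hS.x1.u n1 (by norm_num)) (pos f1 3 hS.y1.u n1' (by norm_num)) (l.zne _ hS.x3.u)
      (l.zne _ hS.y3.u) (by push_cast at t1; linear_combination t1)
      (by push_cast at t3; linear_combination t3)).imp id fun ⟨k1, k2, k3⟩ => ⟨k1, ?_⟩
    have : (l.z e3 - 21) * (l.z e3 + 35) = 0 := by
      rw [show l.z f3 = -14 - l.z e3 by omega] at k3; linarith
    rcases mul_eq_zero.1 this with k | k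
    · exact ⟨e0, e3, f3, hS.d3, hS.o0, hS.x0.x3, hS.x0.u, hS.x3.u, hS.y3.u, k2, by omega, by omega⟩
    · exact ⟨e0, f3, e3, by rw [hS.d3]; abel, hS.o0, hS.x0.x3, hS.x0.u, hS.y3.u, hS.x3.u, k2,
        by omega, by omega⟩
  · have n1 := h.n_eq hT.x1
    have n2 := h.n_eq hT.x2
    have n3 := h.n_eq hT.x3
    have n4 := h.n_eq hT.y1
    have n5 := h.n_eq hT.y2
    have n6 := h.n_eq hT.y3
    have m1 := h.m8 f1
    have m2 := h.m8 f2
    have m3 := h.m8 f3
    have d1 := h.dv _ hT.y1.u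
    have d2 := h.dv _ hT.y2.u
    rw [hT.d1] at z1 t1
    rw [hT.d2] at z2 t2
    rw [hT.d3] at z3 t3
    simp only [map_add, map_sub, map_neg, AddMonoidHom.add_apply, AddMonoidHom.sub_apply, AddMonoidHom.neg_apply, h.zo, h.Θo, l.th _ hT.x1.u, l.th _ hT.x2.u, l.th _ hT.x3.u, l.th _ hT.y1.u, l.th _ hT.y2.u,
      l.th _ hT.y3.u, n1, n2, n3, n4, n5, n6] at z1 z2 z3 t1 t2 t3
    rw [n4] at d1
    rw [n5] at d2
    exact (numT5 (e1 := l.z e1) (e2 := l.z e2) (e3 := l.z e3) (f3 := l.z f3) h.Npos ho (by omega)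
      (by omega) (by omega) d1 d2 (by omega) (by omega) (by omega)
      (pos f1 2 hT.y1.u n4 (by norm_num)) (pos f2 2 hT.y2.u n5 (by norm_num))
      (by push_cast at t1; linear_combination t1) (by push_cast at t2; linear_combination t2)
      (by push_cast at t3; linear_combination t3)).elim

end Lat

end CfsgLib.JR
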