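import Cfsg.Agent.Lib.JR.RAn
import Cfsg.Agent.Lib.JR.FiveNum
import Cfsg.Agent.Lib.SylowAction

/-!
# The case `q = 5`: the order is `175560`
-/

set_option autoImplicit false
set_option linter.unusedSimpArgs false
set_option linter.unusedSectionVars false

namespace CfsgLib.JR

open Subgroup Cfsg CfsgLib.FT CfsgLib.FT.BGN CfsgLib.FT.U4 CfsgLib.GW CfsgLib.Blk
open scoped ComplexConjugate

variable {G : Type*} [Group G] [Fintype G] {q r s : ℤ} {p : ℕ} {c : Cfg G} {g x y : G}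
  {X : Subgroup G} {a b e φ χ : G → ℂ}

/-- Characters of defect zero vanish on the singular elements. -/
theorem defect_zero {k m : ℕ} (hk : k.Prime) (hX : Nat.card X = k * m) (hm : m.Coprime k)
    (hχ : IsDirr X χ) {z : ℤ} (hz : χ 1 = k * z) (hg : k ∣ orderOf g) : χ g = 0 := by
  classical
  have key : ∀ χ : Irr X, ∀ z : ℤ, χ 1 = k * z → χ g = 0 := fun χ z hz => by
    by_cases e : g ∈ X
    swap
    · exact CF_zero χ.mem_CF e
    obtain ⟨R, hv⟩ := exists_val hk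
    have h1 := sum_idempotent_eq_zero hk hv (idem_mem_CF _) (fun y => ?_)
      (conv_idem_indicator (B := {χ})) X.one_mem (by simp) hg
    · rw [sum_idem_indicator 1 e, kerB, Finset.sum_singleton, mul_eq_zero, map_eq_zero] at h1
      exact h1.resolve_right χ.irr.one_ne_zero
    have : (k : ℂ) ≠ 0 := by exact_mod_cast hk.ne_zero
    rw [idem_apply, Finset.sum_eq_single χ (fun ψ _ e => by simp [e]) (by simp),
      if_pos (Finset.mem_singleton_self _), one_mul, hz, hX, Nat.cast_mul, mul_div_mul_left _ _ this,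
      ← χ.irr.isChar.inv, div_eq_mul_inv]
    exact val_mul_le (val_mul_le (val_intCast_le _ _) (val_inv_le (val_natCast_eq_one hv hm)))
      (val_le_one_of_isIntegral _ (χ.irr.isChar.isIntegral _))
  rcases hχ with h | h
  · exact key ⟨χ, h⟩ z hz
  · simpa using key ⟨_, h⟩ (-z) (by simp [hz])

theorem LD.e_aut (h : LD q r s p c) (hE : LC q s c a b e) (u : ℂ →+* ℂ) : cfAut u e = e := by
  ext g
  rw [cfAut_apply]
  by_cases hg : g ∈ c.L
  swap
  · simp [CF_zero hE.dc.mem_CF hg]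
  rcases odd_or_two_dvd g with ho | ho
  · obtain ⟨z, hz, k⟩ := h.odd_conj hg ho
    rw [← CF_conj hE.dc.mem_CF hz]
    by_cases e1 : z * g * z⁻¹ = 1
    · simp [e1, hE.zc]
    rcases k with k | k | k
    · simp [(hE.vR _ k e1).2.2]
    · simp [(hE.vT _ k e1).2.2]
    · simp [hE.vQ _ k e1]
  · simp [(hE.even g hg ho).2.2]

namespace GD

variable (h : GD q r s p c)
include h

theorem pos_S (hχ : IsDirr ⊤ χ) {z n : ℤ} (hz : χ 1 = z) (hn : χ c.t = n) : 0 ≤ z * (z + 7 * n) := by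
  have key : ∀ χ, IsIrr ⊤ χ → ∀ z n : ℤ, χ 1 = z → χ c.t = n → 0 ≤ z * (z + 7 * n) := by
    intro χ hχ z n hz hn
    have hc : ∀ x ∈ c.S, ∀ y ∈ c.S, x * y = y * x := fun x hx y hy => mem_cent1'.1 (h.S_comm hx hy)
    have h1 := (apply_of_cfdot (φ := χ) (κ := n) hc (fun ρ hρ h1 => cfdot_const (hρ.isLin_of_comm hc)
      h1 fun x hx h2 => by
        obtain ⟨g, rfl⟩ := h.conj_t (inv_of_mul_self (h.sq_S hx) h2)
        rw [CF_conj hχ.mem_CF (mem_top g), hn]) c.S.one_mem).2 rfl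
    obtain ⟨k, hk⟩ := (hχ.isChar.cfRes le_top).cfdot_nat (isIrr_cf1 c.S).isChar
    obtain ⟨m, -, hm⟩ := hχ.exists_nat_one
    rw [cfdot_cfRes_left] at hk
    rw [hz, hk, h.card_S] at h1
    have h2 : z = n + 8 * (k - n) := by exact_mod_cast h1
    have h3 : z = m := by exact_mod_cast hz.symm.trans hm
    exact mul_nonneg (by omega) (by omega)
  rcases hχ with k | k
  · exact key χ k z n hz hn
  · have := key _ k (-z) (-n) (by simp [hz]) (by simp [hn])
    linarith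

theorem card_eq : Nat.card G = 8 * (q.natAbs * r.natAbs * s.natAbs) * (𝐂[c.t]).index := by
  rw [← h.card_ct, card_mul_index]

theorem odd_cent {k : ℕ} (hk : k ∣ orderOf x) (hn : ¬ k ∣ Nat.card 𝐂[c.t]) :
    Odd (Nat.card 𝐂[x]) := odd_card_of_forall fun a ha ho => by
  obtain ⟨g, rfl⟩ := h.conj_t ho
  have := orderOf_dvd_card_of_mem (mem_cent1_comm.1 ha)
  rw [cent1_conj, card_map_conj] at this
  exact hn (hk.trans this)

end GD

theorem GD.exists35 (h : GD 5 1 3 p c) (hG : Nat.card G = 189000) :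
    ∃ x g : G, orderOf x = 7 ∧ orderOf g = 5 ∧ x * g = g * x := by
  have : Fact (Nat.Prime 7) := ⟨by norm_num⟩
  have : Fact (Nat.Prime 5) := ⟨by norm_num⟩
  obtain ⟨P⟩ : Nonempty (Sylow 7 G) := inferInstance
  have h1 : Nat.card P = 7 := by
    rw [P.card_eq_multiplicity, hG, show 189000 = 7 ^ 1 * 27000 by norm_num,
      Nat.factorization_mul (by norm_num) (by norm_num), Nat.Prime.factorization_pow (by norm_num)]
    simp [Nat.factorization_eq_zero_of_not_dvd (show ¬ 7 ∣ 27000 by norm_num)]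
  obtain ⟨x, hx, e⟩ := H4.exists_zpowers_eq_of_card_prime h1
  have h2 : Odd (Nat.card 𝐂((P : Subgroup G))) := by
    rw [← e, U4.cent_zpowers]
    exact h.odd_cent hx.symm.dvd (by rw [h.card_ct]; norm_num)
  by_cases h5 : 5 ∣ Nat.card 𝐂((P : Subgroup G))
  · obtain ⟨g, hg⟩ := exists_prime_orderOf_dvd_card' 5 h5
    exact ⟨x, g, hx, by rwa [orderOf_coe], mem_cent.1 g.2 x (e ▸ mem_zpowers x)⟩
  have h3 := relIndex_cent_prime_dvd le_rfl h1
  have h4 := card_mul_index 𝐍((P : Subgroup G))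
  have h6 := card_sylow_modEq_one 7 G
  have h7 : 7 ∣ Nat.card 𝐂((P : Subgroup G)) := by
    refine h1.symm.dvd.trans (card_dvd_of_le ?_)
    rw [← e, U4.cent_zpowers]; exact zpowers_le_cent1 x
  rw [P.card_eq_index_normalizer] at h6
  change (𝐍((P : Subgroup G))).index ≡ 1 [MOD 7] at h6
  rw [← card_mul_relIndex (U4.cent_le_norm _), hG] at h4
  have := h.isSimple
  refine absurd (PCompl.hnpc_of_normalizer_le_centralizer P (relIndex_eq_one.1 ?_))
    (H4.not_hnpc_of_simple Nat.prime_two (by norm_num) (by rw [hG]; norm_num) (by rw [hG]; norm_num))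
  obtain ⟨k, hk⟩ := h7
  rw [hk] at h2 h4 h5
  have h8 : k ∣ 27 := (show k.Coprime ((2 * 5) ^ 3) from (Nat.Coprime.mul_right
    (Nat.coprime_two_right.2 (Nat.odd_mul.1 h2).2) (Nat.prime_five.coprime_iff_not_dvd.2
      fun e => h5 (e.mul_left _)).symm).pow_right _).dvd_of_dvd_mul_left ⟨_, Nat.eq_of_mul_eq_mul_left
        (show 0 < 7 by norm_num) (by rw [mul_assoc, mul_assoc] at h4; rw [h4]; rfl)⟩
  unfold Nat.ModEq at h6
  generalize relIndex (G := G) _ _ = e at h3 h4 ⊢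
  have := Nat.le_of_dvd (by norm_num) h8
  have := Nat.le_of_dvd (by norm_num) h3
  interval_cases k <;> interval_cases e <;> omega

theorem GD.five (h : GD 5 1 3 p c) : Nat.card G = 175560 := by
  obtain ⟨a, b, e, hE⟩ := h.exists_lc
  obtain ⟨l, hl⟩ := exists_lat (mem_top c.t) h.ot
  have hc : Nat.card G = 120 * (𝐂[c.t]).index := h.card_eq
  have h7 := h.seven_dvd
  have ho := Nat.odd_iff.1 h.odd
  obtain k | ⟨k, e0, e3, f3, d, k1, k2, u0, u3, u3', z0, z3, z3'⟩ :=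
    (h.sec hE.toEta hE.toEta hl).five (by omega)
      fun ξ hξ => h.pos_S (hl.dirr hξ) (hl.z ξ) (hl.n ξ)
  · omega
  have hG : Nat.card G = 189000 := by omega
  obtain ⟨x, g, ox, og, hxg⟩ := h.exists35 hG
  have d1 : ∀ u : ℂ →+* ℂ, cfAut u e0.1 = e0 := fun u => by
    have k3 : ∀ v : ZIrr (⊤ : Subgroup G), cfAut u v.1 = v →
        l.B ⟨_, ZIrr_cfAut e0.2 u⟩ v = l.B e0 v := fun v hv =>
      hl.B_eq (by rw [← hl.B, ← cfdot_cfAut_ZIrr u e0.2 v.2, hv])
    have k4 : l.B ⟨_, ZIrr_cfAut e0.2 u⟩ ⟨_, ZIrr_cfAut e0.2 u⟩ = 1 :=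
      hl.B_eq (by rw [cfdot_cfAut_ZIrr u e0.2 e0.2, hl.B, u0])
    have k5 : l.z ⟨_, ZIrr_cfAut e0.2 u⟩ = -15 := hl.z_eq ((ZIrr_cfAut_one e0.2 u).trans (z0 ▸ hl.z e0))
    have k6 := k3 ⟨_, cf1_mem_ZIrr⟩ (cfAut_cf1 u)
    have k7 := k3 ⟨_, h.al_mem hE.ose⟩ (by
      simp only [al, cfInd_cfAut]
      congr 1
      ext y
      rw [cfAut_apply, tr, ← cfAut_apply, cfAut_smul, cfAut_sub, cfAut_cf1, h.e_aut hE, map_ofNat])
    refine congrArg Subtype.val (l.eq_of_one k4 u0 ?_)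
    generalize (⟨_, ZIrr_cfAut e0.2 u⟩ : ZIrr (⊤ : Subgroup G)) = v at k4 k5 k6 k7 ⊢
    have k8 : ∀ f, l.B f f = 1 → l.z f ≠ 15 → l.z f ≠ -15 → l.B v f = 0 := fun f h1 h2 h3 => by
      rcases l.cases k4 h1 with rfl | rfl | e
      · omega
      · rw [map_neg] at k5; omega
      · exact e
    rw [k2, d] at k7
    simp only [map_add, map_sub, map_neg, AddMonoidHom.add_apply, AddMonoidHom.sub_apply, AddMonoidHom.neg_apply, k6, k1, k8 e3 u3 (by omega) (by omega), k8 f3 u3' (by omega) (by omega)] at k7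
    omega
  have d2 : ∀ y ∈ zpowers g, y ≠ 1 → e0.1 y = e0.1 g := fun y hy h1 => by
    obtain ⟨k, rfl⟩ := (mem_powers_iff_mem_zpowers.2 hy)
    obtain ⟨u, -, hu, -⟩ := make_pi_cfAut G (a := 5) (k := k) (by norm_num)
      (Nat.prime_five.coprime_iff_not_dvd.2 fun e => h1 (orderOf_dvd_iff_pow_eq_one.1
        (og ▸ e))).symm
    exact (hu ⊤ _ e0.2 g og.dvd).symm.trans (congrFun (d1 u) g)
  have d3 : ∀ y : G, 7 ∣ orderOf y → e0.1 y = -1 := fun y hy => by
    have k3 := fun ξ hξ z hz => defect_zero (X := ⊤) (χ := ξ) (z := z) (m := 27000) (by norm_num)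
      (by rw [card_top, hG]) (by norm_num) hξ hz hy
    have k4 := congrArg (fun v : ZIrr (⊤ : Subgroup G) => v.1 y) d
    simp only [AddSubgroupClass.coe_sub, AddMemClass.coe_add, Pi.sub_apply, Pi.add_apply,
      k3 _ (hl.dirr u3) 3 (by rw [hl.z, z3]; norm_num),
      k3 _ (hl.dirr u3') (-5) (by rw [hl.z, z3']; norm_num), cf1_apply (mem_top y),
      h.al_odd hE.ose (odd_orderOf_of_mem (h.odd_cent hy (by rw [h.card_ct]; norm_num))
        (self_mem_cent1 y))] at k4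
    linear_combination -k4
  have cg := comm_of_isCyclic (L := zpowers g) inferInstance
  have cx := comm_of_isCyclic (L := zpowers x) inferInstance
  have hd : DProdIn (zpowers x) (zpowers g) (zpowers x ⊔ zpowers g) := dprodIn_of_sup rfl
    (disjoint_of_coprime_natCard (by
      rw [Nat.card_zpowers, Nat.card_zpowers, ox, og]; norm_num)).eq_bot
    fun a ha b hb => mem_cent1.1 (cent1_le_cent1 hb (zpowers_le.2 (mem_cent1.2 hxg) ha))
  have int : ∀ (H : Subgroup G) (ψ : G → ℂ), ψ ∈ ZIrr H → ∃ n : ℤ, cfdot H e0 ψ = n :=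
    fun H ψ hψ => by
      simpa only [cfdot_cfRes_left] using ZIrr_cfdot_int (ZIrr_cfRes le_top e0.2) hψ
  obtain ⟨ρ, hρ, ρ1⟩ := exists_irr_ne (R := zpowers g) (by
    rw [Ne, zpowers_eq_bot]; rintro rfl; simp at og)
  obtain ⟨β, hβ⟩ := int _ _ (sub_mem cf1_mem_ZIrr hρ.mem_ZIrr)
  obtain ⟨n, hn⟩ := int _ _ (cf1_mem_ZIrr (L := zpowers g))
  obtain ⟨m, hm⟩ := int _ _ (hd.mem_ZIrr cf1_mem_ZIrr (sub_mem cf1_mem_ZIrr hρ.mem_ZIrr))
  have d4 := (apply_of_cfdot cg (fun ρ h1 h2 => cfdot_const (h1.isLin_of_comm cg) h2 d2)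
    (one_mem _)).2 rfl
  have d5 := (cfdot_const (hρ.isLin_of_comm cg) ρ1 d2).symm.trans hβ
  rw [cfdot_prod hd.compl] at hm
  have d6 := (apply_of_cfdot cx (fun μ h1 h2 => cfdot_const (κ := -1)
    (φ := fun v => cfdot (zpowers g) (tr v e0) (cf1 (zpowers g) - ρ)) (h1.isLin_of_comm cx) h2
      fun v hv v1 => cfdot_const (hρ.isLin_of_comm cg) ρ1 fun y hy _ => d3 _ (by
        have k3 := orderOf_dvd_card_of_mem hv
        have k4 := orderOf_dvd_card_of_mem hy
        rw [Nat.card_zpowers, ox] at k3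
        rw [Nat.card_zpowers, og] at k4
        rw [Commute.orderOf_mul_eq_mul_orderOf_of_coprime (hd.comm v hv y hy)
          (Nat.Coprime.coprime_dvd_left k3 (Nat.Coprime.coprime_dvd_right k4 (by norm_num))),
          ((Nat.dvd_prime (by norm_num)).1 k3).resolve_left (mt orderOf_eq_one_iff.1 v1)]
        exact dvd_mul_right _ _)) (one_mem _)).2 rfl
  rw [hm, show tr 1 e0.1 = e0 by ext; simp [tr], hβ, Nat.card_zpowers, ox] at d6
  rw [hn, d5, hl.z, z0, Nat.card_zpowers, og] at d4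
  have d7 : β = -1 + 7 * (m + 1) := Int.cast_injective (α := ℂ) (by rw [d6]; simp)
  have d8 : -15 = β + 5 * (n - β) := by exact_mod_cast d4
  have hχ : IsIrr ⊤ (-e0.1) := (hl.dirr u0).resolve_left fun k => by
    obtain ⟨n, -, hn⟩ := k.exists_nat_one
    have : (-15 : ℤ) = n := by exact_mod_cast (z0 ▸ hl.z e0).symm.trans hn
    omega
  have d9 := hχ.isChar.norm_le g
  rw [Pi.neg_apply, Pi.neg_apply, d5, hl.z, z0, norm_neg, norm_neg, Complex.norm_intCast,
    Complex.norm_intCast, ← Int.cast_abs, ← Int.cast_abs, Int.cast_le, abs_le] at d9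
  have d10 : g ∈ cfker ⊤ (-e0.1) := hχ.isChar.mem_cfker.2 ⟨mem_top g, by
    rw [Pi.neg_apply, Pi.neg_apply, d5, hl.z, z0, show β = -15 by norm_num at d9; omega]⟩
  have := h.isSimple
  rcases normalizer_eq_top_iff.1 (top_le_iff.1 (cfker_normal hχ.mem_CF)) |>.eq_bot_or_eq_top
    with k3 | k3
  · rw [k3, mem_bot] at d10
    simp [d10] at og
  · have := congrFun (hχ.eq_cf1_iff.2 k3.ge) 1
    rw [Pi.neg_apply, hl.z, z0, cf1_apply (mem_top _)] at this
    norm_num at this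

end CfsgLib.JR
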