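import Cfsg.Agent.Lib.JR.Hyp
import Cfsg.Agent.Lib.JR.Five

/-!
# Groups of Janko–Ree type: the order
-/

set_option autoImplicit false
set_option linter.unusedSimpArgs false
set_option linter.unusedSectionVars false

namespace CfsgLib.JR

open Subgroup

variable {G : Type*} [Group G] {q r s : ℤ} {p : ℕ} {c : Cfg G}

theorem GD.cases [Fintype G] (h : GD q r s p c) : (q = 5 ∧ Nat.card G = 175560) ∨
    ∃ n : ℕ, 1 ≤ n ∧ q = -3 ^ (2 * n + 1) ∧
      Nat.card G = q.natAbs ^ 3 * (q.natAbs ^ 3 + 1) * (q.natAbs - 1) := by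
  have h1 := h.r_mod
  have hq := h.hq
  have hs := h.hs
  have := h.rne
  rcases (by omega : r = 1 ∨ 7 ≤ r.natAbs) with rfl | h7
  · subst q s; exact Or.inl ⟨rfl, GD.five h⟩
  obtain ⟨⟨n, h2, h3⟩, h4⟩ := h.big (by rw [Int.abs_eq_natAbs]; omega)
  refine Or.inr ⟨n, h2, h3, ?_⟩
  have h5 : q < 0 := by rw [h3]; exact neg_neg_of_pos (by positivity)
  have h6 := h.card_eq
  zify [show 1 ≤ q.natAbs by omega] at h6 ⊢
  rw [h6, h4, abs_of_neg h5, abs_of_neg (by omega : r < 0), abs_of_neg (by omega : s < 0), hq, hs]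
  ring

universe u

variable {G : Type u} [Group G] [Finite G] {t : G} {L : Subgroup G} {q : ℕ}

/-- Janko–Thompson–Ward: the order of `G`. -/
theorem Hyp.card (h : Hyp t L q) :
    (q = 5 ∧ Nat.card G = 175560) ∨
    ∃ n : ℕ, 1 ≤ n ∧ q = 3 ^ (2 * n + 1) ∧ Nat.card G = q ^ 3 * (q ^ 3 + 1) * (q - 1) := by
  have := Fintype.ofFinite G
  obtain ⟨q', r, s, p, c, h1, rfl, -⟩ := h.exists_gd
  refine h1.cases.imp (fun ⟨k1, k2⟩ => ⟨by rw [k1]; rfl, k2⟩) fun ⟨n, k1, k2, k3⟩ => ⟨n, k1, ?_, k3⟩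
  rw [k2, Int.natAbs_neg, Int.natAbs_pow]; rfl

end CfsgLib.JR
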