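import Cfsg.Agent.Lib.GW.Basic

/-!
# Groups of Janko–Ree type: the local data of `PSL₂(q)`

`q` is taken with the sign making `q ≡ 5 (mod 8)`, `r = (q - 1) / 4`, `s = (q + 1) / 2`.
-/

set_option autoImplicit false

namespace CfsgLib.JR

open Subgroup Cfsg CfsgLib.FT CfsgLib.FT.BGN CfsgLib.FT.U4 CfsgLib.GW

variable {G : Type*} [Group G]

/-- The numerical parameters. -/
structure Par (q r s : ℤ) (p : ℕ) : Prop where
  hq : q = 4 * r + 1
  hs : s = 2 * r + 1
  oddr : Odd r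
  rne : r ≠ -1
  pp : p.Prime
  qp : ∃ f, q.natAbs = p ^ f

/-- The configuration: an involution `t`, `C(t) = ⟨t⟩ × L`, a four-group `⟨u, v⟩` of `L`, the tori
`⟨u⟩ × R` and `T`, and a Sylow `p`-subgroup `Q` of `L`. -/
structure Cfg (G : Type*) [Group G] where
  t : G
  u : G
  v : G
  L : Subgroup G
  R : Subgroup G
  T : Subgroup G
  Q : Subgroup G

/-- Image of a configuration. -/
def Cfg.map {X : Type*} [Group X] (c : Cfg G) (f : G →* X) : Cfg X :=
  ⟨f c.t, f c.u, f c.v, c.L.map f, c.R.map f, c.T.map f, c.Q.map f⟩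

/-- Conjugate of a configuration. -/
def Cfg.conj (c : Cfg G) (g : G) : Cfg G :=
  ⟨g * c.t * g⁻¹, g * c.u * g⁻¹, g * c.v * g⁻¹, g •ᶜ c.L, g •ᶜ c.R, g •ᶜ c.T, g •ᶜ c.Q⟩

/-- The structure of `L ≅ PSL₂(q)`. -/
structure LD (q r s : ℤ) (p : ℕ) (c : Cfg G) : Prop extends Par q r s p where
  card : Nat.card c.L = 4 * q.natAbs * r.natAbs * s.natAbs
  four : Four c.u c.v
  uL : c.u ∈ c.L
  vL : c.v ∈ c.L
  one : OneCl c.L
  RL : c.R ≤ c.L
  cycR : IsCyclic c.R
  cardR : Nat.card c.R = r.natAbs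
  uR : ∀ x ∈ c.R, x * c.u = c.u * x
  vR : Inverts c.v c.R
  centu : ∀ g ∈ c.L, g * c.u = c.u * g →
    g ∈ c.R ∨ c.u * g ∈ c.R ∨ c.v * g ∈ c.R ∨ c.u * c.v * g ∈ c.R
  centR : ∀ x ∈ c.R, x ≠ 1 → ∀ g ∈ c.L, g * x = x * g → g ∈ c.R ∨ c.u * g ∈ c.R
  TL : c.T ≤ c.L
  cycT : IsCyclic c.T
  cardT : Nat.card c.T = s.natAbs
  uT : Inverts c.u c.T
  centT : ∀ y ∈ c.T, y ≠ 1 → ∀ g ∈ c.L, g * y = y * g → g ∈ c.T
  normT : ∀ g ∈ c.L, g ∈ 𝐍(c.T) → g ∈ c.T ∨ c.u * g ∈ c.T
  QL : c.Q ≤ c.L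
  cardQ : Nat.card c.Q = q.natAbs
  commQ : ∀ x ∈ c.Q, ∀ y ∈ c.Q, x * y = y * x
  centQ : ∀ x ∈ c.Q, x ≠ 1 → ∀ g ∈ c.L, g * x = x * g → g ∈ c.Q
  TQ : q < 0 → c.T ≤ 𝐍(c.Q)
  normQ : q < 0 → ∀ g ∈ c.L, g ∈ 𝐍(c.Q) → g ∈ c.Q ⊔ c.T
  simple : IsSimpleGroup c.L

/-- The structure of `G`. -/
structure GD (q r s : ℤ) (p : ℕ) (c : Cfg G) : Prop extends LD q r s p c where
  ot : orderOf c.t = 2
  comm : ∀ x ∈ c.L, x * c.t = c.t * x
  tL : c.t ∉ c.L
  cent : ∀ g : G, g * c.t = c.t * g → g ∈ c.L ∨ c.t * g ∈ c.L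
  odd : Odd (𝐂[c.t]).index
  noIdx : ∀ H : Subgroup G, H.index ≠ 2

variable {q r s : ℤ} {p : ℕ} {c : Cfg G}

theorem mem_norm_map {X : Type*} [Group X] {f : G →* X} (hf : Function.Injective f)
    {H : Subgroup G} {g : G} : f g ∈ 𝐍(H.map f) ↔ g ∈ 𝐍(H) := by
  simp only [mem_normalizer_iff]
  constructor
  · intro h x
    have := h (f x)
    rwa [← map_inv, ← map_mul, ← map_mul, mem_map_iff_mem hf, mem_map_iff_mem hf] at this
  · intro h y
    constructor
    · rintro ⟨x, hx, rfl⟩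
      rw [← map_inv, ← map_mul, ← map_mul, mem_map_iff_mem hf]
      exact (h x).1 hx
    · rintro ⟨x, hx, e⟩
      have : y = f (g⁻¹ * x * g) := by simp [e, mul_assoc]
      rw [this, mem_map_iff_mem hf, h]
      simpa [mul_assoc] using hx

theorem LD.map {X : Type*} [Group X] (h : LD q r s p c) (f : G →* X)
    (hf : Function.Injective f) : LD q r s p (c.map f) where
  toPar := h.toPar
  card := by rw [← h.card]; exact card_map_of_injective hf
  four := h.four.map f (by simpa [map_eq_one_iff f hf] using h.four.t1)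
    (by simpa [map_eq_one_iff f hf] using h.four.s1)
    (by rw [Ne, map_eq_one_iff f hf]; exact h.four.ts1)
  uL := mem_map_of_mem f h.uL
  vL := mem_map_of_mem f h.vL
  one := by
    rintro _ ⟨a, ha, rfl⟩ _ ⟨b, hb, rfl⟩ h1 h2
    rw [orderOf_injective f hf] at h1 h2
    obtain ⟨g, hg, e⟩ := h.one a ha b hb h1 h2
    exact ⟨f g, mem_map_of_mem f hg, by rw [← e]; simp⟩
  RL := map_mono h.RL
  cycR := by
    have := h.cycR
    exact isCyclic_of_surjective _ (c.R.equivMapOfInjective f hf).surjective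
  cardR := by rw [← h.cardR]; exact card_map_of_injective hf
  uR := by
    rintro _ ⟨x, hx, rfl⟩
    simp only [Cfg.map, ← map_mul, h.uR x hx]
  vR := by
    rintro _ ⟨x, hx, rfl⟩
    simp only [Cfg.map, ← map_mul, ← map_inv, h.vR x hx]
  centu := by
    rintro _ ⟨g, hg, rfl⟩ e
    simp only [Cfg.map, ← map_mul, mem_map_iff_mem hf] at e ⊢
    exact h.centu g hg (hf e)
  centR := by
    rintro _ ⟨x, hx, rfl⟩ h1 _ ⟨g, hg, rfl⟩ e
    simp only [Cfg.map, ← map_mul, mem_map_iff_mem hf] at e ⊢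
    exact h.centR x hx (fun e => h1 (by simp [e])) g hg (hf e)
  TL := map_mono h.TL
  cycT := by
    have := h.cycT
    exact isCyclic_of_surjective _ (c.T.equivMapOfInjective f hf).surjective
  cardT := by rw [← h.cardT]; exact card_map_of_injective hf
  uT := by
    rintro _ ⟨x, hx, rfl⟩
    simp only [Cfg.map, ← map_mul, ← map_inv, h.uT x hx]
  centT := by
    rintro _ ⟨x, hx, rfl⟩ h1 _ ⟨g, hg, rfl⟩ e
    simp only [Cfg.map, ← map_mul, mem_map_iff_mem hf] at e ⊢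
    exact h.centT x hx (fun e => h1 (by simp [e])) g hg (hf e)
  normT := by
    rintro _ ⟨g, hg, rfl⟩ e
    simp only [Cfg.map, ← map_mul, mem_map_iff_mem hf, mem_norm_map hf] at e ⊢
    exact h.normT g hg e
  QL := map_mono h.QL
  cardQ := by rw [← h.cardQ]; exact card_map_of_injective hf
  commQ := by
    rintro _ ⟨x, hx, rfl⟩ _ ⟨y, hy, rfl⟩
    simp only [← map_mul, h.commQ x hx y hy]
  centQ := by
    rintro _ ⟨x, hx, rfl⟩ h1 _ ⟨g, hg, rfl⟩ e
    simp only [Cfg.map, ← map_mul, mem_map_iff_mem hf] at e ⊢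
    exact h.centQ x hx (fun e => h1 (by simp [e])) g hg (hf e)
  TQ := by
    rintro hq _ ⟨y, hy, rfl⟩
    exact (mem_norm_map hf).2 (h.TQ hq hy)
  normQ := by
    rintro hq _ ⟨g, hg, rfl⟩ e
    simp only [Cfg.map, mem_norm_map hf, ← Subgroup.map_sup, mem_map_iff_mem hf] at e ⊢
    exact h.normQ hq g hg e
  simple := by
    have := h.simple
    exact (c.L.equivMapOfInjective f hf).symm.isSimpleGroup

theorem LD.conj (h : LD q r s p c) (g : G) : LD q r s p (c.conj g) :=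
  h.map (MulAut.conj g).toMonoidHom (MulAut.conj g).injective

theorem GD.conj (h : GD q r s p c) (g : G) : GD q r s p (c.conj g) where
  toLD := h.toLD.conj g
  ot := by simp only [Cfg.conj]; rw [orderOf_conj, h.ot]
  comm := by
    rintro _ ⟨x, hx, rfl⟩
    have := h.comm x hx
    simp only [Cfg.conj, MulEquiv.coe_toMonoidHom, MulAut.conj_apply]
    calc g * x * g⁻¹ * (g * c.t * g⁻¹) = g * (x * c.t) * g⁻¹ := by group
      _ = _ := by rw [this]; group
  tL := by simpa only [Cfg.conj, conj_mem_conj_iff] using h.tL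
  cent := by
    intro x e
    simp only [Cfg.conj] at e ⊢
    have := h.cent (g⁻¹ * x * g) (by
      calc g⁻¹ * x * g * c.t = g⁻¹ * (x * (g * c.t * g⁻¹)) * g := by group
        _ = _ := by rw [e]; group)
    rw [← conj_mem_conj_iff (g := g), ← conj_mem_conj_iff (g := g) (x := c.t * _)] at this
    simpa [mul_assoc] using this
  odd := by
    simp only [Cfg.conj]
    rw [cent1_conj, index_map_of_bijective (MulAut.conj g).bijective]
    exact h.odd
  noIdx := h.noIdx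

namespace Par

variable (h : Par q r s p)
include h

theorem r_ne : r ≠ 0 := fun e => by simpa [e] using h.oddr
theorem q_ne : q ≠ 0 := by have := h.hq; omega
theorem s_ne : s ≠ 0 := by have := h.hs; omega
theorem odd_q : Odd q := ⟨2 * r, by rw [h.hq]; ring⟩
theorem odd_s : Odd s := ⟨r, h.hs⟩
theorem odd_r' : Odd r.natAbs := Int.natAbs_odd.2 h.oddr
theorem odd_q' : Odd q.natAbs := Int.natAbs_odd.2 h.odd_q
theorem odd_s' : Odd s.natAbs := Int.natAbs_odd.2 h.odd_s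
theorem r_cases : 1 ≤ r ∨ r ≤ -3 := by
  have := h.rne; obtain ⟨k, hk⟩ := h.oddr; omega
theorem five_le : 5 ≤ q.natAbs := by have := h.r_cases; have := h.hq; omega
theorem three_le : 3 ≤ s.natAbs := by have := h.r_cases; have := h.hs; omega
theorem cop_qr : q.natAbs.Coprime r.natAbs := by
  rw [← Int.isCoprime_iff_nat_coprime]; exact ⟨1, -4, by rw [h.hq]; ring⟩
theorem cop_sr : s.natAbs.Coprime r.natAbs := by
  rw [← Int.isCoprime_iff_nat_coprime]; exact ⟨1, -2, by rw [h.hs]; ring⟩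
theorem cop_qs : q.natAbs.Coprime s.natAbs := by
  rw [← Int.isCoprime_iff_nat_coprime]; exact ⟨-1, 2, by rw [h.hq, h.hs]; ring⟩
theorem p_dvd : p ∣ q.natAbs := by
  obtain ⟨f, hf⟩ := h.qp
  have := h.five_le
  rw [hf] at this ⊢
  exact dvd_pow_self p (by rintro rfl; simp at this)
theorem eq_p {k : ℕ} (hk : k.Prime) (hd : k ∣ q.natAbs) : k = p := by
  obtain ⟨f, hf⟩ := h.qp
  exact (Nat.prime_dvd_prime_iff_eq hk h.pp).1 (hk.dvd_of_dvd_pow (hf ▸ hd))
theorem p_ne_two : p ≠ 2 := by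
  rintro rfl
  exact (Nat.not_even_iff_odd.2 h.odd_q') (even_iff_two_dvd.2 h.p_dvd)
theorem qr_pos : 0 < q * r := by
  have := h.hq; rcases h.r_cases with _ | _ <;> nlinarith
theorem qs_pos : 0 < q * s := by
  have := h.hq; have := h.hs; rcases h.r_cases with _ | _ <;> nlinarith
theorem rs_pos : 0 < r * s := by
  have := h.hs; rcases h.r_cases with _ | _ <;> nlinarith

end Par

end CfsgLib.JR
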