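import Cfsg.Agent.Lib.JR.LBasic
import Cfsg.Agent.Lib.ClassSize2

/-!
# Fusion of involutions and simplicity
-/

set_option autoImplicit false
set_option linter.unusedSimpArgs false
set_option linter.unusedSectionVars false

namespace CfsgLib.JR

open Subgroup Cfsg CfsgLib.FT CfsgLib.FT.BGN CfsgLib.FT.U4 CfsgLib.GW

variable {G : Type*} [Group G] [Finite G] {q r s : ℤ} {p : ℕ} {c : Cfg G} {a b g n x y : G}
  {H M N P : Subgroup G}

/-- A Sylow `2`-subgroup. -/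
def Cfg.S (c : Cfg G) : Subgroup G := V c.u c.v ⊔ zpowers c.t

/-- The abelian group `⟨t, u⟩ × R`. -/
def Cfg.W (c : Cfg G) : Subgroup G := c.K ⊔ zpowers c.t

theorem exists_norm_conj {k : ℕ} [Fact k.Prime] (hS : IsSylowIn k P M) (ha : P ≤ 𝐂[a])
    (hb : P ≤ 𝐂[b]) (hg : g ∈ M) (e : g * a * g⁻¹ = b) : ∃ n ∈ M ⊓ 𝐍(P), n * a * n⁻¹ = b := by
  have h1 : IsSylowIn k P (M ⊓ 𝐂[b]) := hS.mono (le_inf hS.le hb) inf_le_left
  have h2 : IsSylowIn k (g •ᶜ P) (M ⊓ 𝐂[b]) := by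
    refine (hS.map_conj_of_mem_normalizer (le_normalizer hg)).mono (le_inf ?_ ?_) inf_le_left
    · rw [← conj_eq_of_mem hg]; exact map_mono hS.le
    · rw [← e, cent1_conj]; exact map_mono ha
  obtain ⟨z, hz, e2⟩ := h1.exists_conj_eq h2
  refine ⟨z * g, ⟨mul_mem hz.1 hg, mem_normalizer_of_map_conj_eq ?_⟩, ?_⟩
  · rw [map_conj_mul, e2]
  · rw [show z * g * a * (z * g)⁻¹ = z * (g * a * g⁻¹) * z⁻¹ by group, e, conj_eq_of_mem_cent1 hz.2]

omit [Finite G] in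
theorem conj_pow_odd {m : ℕ} (hm : Odd m) (h : n * n * a * (n * n)⁻¹ = a) :
    n ^ m * a * (n ^ m)⁻¹ = n * a * n⁻¹ := by
  obtain ⟨k, rfl⟩ := hm
  have := conj_eq_of_mem_cent1 (pow_mem (mem_cent1_of_conj_eq h) k)
  rw [pow_succ', pow_mul, sq]
  calc _ = n * ((n * n) ^ k * a * ((n * n) ^ k)⁻¹) * n⁻¹ := by group
    _ = _ := by rw [this]

omit [Finite G] in
theorem isPGroup_of_mul_self (h : a * a = 1) : IsPGroup 2 (zpowers a) := by
  by_cases e : a = 1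
  · rw [e, zpowers_one_eq_bot]; exact IsPGroup.of_bot
  · exact isPGroup_zpowers (inv_of_mul_self h e)

omit [Finite G] in
theorem mem_norm_sup (h1 : g ∈ 𝐍(H)) (h2 : g ∈ 𝐍(M)) : g ∈ 𝐍(H ⊔ M) :=
  normalizer_inf_normalizer_le_normalizer_sup H M ⟨h1, h2⟩

theorem exists_core (H M : Subgroup G) : ∃ K : Subgroup G, K ≤ H ∧ M ≤ 𝐍(K) ∧
    K.relIndex M ∣ (H.relIndex M).factorial := by
  have h : (H.subgroupOf M).normalCore.index ∣ (H.subgroupOf M).index.factorial := by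
    rw [normalCore_eq_ker, index_ker, index_eq_card, ← Nat.card_perm]
    exact card_subgroup_dvd_card (MulAction.toPermHom M (M ⧸ H.subgroupOf M)).range
  refine ⟨(H.subgroupOf M).normalCore.map M.subtype, ?_, ?_, ?_⟩
  · rintro _ ⟨x, hx, rfl⟩; exact normalCore_le (H.subgroupOf M) hx
  · intro g hg
    refine mem_norm_of ?_
    rintro _ ⟨x, hx, rfl⟩
    exact ⟨_, (normalCore_normal _).conj_mem x hx ⟨g, hg⟩, rfl⟩
  · rwa [relIndex, subgroupOf, comap_map_eq_self_of_injective M.subtype_injective]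

namespace GD

variable (h : GD q r s p c)
include h

theorem tt : c.t * c.t = 1 := mul_self_of_inv h.ot

theorem L_le : c.L ≤ 𝐂[c.t] := fun x hx => mem_cent1.2 (h.comm x hx)

theorem mem_ct : g ∈ 𝐂[c.t] ↔ g ∈ c.L ∨ c.t * g ∈ c.L := by
  refine ⟨fun hg => h.cent g (mem_cent1.1 hg), fun hg => hg.elim (fun e => h.L_le e) fun e => ?_⟩
  exact (mul_mem_cancel_left (self_mem_cent1 _)).1 (h.L_le e)

theorem t_norm (hH : H ≤ c.L) : c.t ∈ 𝐍(H) := mem_norm_of_comm fun x hx => h.comm x (hH hx)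

theorem ct_norm : 𝐂[c.t] ≤ 𝐍(c.L) := fun _ hg => (h.mem_ct.1 hg).elim (fun e => le_normalizer e)
  fun e => (mul_mem_cancel_left (h.t_norm le_rfl)).1 (le_normalizer e)

theorem idxL : c.L.relIndex 𝐂[c.t] = 2 :=
  relIndex_two (self_mem_cent1 _) h.tL fun _ hg => h.mem_ct.1 hg

theorem card_ct : Nat.card 𝐂[c.t] = 8 * (q.natAbs * r.natAbs * s.natAbs) := by
  rw [card_two h.L_le h.idxL, h.card]; ring

theorem mem_L_of_odd (hg : g ∈ 𝐂[c.t]) (ho : Odd (orderOf g)) : g ∈ c.L :=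
  (h.mem_ct.1 hg).elim id (mem_of_odd h.tt (mem_cent1.1 hg) ho)

theorem VL_le : V c.u c.v ≤ c.L := V_le h.uL h.vL

theorem mem_S : g ∈ c.S ↔ g ∈ V c.u c.v ∨ c.t * g ∈ V c.u c.v :=
  mem_sup_inv h.tt (h.t_norm h.VL_le)

theorem card_S : Nat.card c.S = 8 := by
  rw [Cfg.S, card_sup_inv h.tt (h.t_norm h.VL_le) fun e => h.tL (h.VL_le e), h.four.card_V]

theorem S_le : c.S ≤ 𝐂[c.t] := sup_le (h.VL_le.trans h.L_le) (zpowers_le_cent1 _)

theorem t_S : c.t ∈ c.S := mem_sup_right (mem_zpowers _)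
theorem u_S : c.u ∈ c.S := mem_sup_left (t_mem_V _ _)
theorem v_S : c.v ∈ c.S := mem_sup_left (s_mem_V _ _)

theorem sq_S (hg : g ∈ c.S) : g * g = 1 := by
  rcases h.mem_S.1 hg with e | e
  · exact h.four.mul_self_of_mem e
  · have := h.four.mul_self_of_mem e
    rwa [mul_assoc, ← mul_assoc g, mem_cent1.1 (h.S_le hg), ← mul_assoc, ← mul_assoc, h.tt,
      one_mul] at this

theorem sylow_S : IsSylowIn 2 c.S ⊤ := by
  refine ⟨le_top, IsPGroup.of_card (n := 3) h.card_S, ?_⟩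
  have h1 := card_mul_relIndex h.S_le
  rw [h.card_S, h.card_ct] at h1
  rw [relIndex_top_right, ← relIndex_mul_index h.S_le, Nat.eq_of_mul_eq_mul_left (by norm_num) h1,
    ← even_iff_two_dvd, Nat.not_even_iff_odd]
  exact ((h.odd_q'.mul h.odd_r').mul h.odd_s').mul h.odd

theorem two_sq (hP : IsPGroup 2 P) (hg : g ∈ P) : g * g = 1 := by
  obtain ⟨z, -, hz⟩ := h.sylow_S.exists_conj_le hP le_top
  have := h.sq_S (hz (conj_mem_conj_iff.2 hg))
  rwa [conj_mul, conj_eq_one_iff] at this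

theorem two_comm (hP : IsPGroup 2 P) (ha : a ∈ P) (hb : b ∈ P) : a * b = b * a := by
  have h1 := h.two_sq hP (mul_mem ha hb)
  rw [← eq_inv_iff_mul_eq_one, mul_inv_rev, ← eq_inv_iff_mul_eq_one.2 (h.two_sq hP ha),
    ← eq_inv_iff_mul_eq_one.2 (h.two_sq hP hb)] at h1
  exact h1

theorem S_comm (ha : a ∈ c.S) : c.S ≤ 𝐂[a] :=
  fun _ hb => mem_cent1.2 (h.two_comm h.sylow_S.isPGroup hb ha)

theorem odd_sq (g : G) : Odd (orderOf (g * g)) := by
  refine (odd_or_two_dvd _).resolve_right fun e => ?_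
  have h4 : 2 ^ 2 ∣ orderOf g := by
    rw [← sq, orderOf_pow] at e
    rcases (Nat.dvd_prime Nat.prime_two).1 (Nat.gcd_dvd_right (orderOf g) 2) with e1 | e1
    · rw [e1, Nat.div_one] at e
      have := Nat.dvd_gcd e (dvd_refl 2)
      omega
    · have := Nat.gcd_dvd_left (orderOf g) 2
      rw [e1] at e this
      omega
  obtain ⟨a, -, ha⟩ := exists_prime_pow h4
  have := h.two_sq (IsPGroup.of_card (n := 2) (by rw [Nat.card_zpowers, ha])) (mem_zpowers a)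
  have := orderOf_dvd_of_pow_eq_one (sq a ▸ this)
  rw [ha] at this
  omega

theorem cent_of_norm (hP : IsPGroup 2 P) (hn : n ∈ 𝐍(P)) (ha : a ∈ P)
    (h2 : n * n * a * (n * n)⁻¹ = a) : n * a * n⁻¹ = a := by
  rw [← conj_pow_odd (h.odd_sq n) h2]
  refine conj_eq_of_mem_cent1 (mem_cent1.2 (h.two_comm (H1.isPGroup_sup_of_le_normalizer
    (isPGroup_of_mul_self ?_) hP (zpowers_le.2 (pow_mem hn _))) (mem_sup_left (mem_zpowers _))
    (mem_sup_right ha)))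
  rw [← (Commute.refl n).mul_pow, pow_orderOf_eq_one]

theorem cyc_of_norm (h4 : Four a b) (hn : n ∈ 𝐍(V a b)) (e : n * a * n⁻¹ = b) :
    n * b * n⁻¹ = a * b := by
  rcases h4.mem_V.1 (norm_mem hn (s_mem_V a b)) with e1 | e1 | e1 | e1
  · exact absurd e1 (conj_ne_one_iff.2 h4.s1)
  · refine absurd (e ▸ h.cent_of_norm h4.isPGroup_V hn (t_mem_V a b) ?_).symm h4.ne
    rw [show n * n * a * (n * n)⁻¹ = n * (n * a * n⁻¹) * n⁻¹ by group, e, e1]
  · rw [← e1] at e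
    exact absurd (by simpa using e) h4.ne
  · exact e1

theorem fix_of_norm (h4 : Four a b) (hn : n ∈ 𝐍(V a b)) (e : n * a * n⁻¹ = a) :
    n ∈ 𝐂(V a b) := by
  rw [cent_V]
  refine ⟨mem_cent1_of_conj_eq e, mem_cent1_of_conj_eq ?_⟩
  rcases h4.mem_V.1 (norm_mem hn (s_mem_V a b)) with e1 | e1 | e1 | e1
  · exact absurd e1 (conj_ne_one_iff.2 h4.s1)
  · rw [← e] at e1
    exact absurd (by simpa using e1) h4.ne.symm
  · exact e1
  · refine h.cent_of_norm h4.isPGroup_V hn (s_mem_V a b) ?_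
    rw [show n * n * b * (n * n)⁻¹ = n * (n * b * n⁻¹) * n⁻¹ by group, e1, ← conj_mul, e, e1,
      ← mul_assoc, h4.tt, one_mul]

theorem conj_u (hN : 𝐂[c.t] ≤ N) (ha : a ∈ N) (ho : orderOf a = 2)
    (hf : ∀ f : N →* ℤˣ, f ⟨a, ha⟩ = 1) : ∃ g ∈ N, g * a * g⁻¹ = c.u := by
  have h1 : (c.L.subgroupOf N).index % 4 = 2 := by
    have := relIndex_mul_relIndex _ _ _ h.L_le hN
    have h2 := Nat.odd_iff.1 (h.odd.of_dvd_nat (relIndex_dvd_index_of_le hN))
    rw [h.idxL] at this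
    rw [← relIndex]; omega
  by_contra hc
  obtain ⟨f, e⟩ := H5.exists_hom_eq_neg_one_of_forall_conj_notMem h1 (t := ⟨a, ha⟩)
    (Subtype.ext (by simpa [sq] using mul_self_of_inv ho)) fun g hg => hc (by
      obtain ⟨z, hz, e⟩ := h.one _ (mem_subgroupOf.1 hg) _ h.uL (H5.orderOf_conj'' (g : G) a ▸ ho)
        h.ou
      exact ⟨z * (g : G)⁻¹, mul_mem (hN (h.L_le hz)) (inv_mem g.2), by rw [← e]; simp [mul_assoc]⟩)
  rw [hf] at e
  exact absurd e (by decide)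

theorem oneCl : OneCl (⊤ : Subgroup G) := by
  have key : ∀ a : G, orderOf a = 2 → ∃ g, g * a * g⁻¹ = c.u := fun a ha => by
    obtain ⟨g, -, e⟩ := h.conj_u le_top (mem_top a) ha fun f => by
      by_contra e
      refine h.noIdx (f.ker.map (⊤ : Subgroup G).subtype) ?_
      rw [index_map_subtype, index_top, mul_one, index_ker, MonoidHom.range_eq_top.2 fun z => ?_, card_top,
        Nat.card_eq_fintype_card, Fintype.card_units_int]
      rcases Int.units_eq_one_or z with rfl | rfl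
      · exact ⟨1, map_one _⟩
      · exact ⟨_, (Int.units_eq_one_or _).resolve_left e⟩
    exact ⟨g, e⟩
  intro a _ b _ ha hb
  obtain ⟨g, e⟩ := key a ha
  obtain ⟨z, e'⟩ := key b hb
  refine ⟨z⁻¹ * g, mem_top _, ?_⟩
  calc z⁻¹ * g * a * (z⁻¹ * g)⁻¹ = z⁻¹ * (g * a * g⁻¹) * z := by group
    _ = b := by rw [e, ← e']; group

theorem conj_t (ha : orderOf a = 2) : ∃ g, g * c.t * g⁻¹ = a :=
  let ⟨g, _, e⟩ := h.oneCl _ (mem_top _) a (mem_top _) h.ot ha; ⟨g, e⟩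

theorem four_tu : Four c.t c.u :=
  ⟨h.ot, h.ou, (h.comm _ h.uL).symm, fun e => h.tL (e ▸ h.uL)⟩

theorem le_of_norm (hn : c.L ≤ 𝐍(N)) (ha : a ∈ c.L) (ha' : a ∈ N) (h1 : a ≠ 1) : c.L ≤ N := by
  have := h.simple
  have h2 : c.L ≤ 𝐍(c.L ⊓ N) := fun g hg => mem_norm_of fun x hx =>
    ⟨cmem hg hx.1, norm_mem (hn hg) hx.2⟩
  rcases (normal_subgroupOf_of_le_normalizer h2).eq_bot_or_eq_top with e | e
  · rw [subgroupOf_eq_bot, disjoint_iff, inf_eq_left.2 inf_le_left] at e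
    exact absurd (e ▸ mem_inf.2 ⟨ha, ha'⟩ : a ∈ (⊥ : Subgroup G)) h1
  · exact (subgroupOf_eq_top.1 e).trans inf_le_right

theorem L_le_der : c.L ≤ ⁅c.L, c.L⁆ := by
  obtain ⟨y, hy, h1⟩ := exists_ne_one (H := c.T) fun e => by
    have := h.cardT; rw [e, card_bot] at this; have := h.three_le; omega
  refine h.le_of_norm (der_normal _) (h.TL hy) (commutator_mono le_rfl (zpowers_le.2 h.uL)
    (mem_commutator_of_inverted (odd_orderOf_of_mem h.oddT hy) (h.uT y hy) (h.TL hy))) h1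

theorem inv_mem_of_normal [hN : N.Normal] (hne : N ≠ ⊥) (ha : orderOf a = 2) : a ∈ N := by
  have hn : ∀ g, g ∈ 𝐍(N) := fun g => by rw [normalizer_eq_top]; exact mem_top g
  by_cases ho : Odd (Nat.card N)
  · have key : ∀ a, orderOf a = 2 → N ⊓ 𝐂[a] ≤ ⊥ := fun a ha x hx => by
      obtain ⟨g, rfl⟩ := h.conj_t ha
      have h1 : g⁻¹ * x * g ∈ N := norm_mem' (hn g) hx.1
      have h2 := hx.2
      rw [cent1_conj] at h2
      by_contra e
      exact notMem_of_odd h.ou ho (h.le_of_norm (fun g _ => hn g) (h.mem_L_of_odd (mem_conj.1 h2)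
        (odd_orderOf_of_mem ho h1)) h1 (fun e' => e (by
          rw [mem_bot, ← conj_eq_one_iff (a := g⁻¹), inv_inv, e'])) h.uL)
    exact absurd (le_bot_iff.1 (h.four_tu.le_of_cent_le ho (fun g _ => hn g) (key _ h.ot)
      (key _ h.ou) (key _ h.four_tu.ots))) hne
  · exact h.oneCl.mem_of_not_odd le_top (fun g _ => hn g) ho ha (mem_top _)

theorem isSimple : IsSimpleGroup G := by
  have : Nontrivial G := ⟨c.t, 1, h.four_tu.t1⟩
  refine ⟨fun N hN => or_iff_not_imp_left.2 fun hne => ?_⟩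
  have hn : ∀ g, g ∈ 𝐍(N) := fun g => by rw [normalizer_eq_top]; exact mem_top g
  have h1 : c.L ≤ N := h.le_of_norm (fun g _ => hn g) h.uL (h.inv_mem_of_normal hne h.ou) h.four.t1
  have h2 : 𝐂[c.t] ≤ N := fun g hg => (h.mem_ct.1 hg).elim (fun e => h1 e)
    fun e => (mul_mem_cancel_left (h.inv_mem_of_normal hne h.ot)).1 (h1 e)
  have key : ∀ a, orderOf a = 2 → ∃ g ∈ N, g * a * g⁻¹ = c.u := fun a ha => by
    refine h.conj_u h2 (h.inv_mem_of_normal hne ha) ha fun f => ?_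
    have h3 := h.inv_mem_of_normal (N := ⁅N, N⁆)
      (U4.ne_bot_of_mem (commutator_mono h1 h1 (h.L_le_der h.uL)) h.four.t1) ha
    rw [← map_subtype_commutator] at h3
    obtain ⟨z, hz, rfl⟩ := h3
    exact Abelianization.commutator_subset_ker f hz
  refine eq_top_iff.2 fun g _ => ?_
  obtain ⟨x, hx, e⟩ := key _ h.ot
  obtain ⟨y, hy, e'⟩ := key (g * c.t * g⁻¹) (by rw [U4.orderOf_conj, h.ot])
  have : x⁻¹ * y * g ∈ 𝐂[c.t] := mem_cent1_of_conj_eq (by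
    calc _ = x⁻¹ * (y * (g * c.t * g⁻¹) * y⁻¹) * x := by group
      _ = _ := by rw [e', ← e]; group)
  exact (mul_mem_cancel_left (mul_mem (inv_mem hx) hy)).1 (h2 this)

theorem seven_dvd : 7 ∣ Nat.card G := by
  have : {y : G | ∃ x ∈ 𝐍(c.S), x * c.t * x⁻¹ = y} = (c.S : Set G) \ {1} := by
    ext a
    refine ⟨fun ⟨x, hx, e⟩ => e ▸ ⟨norm_mem hx h.t_S, conj_ne_one_iff.2 h.four_tu.t1⟩, fun ha => ?_⟩
    obtain ⟨g, e⟩ := h.conj_t (inv_of_mul_self (h.sq_S ha.1) ha.2)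
    obtain ⟨n, hn, e⟩ := exists_norm_conj h.sylow_S h.S_le (h.S_comm ha.1) (mem_top g) e
    exact ⟨n, hn.2, e⟩
  have h1 := Frob.ncard_conj_subgroup 𝐍(c.S) c.t
  rw [this, Set.ncard_sdiff_singleton_of_mem c.S.one_mem, ← Nat.card_coe_set_eq,
    SetLike.coe_sort_coe, h.card_S] at h1
  exact (h1 ▸ relIndex_dvd_card _ _ : 7 ∣ _).trans (card_subgroup_dvd_card _)

end GD

end CfsgLib.JR
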