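import Cfsg.Agent.Lib.JR.PSL
import Cfsg.Agent.Lib.JR.Fusion

/-!
# Groups of Janko–Ree type: the hypothesis

`G` has no subgroup of index `2` and an involution `t` with `C(t) = ⟨t⟩ × L` of odd index,
`L ≅ PSL₂(q)`, `q ≡ ±3 (mod 8)`, `q ≥ 5`.
-/

set_option autoImplicit false

namespace CfsgLib.JR

open Subgroup

universe u

/-- The Janko–Ree hypothesis. -/
structure Hyp {G : Type u} [Group G] (t : G) (L : Subgroup G) (q : ℕ) : Prop where
  ord : orderOf t = 2
  comm : ∀ x ∈ L, x * t = t * x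
  notMem : t ∉ L
  cent : ∀ g : G, g * t = t * g → g ∈ L ∨ t * g ∈ L
  odd : Odd (centralizer ({t} : Set G)).index
  noIdx : ∀ H : Subgroup G, H.index ≠ 2
  iso : ∃ (F : Type) (_ : Field F) (_ : Fintype F), Fintype.card F = q ∧
    Nonempty (L ≃* Matrix.ProjectiveSpecialLinearGroup (Fin 2) F)
  mod : q % 8 = 3 ∨ q % 8 = 5
  five_le : 5 ≤ q

variable {G : Type u} [Group G] [Finite G] {t : G} {L : Subgroup G} {q : ℕ}

omit [Finite G] in
theorem Hyp.exists_gd (h : Hyp t L q) : ∃ (q' r s : ℤ) (p : ℕ) (c : Cfg G), GD q' r s p c ∧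
    q'.natAbs = q ∧ c.t = t ∧ c.L = L := by
  obtain ⟨F, _, _, hF, ⟨e⟩⟩ := h.iso
  obtain ⟨p, -, n, hp, hn⟩ := FiniteField.card' F
  obtain ⟨q', r, s, hpar, hq⟩ := exists_par h.five_le h.mod hp (hF ▸ hn)
  obtain ⟨c, hc, hL⟩ := exists_ld (F := F) hpar (hq.trans hF.symm)
  have h1 := hL.map (L.subtype.comp e.symm.toMonoidHom) (L.subtype_injective.comp e.symm.injective)
  have h2 : (c.map (L.subtype.comp e.symm.toMonoidHom)).L = L := by
    simp only [Cfg.map, hc, ← map_map]
    rw [map_top_of_surjective _ e.symm.surjective, ← MonoidHom.range_eq_map, range_subtype]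
  refine ⟨q', r, s, p, { c.map (L.subtype.comp e.symm.toMonoidHom) with t := t },
    { h1 with ot := h.ord, comm := ?_, tL := ?_, cent := ?_, odd := h.odd, noIdx := h.noIdx },
    hq, rfl, h2⟩
  · simpa only [h2] using h.comm
  · simpa only [h2] using h.notMem
  · simpa only [h2] using h.cent

/-- `G` is simple. -/
theorem Hyp.simple (h : Hyp t L q) : IsSimpleGroup G :=
  let ⟨_, _, _, _, _, h1, _⟩ := h.exists_gd; h1.isSimple

/-- All involutions are conjugate. -/
theorem Hyp.isConj (h : Hyp t L q) {u : G} (hu : orderOf u = 2) : IsConj t u := by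
  obtain ⟨_, _, _, _, _, h1, -, rfl, -⟩ := h.exists_gd
  exact isConj_iff.2 (h1.conj_t hu)

end CfsgLib.JR
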