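import Cfsg.Agent.Lib.JR.Card
import Cfsg.Agent.Lib.J1.Ord3

/-!
# Janko's characterization of `J₁`
-/

set_option autoImplicit false

namespace CfsgLib.JR

universe u

variable {G : Type u} [Group G] [Finite G] {t : G} {L : Subgroup G}

/-- Janko case: `G` is the explicit group `J₁`. -/
theorem Hyp.isoJ1 (h : Hyp t L 5) : Cfsg.Spor.IsoJ1 G := by
  have := h.simple
  refine J1.isoJ1_of_card (h.card.resolve_right ?_).2
  rintro ⟨n, h1, h2, -⟩
  rw [pow_succ] at h2
  omega

end CfsgLib.JR
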