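import Cfsg.Agent.Lib.JR.Theta

/-!
# Elementary properties of `L`
-/

set_option autoImplicit false
set_option linter.unusedSectionVars false

namespace CfsgLib.JR

open Subgroup Cfsg CfsgLib.FT CfsgLib.FT.BGN CfsgLib.FT.U4 CfsgLib.GW

variable {G : Type*} [Group G] {H M : Subgroup G} {a g x y : G}

theorem mem_conj {g x : G} : x ∈ g •ᶜ H ↔ g⁻¹ * x * g ∈ H := by
  rw [← conj_mem_conj_iff (g := g) (x := g⁻¹ * x * g)]; simp [mul_assoc]

theorem cmem {z : G} (hz : z ∈ H) (hg : g ∈ H) : z * g * z⁻¹ ∈ H :=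
  mul_mem (mul_mem hz hg) (inv_mem hz)

theorem conj_cent (z : G) (h : g * a = a * g) : z * g * z⁻¹ ∈ 𝐂[z * a * z⁻¹] := by
  rw [cent1_conj, conj_mem_conj_iff]; exact mem_cent1.2 h

theorem mem_norm_of {g : G} [Finite G] (h : ∀ x ∈ H, g * x * g⁻¹ ∈ H) : g ∈ 𝐍(H) :=
  mem_normalizer_fintype h

theorem norm_mem (hg : g ∈ 𝐍(H)) (hx : x ∈ H) : g * x * g⁻¹ ∈ H := (hg x).1 hx

theorem norm_mem' (hg : g ∈ 𝐍(H)) (hx : x ∈ H) : g⁻¹ * x * g ∈ H := by
  simpa using norm_mem (inv_mem hg) hx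

theorem mem_norm_of_comm (h : ∀ x ∈ H, x * g = g * x) : g ∈ 𝐍(H) :=
  U4.cent_le_norm H (mem_cent.2 h)

theorem mem_sup_inv (ha : a * a = 1) (hn : a ∈ 𝐍(H)) :
    g ∈ H ⊔ zpowers a ↔ g ∈ H ∨ a * g ∈ H := by
  have hi : a⁻¹ = a := inv_eq_of_mul_eq_one_right ha
  constructor
  · intro hg
    let M : Subgroup G :=
      { carrier := {g | g ∈ H ∨ a * g ∈ H}
        one_mem' := Or.inl H.one_mem
        mul_mem' := by
          rintro b c (hb | hb) (hc | hc)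
          · exact Or.inl (mul_mem hb hc)
          · refine Or.inr ?_
            have := mul_mem (norm_mem hn hb) hc
            rwa [show a * b * a⁻¹ * (a * c) = a * (b * c) by group] at this
          · exact Or.inr (by rw [← mul_assoc]; exact mul_mem hb hc)
          · refine Or.inl ?_
            have := mul_mem (norm_mem' hn hb) hc
            rwa [show a⁻¹ * (a * b) * a * (a * c) = b * (a * a) * c by group, ha, mul_one] at this
        inv_mem' := by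
          rintro b (hb | hb)
          · exact Or.inl (inv_mem hb)
          · refine Or.inr ?_
            have := norm_mem hn (inv_mem hb)
            rwa [show a * (a * b)⁻¹ * a⁻¹ = a * b⁻¹ * (a * a)⁻¹ by group, ha, inv_one,
              mul_one] at this }
    exact (sup_le (fun b hb => Or.inl hb) (zpowers_le.2 (Or.inr (ha ▸ H.one_mem))) : _ ≤ M) hg
  · rintro (h | h)
    · exact mem_sup_left h
    · have := mul_mem (mem_sup_right (mem_zpowers a) : a ∈ H ⊔ zpowers a) (mem_sup_left h)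
      rwa [← mul_assoc, ha, one_mul] at this

theorem relIndex_two (ha : a ∈ M) (haH : a ∉ H) (h : ∀ g ∈ M, g ∈ H ∨ a * g ∈ H) :
    H.relIndex M = 2 :=
  relIndex_eq_two_iff_exists_notMem_and'.2 ⟨a, ha, haH, fun g hg => (h g hg).symm⟩

theorem card_mul_relIndex (hle : H ≤ M) : Nat.card H * H.relIndex M = Nat.card M := by
  rw [← card_mul_index (H.subgroupOf M), ← card_map_of_injective (K := H.subgroupOf M)
    M.subtype_injective, subgroupOf_map_subtype, inf_eq_left.2 hle]; rfl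

theorem card_two (hle : H ≤ M) (h : H.relIndex M = 2) : Nat.card M = 2 * Nat.card H := by
  rw [← h, mul_comm, card_mul_relIndex hle]

theorem card_sup_inv (ha : a * a = 1) (hn : a ∈ 𝐍(H)) (haH : a ∉ H) :
    Nat.card ↥(H ⊔ zpowers a) = 2 * Nat.card H :=
  card_two le_sup_left (relIndex_two (mem_sup_right (mem_zpowers a)) haH
    fun _ hg => (mem_sup_inv ha hn).1 hg)

theorem not_odd_mul (ha : orderOf a = 2) (hc : x * a = a * x) (hx : Odd (orderOf x)) :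
    ¬ Odd (orderOf (a * x)) := by
  rw [Commute.orderOf_mul_eq_mul_orderOf_of_coprime hc.symm
    (by rw [ha]; exact (Nat.coprime_two_left).2 hx), ha]
  simp

theorem two_dvd_mul (ha : orderOf a = 2) (hc : x * a = a * x) (hx : Odd (orderOf x)) :
    2 ∣ orderOf (a * x) :=
  even_iff_two_dvd.1 (Nat.not_odd_iff_even.1 (not_odd_mul ha hc hx))

theorem odd_or_two_dvd (g : G) : Odd (orderOf g) ∨ 2 ∣ orderOf g := by
  rcases Nat.even_or_odd (orderOf g) with h | h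
  · exact Or.inr (even_iff_two_dvd.1 h)
  · exact Or.inl h

theorem not_odd_of_inv (ha : orderOf a = 2) : ¬ Odd (orderOf a) := by rw [ha]; decide

theorem notMem_of_odd (ha : orderOf a = 2) (hH : Odd (Nat.card H)) : a ∉ H :=
  fun h => not_odd_of_inv ha (odd_orderOf_of_mem hH h)

/-- An element of odd order of `⟨a⟩ × H` lies in `H`. -/
theorem mem_of_odd [Finite G] (ha : a * a = 1) (hc : g * a = a * g) (hg : Odd (orderOf g))
    (h : a * g ∈ H) : g ∈ H := by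
  have h2 : g * g ∈ H := by
    have := mul_mem h h
    rwa [show a * g * (a * g) = a * (g * a) * g by group, hc, ← mul_assoc, ha, one_mul] at this
  exact zpowers_le.2 h2 (mem_zpowers_sq hg)

theorem mul_self_of_inverts (ha : a * a = 1) (h : Inverts a H) (hg : a * g ∈ H) : g * g = 1 := by
  have := h _ hg
  rw [← mul_assoc, ha, one_mul, mul_inv_rev, mul_left_inj] at this
  nth_rw 1 [this]; simp

theorem exists_inv_pow [Finite G] (h : 2 ∣ orderOf g) : ∃ a ∈ zpowers g, orderOf a = 2 := by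
  obtain ⟨k, hk⟩ := h
  have h0 : 0 < orderOf g := orderOf_pos g
  refine ⟨g ^ k, npow_mem_zpowers g k, ?_⟩
  rw [orderOf_pow_of_dvd (by omega) ⟨2, by omega⟩, hk, Nat.mul_div_cancel _ (by omega)]

theorem exists_prime_pow [Finite G] {k : ℕ} (hk : k ∣ orderOf g) :
    ∃ a ∈ zpowers g, orderOf a = k := by
  obtain ⟨j, hj⟩ := hk
  have h0 : 0 < orderOf g := orderOf_pos g
  have : j ≠ 0 := by rintro rfl; omega
  refine ⟨g ^ j, npow_mem_zpowers g j, ?_⟩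
  rw [orderOf_pow_of_dvd this ⟨k, by rw [hj, mul_comm]⟩, hj, Nat.mul_div_cancel _ (by omega)]

theorem comm_of_mem_zpowers (h : a ∈ zpowers g) : g * a = a * g :=
  mem_cent1.1 (cent1_le_cent1 h (self_mem_cent1 g))

theorem isPGroup_zpowers {k : ℕ} (h : orderOf g = k) : IsPGroup k (zpowers g) :=
  isPGroup_of_card_eq (by rw [Nat.card_zpowers, h])

/-- An element of prime order dividing the order of a Hall subgroup is conjugate into it. -/
theorem exists_conj_mem_of_hall [Finite G] {k : ℕ} (hk : k.Prime) (hHK : H ≤ M)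
    (hi : ¬ k ∣ H.relIndex M) {P : Subgroup G} (hP : IsPGroup k P) (hPK : P ≤ M) :
    ∃ z ∈ M, z •ᶜ P ≤ H := by
  have := Fact.mk hk
  obtain ⟨S, hS⟩ := IsSylowIn.exists_in (p := k) H
  have hS' : IsSylowIn k S M := ⟨hS.le.trans hHK, hS.isPGroup, by
    rw [← relIndex_mul_relIndex S H M hS.le hHK]
    exact fun h => ((Nat.Prime.dvd_mul hk).1 h).elim hS.not_dvd hi⟩
  obtain ⟨z, hz, e⟩ := hS'.exists_conj_le hP hPK
  exact ⟨z, hz, e.trans hS.le⟩

variable {q r s : ℤ} {p : ℕ} {c : Cfg G}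

/-- The torus `⟨u⟩ × R`. -/
def Cfg.K (c : Cfg G) : Subgroup G := c.R ⊔ zpowers c.u

namespace LD

variable [Finite G] (h : LD q r s p c)
include h

theorem ou : orderOf c.u = 2 := h.four.ot
theorem ov : orderOf c.v = 2 := h.four.os
theorem uu : c.u * c.u = 1 := h.four.tt
theorem oddR : Odd (Nat.card c.R) := h.cardR ▸ h.odd_r'
theorem oddT : Odd (Nat.card c.T) := h.cardT ▸ h.odd_s'
theorem oddQ : Odd (Nat.card c.Q) := h.cardQ ▸ h.odd_q'
theorem commR : ∀ x ∈ c.R, ∀ y ∈ c.R, x * y = y * x := fun _ hx _ hy => h.vR.comm hx hy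
theorem commT : ∀ x ∈ c.T, ∀ y ∈ c.T, x * y = y * x := fun _ hx _ hy => h.uT.comm hx hy
theorem u_norm : c.u ∈ 𝐍(c.R) := mem_norm_of_comm h.uR
theorem mem_K : g ∈ c.K ↔ g ∈ c.R ∨ c.u * g ∈ c.R := mem_sup_inv h.uu h.u_norm
theorem uR' : c.u ∉ c.R := notMem_of_odd h.ou h.oddR
theorem cardK : Nat.card c.K = 2 * r.natAbs := by
  rw [Cfg.K, card_sup_inv h.uu h.u_norm h.uR', h.cardR]
theorem K_le : c.K ≤ c.L ⊓ 𝐂[c.u] :=
  sup_le (le_inf h.RL fun x hx => mem_cent1.2 (h.uR x hx))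
    (zpowers_le.2 ⟨h.uL, self_mem_cent1 _⟩)
theorem uvR : Inverts (c.u * c.v) c.R := fun x hx => by
  calc c.u * c.v * x * (c.u * c.v)⁻¹ = c.u * (c.v * x * c.v⁻¹) * c.u⁻¹ := by group
    _ = x⁻¹ := by rw [h.vR x hx, ← h.uR _ (inv_mem hx)]; group
theorem commK : ∀ x ∈ c.K, ∀ y ∈ c.K, x * y = y * x := by
  have h1 : ∀ x ∈ c.R, c.K ≤ 𝐂[x] := fun x hx =>
    sup_le (fun y hy => mem_cent1.2 (h.commR y hy x hx))
      (zpowers_le.2 (mem_cent1'.2 (h.uR x hx)))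
  intro x hx y hy
  exact mem_cent1.1 ((sup_le (fun z hz => mem_cent1_comm.1 (h1 z hz hy))
    (zpowers_le.2 (mem_cent1_comm.1 (h.K_le hy).2)) : c.K ≤ 𝐂[y]) hx)
theorem vK : Inverts c.v c.K := fun x hx => by
  rcases h.mem_K.1 hx with e | e
  · exact h.vR x e
  · have := h.vR _ e
    have h2 := mem_cent1.1 (h.K_le hx).2
    rw [← h2, mul_inv_rev, h.four.ti, ← mul_assoc, mul_assoc (c.v * x), h.four.si, h.four.comm,
      ← mul_assoc, ← (Commute.inv_left h2).eq, mul_left_inj] at this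
    rwa [h.four.si]
theorem vK' : c.v ∉ c.K := fun hv => by
  rcases h.mem_K.1 hv with e | e
  · exact notMem_of_odd h.ov h.oddR e
  · exact notMem_of_odd h.four.ots h.oddR e
theorem mem_cu (hg : g ∈ c.L ⊓ 𝐂[c.u]) : g ∈ c.K ∨ c.v * g ∈ c.K := by
  rcases h.centu g hg.1 (mem_cent1.1 hg.2) with e | e | e | e
  · exact Or.inl (h.mem_K.2 (Or.inl e))
  · exact Or.inl (h.mem_K.2 (Or.inr e))
  · exact Or.inr (h.mem_K.2 (Or.inl e))
  · exact Or.inr (h.mem_K.2 (Or.inr (by rwa [← mul_assoc])))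
theorem v_cu : c.v ∈ c.L ⊓ 𝐂[c.u] := ⟨h.vL, h.four.s_cent⟩
theorem idxK : c.K.relIndex (c.L ⊓ 𝐂[c.u]) = 2 := relIndex_two h.v_cu h.vK' fun _ => h.mem_cu
theorem card_cu : Nat.card ↥(c.L ⊓ 𝐂[c.u]) = 4 * r.natAbs := by
  rw [card_two h.K_le h.idxK, h.cardK]; ring
theorem R_le_K : c.R ≤ c.K := le_sup_left
theorem u_mem_K : c.u ∈ c.K := mem_sup_right (mem_zpowers _)
theorem inv_of_notMem_K (hg : g ∈ c.L ⊓ 𝐂[c.u]) (hK : g ∉ c.K) :
    g * g = 1 ∧ Inverts g c.K := by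
  have e := (h.mem_cu hg).resolve_left hK
  refine ⟨mul_self_of_inverts h.four.ss h.vK e, fun x hx => ?_⟩
  calc g * x * g⁻¹ = c.v⁻¹ * (c.v * g * x * (c.v * g)⁻¹) * c.v := by group
    _ = x⁻¹ := by
      rw [h.commK _ e x hx, mul_inv_cancel_right, h.four.si, ← h.vK x hx, h.four.si]
theorem cu_norm_R : c.L ⊓ 𝐂[c.u] ≤ 𝐍(c.R) := fun g hg => by
  by_cases hK : g ∈ c.K
  · exact mem_norm_of_comm fun x hx => h.commK x (h.R_le_K hx) g hK
  · exact ((h.inv_of_notMem_K hg hK).2.mono h.R_le_K).mem_norm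
theorem cu_norm_K : c.L ⊓ 𝐂[c.u] ≤ 𝐍(c.K) := fun g hg => by
  by_cases hK : g ∈ c.K
  · exact le_normalizer hK
  · exact (h.inv_of_notMem_K hg hK).2.mem_norm
theorem centR' (hx : x ∈ c.R) (h1 : x ≠ 1) (hg : g ∈ c.L) (e : g * x = x * g) : g ∈ c.K :=
  h.mem_K.2 (h.centR x hx h1 g hg e)
theorem eq_u_of_mem_K (ha : orderOf a = 2) (hK : a ∈ c.K) : a = c.u := by
  rcases h.mem_K.1 hK with e | e
  · exact absurd e (notMem_of_odd ha h.oddR)
  · have h2 := mem_cent1.1 (h.K_le hK).2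
    have := eq_one_of_odd_of_mul_self (odd_orderOf_of_mem h.oddR e) (by
      rw [show c.u * a * (c.u * a) = c.u * (a * c.u) * a by group, h2, ← mul_assoc, h.uu, one_mul,
        mul_self_of_inv ha])
    rw [← inv_eq_of_mul_eq_one_right this, h.four.ti]
theorem u_notMem_T : c.u ∉ c.T := notMem_of_odd h.ou h.oddT
theorem idxT : c.T.relIndex (c.L ⊓ 𝐍(c.T)) = 2 :=
  relIndex_two ⟨h.uL, h.uT.mem_norm⟩ h.u_notMem_T fun g hg => h.normT g hg.1 hg.2
theorem T_le : c.T ≤ c.L ⊓ 𝐍(c.T) := le_inf h.TL le_normalizer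
theorem inv_of_notMem_T (hg : g ∈ c.L ⊓ 𝐍(c.T)) (hT : g ∉ c.T) :
    g * g = 1 ∧ Inverts g c.T := by
  have e := (h.normT g hg.1 hg.2).resolve_left hT
  refine ⟨mul_self_of_inverts h.uu h.uT e, fun x hx => ?_⟩
  calc g * x * g⁻¹ = c.u⁻¹ * (c.u * g * x * (c.u * g)⁻¹) * c.u := by group
    _ = x⁻¹ := by
      rw [h.commT _ e x hx, mul_inv_cancel_right, h.four.ti, ← h.uT x hx, h.four.ti]
theorem cent_eq_T (hx : x ∈ c.T) (h1 : x ≠ 1) : c.L ⊓ 𝐂[x] = c.T :=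
  le_antisymm (fun g hg => h.centT x hx h1 g hg.1 (mem_cent1.1 hg.2))
    (le_inf h.TL fun y hy => mem_cent1.2 (h.commT y hy x hx))
theorem cent_eq_Q (hx : x ∈ c.Q) (h1 : x ≠ 1) : c.L ⊓ 𝐂[x] = c.Q :=
  le_antisymm (fun g hg => h.centQ x hx h1 g hg.1 (mem_cent1.1 hg.2))
    (le_inf h.QL fun y hy => mem_cent1.2 (h.commQ y hy x hx))
theorem cent_eq_K (hx : x ∈ c.R) (h1 : x ≠ 1) : c.L ⊓ 𝐂[x] = c.K :=
  le_antisymm (fun _ hg => h.centR' hx h1 hg.1 (mem_cent1.1 hg.2))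
    (le_inf (h.K_le.trans inf_le_left) fun y hy => mem_cent1.2 (h.commK y hy x (h.R_le_K hx)))

theorem mem_R_of_odd (hg : g ∈ c.L ⊓ 𝐂[c.u]) (ho : Odd (orderOf g)) : g ∈ c.R := by
  by_cases hK : g ∈ c.K
  · exact (h.mem_K.1 hK).elim id (mem_of_odd h.uu (mem_cent1.1 hg.2) ho)
  · rw [eq_one_of_odd_of_mul_self ho (h.inv_of_notMem_K hg hK).1]; exact one_mem _
theorem idxR : c.R.relIndex c.L = 4 * q.natAbs * s.natAbs := by
  have := card_mul_relIndex h.RL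
  rw [h.card, h.cardR] at this
  exact Nat.eq_of_mul_eq_mul_left (Int.natAbs_pos.2 h.r_ne) (by rw [this]; ring)
theorem idxT' : c.T.relIndex c.L = 4 * q.natAbs * r.natAbs := by
  have := card_mul_relIndex h.TL
  rw [h.card, h.cardT] at this
  exact Nat.eq_of_mul_eq_mul_left (Int.natAbs_pos.2 h.s_ne) (by rw [this]; ring)
theorem idxQ : c.Q.relIndex c.L = 4 * r.natAbs * s.natAbs := by
  have := card_mul_relIndex h.QL
  rw [h.card, h.cardQ] at this
  exact Nat.eq_of_mul_eq_mul_left (Int.natAbs_pos.2 h.q_ne) (by rw [this]; ring)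
theorem idx_cu : (c.L ⊓ 𝐂[c.u]).relIndex c.L = q.natAbs * s.natAbs := by
  have := card_mul_relIndex (inf_le_left : c.L ⊓ 𝐂[c.u] ≤ c.L)
  rw [h.card, h.card_cu] at this
  exact Nat.eq_of_mul_eq_mul_left (show 0 < 4 * r.natAbs by
    have := Int.natAbs_pos.2 h.r_ne; positivity) (by rw [this]; ring)
theorem idxR_cu : c.R.relIndex (c.L ⊓ 𝐂[c.u]) = 4 := by
  have := card_mul_relIndex (h.R_le_K.trans h.K_le)
  rw [h.card_cu, h.cardR] at this
  exact Nat.eq_of_mul_eq_mul_left (Int.natAbs_pos.2 h.r_ne) (by rw [this]; ring)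

theorem hall_R {k : ℕ} (hk : k.Prime) (hd : k ∣ r.natAbs) : ¬ k ∣ c.R.relIndex c.L := by
  rw [h.idxR, ← Nat.Prime.coprime_iff_not_dvd hk]
  refine Nat.Coprime.coprime_dvd_left hd ?_
  exact Nat.Coprime.mul_right (Nat.Coprime.mul_right
    (Nat.Coprime.pow_right 2 (Nat.coprime_two_right.2 h.odd_r')) h.cop_qr.symm) h.cop_sr.symm
theorem hall_T {k : ℕ} (hk : k.Prime) (hd : k ∣ s.natAbs) : ¬ k ∣ c.T.relIndex c.L := by
  rw [h.idxT', ← Nat.Prime.coprime_iff_not_dvd hk]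
  refine Nat.Coprime.coprime_dvd_left hd ?_
  exact Nat.Coprime.mul_right (Nat.Coprime.mul_right
    (Nat.Coprime.pow_right 2 (Nat.coprime_two_right.2 h.odd_s')) h.cop_qs.symm) h.cop_sr
theorem cop_Q : q.natAbs.Coprime (c.Q.relIndex c.L) := by
  rw [h.idxQ]
  exact Nat.Coprime.mul_right (Nat.Coprime.mul_right
    (Nat.Coprime.pow_right 2 (Nat.coprime_two_right.2 h.odd_q')) h.cop_qr) h.cop_qs
theorem hall_Q {k : ℕ} (hk : k.Prime) (hd : k ∣ q.natAbs) : ¬ k ∣ c.Q.relIndex c.L :=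
  (Nat.Prime.coprime_iff_not_dvd hk).1 (Nat.Coprime.coprime_dvd_left hd h.cop_Q)

theorem prime_cases {k : ℕ} (hk : k.Prime) (h2 : k ≠ 2) (hd : k ∣ Nat.card c.L) :
    k ∣ r.natAbs ∨ k ∣ s.natAbs ∨ k ∣ q.natAbs := by
  rw [h.card] at hd
  simp only [Nat.Prime.dvd_mul hk] at hd
  rcases hd with ((hd | hd) | hd) | hd
  · exact absurd ((Nat.prime_dvd_prime_iff_eq hk Nat.prime_two).1
      (hk.dvd_of_dvd_pow (show k ∣ 2 ^ 2 from hd))) h2
  all_goals tauto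

/-- An element of odd order is conjugate into `R`, `T` or `Q`. -/
theorem odd_conj (hg : g ∈ c.L) (ho : Odd (orderOf g)) :
    ∃ z ∈ c.L, z * g * z⁻¹ ∈ c.R ∨ z * g * z⁻¹ ∈ c.T ∨ z * g * z⁻¹ ∈ c.Q := by
  by_cases h1 : g = 1
  · exact ⟨1, one_mem _, Or.inl (by simp [h1])⟩
  obtain ⟨k, hk, hd⟩ := exists_prime_dvd_orderOf h1
  obtain ⟨a, ha, hak⟩ := exists_prime_pow hd
  have haL : zpowers a ≤ c.L := zpowers_le.2 (zpowers_le.2 hg ha)
  have ha1 : a ≠ 1 := fun e => by rw [e, orderOf_one] at hak; exact hk.one_lt.ne hak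
  have key : ∀ z, z * g * z⁻¹ ∈ 𝐂[z * a * z⁻¹] := fun z => conj_cent z (comm_of_mem_zpowers ha)
  have hL : ∀ z ∈ c.L, z * g * z⁻¹ ∈ c.L := fun z hz => cmem hz hg
  rcases h.prime_cases hk (fun e => (Nat.not_even_iff_odd.2 ho) (even_iff_two_dvd.2 (e ▸ hd)))
    (hd.trans (c.L.orderOf_dvd_natCard hg)) with e | e | e
  · obtain ⟨z, hz, e⟩ := exists_conj_mem_of_hall hk h.RL (h.hall_R hk e) (isPGroup_zpowers hak) haL
    refine ⟨z, hz, Or.inl (h.mem_R_of_odd (h.K_le ?_) (by rwa [U4.orderOf_conj]))⟩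
    rw [← h.cent_eq_K (e (conj_mem_conj_iff.2 (mem_zpowers a))) (conj_ne_one_iff.2 ha1)]
    exact ⟨hL z hz, key z⟩
  · obtain ⟨z, hz, e⟩ := exists_conj_mem_of_hall hk h.TL (h.hall_T hk e) (isPGroup_zpowers hak) haL
    refine ⟨z, hz, Or.inr (Or.inl ?_)⟩
    rw [← h.cent_eq_T (e (conj_mem_conj_iff.2 (mem_zpowers a))) (conj_ne_one_iff.2 ha1)]
    exact ⟨hL z hz, key z⟩
  · obtain ⟨z, hz, e⟩ := exists_conj_mem_of_hall hk h.QL (h.hall_Q hk e) (isPGroup_zpowers hak) haL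
    refine ⟨z, hz, Or.inr (Or.inr ?_)⟩
    rw [← h.cent_eq_Q (e (conj_mem_conj_iff.2 (mem_zpowers a))) (conj_ne_one_iff.2 ha1)]
    exact ⟨hL z hz, key z⟩

/-- An element of even order is conjugate into `u R`. -/
theorem even_conj (hg : g ∈ c.L) (he : 2 ∣ orderOf g) :
    ∃ z ∈ c.L, ∃ y ∈ c.R, z * g * z⁻¹ = c.u * y := by
  obtain ⟨a, ha, ha2⟩ := exists_inv_pow he
  obtain ⟨z, hz, e⟩ := h.one a (zpowers_le.2 hg ha) c.u h.uL ha2 h.ou
  have h1 : z * g * z⁻¹ ∈ c.L ⊓ 𝐂[c.u] :=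
    mem_inf.2 ⟨cmem hz hg, e ▸ conj_cent z (comm_of_mem_zpowers ha)⟩
  by_cases hK : z * g * z⁻¹ ∈ c.K
  · rcases h.mem_K.1 hK with e' | e'
    · have := odd_orderOf_of_mem h.oddR e'
      rw [U4.orderOf_conj] at this
      exact absurd (even_iff_two_dvd.2 he) (Nat.not_even_iff_odd.2 this)
    · exact ⟨z, hz, _, e', by rw [← mul_assoc, h.uu, one_mul]⟩
  · have h2 := inv_of_mul_self (h.inv_of_notMem_K h1 hK).1 fun e => hK (e ▸ one_mem _)
    rw [U4.orderOf_conj] at h2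
    obtain ⟨w, hw, e⟩ := h.one g hg c.u h.uL h2 h.ou
    exact ⟨w, hw, 1, one_mem _, by rw [e, mul_one]⟩

theorem v4 : V4 c.L c.u c.R :=
  ⟨h.ou, h.uL, h.R_le_K.trans h.K_le, h.cu_norm_R, h.oddR,
    fun _ hg e ho => h.mem_R_of_odd ⟨hg, mem_cent1.2 e⟩ ho, h.idxR_cu, fun _ => h.even_conj,
    ⟨c.v, h.vL, h.four⟩⟩

theorem tiT : NormedTI (sharp c.T) c.L (c.L ⊓ 𝐍(c.T)) := by
  have hT : c.T ≠ ⊥ := fun e => by
    have := h.cardT; rw [e, card_bot] at this; have := h.three_le; omega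
  obtain ⟨x, hx, hx1⟩ := exists_ne_one hT
  refine ⟨⟨x, hx, hx1⟩, inf_le_left, sharp_conj inf_le_right, fun g hg a ha ha' => ⟨hg, ?_⟩⟩
  refine mem_norm_of fun y hy => ?_
  rw [← h.cent_eq_T ha'.1 ha'.2]
  exact mem_inf.2 ⟨cmem hg (h.TL hy), conj_cent g (h.commT y hy a ha.1)⟩

/-- `K \ ⟨u⟩` is a TI-set. -/
theorem tiK (hR : c.R ≠ ⊥) :
    NormedTI ((c.K : Set G) \ zpowers c.u) c.L (c.L ⊓ 𝐂[c.u]) := by
  have key : ∀ a ∈ (c.K : Set G) \ zpowers c.u, c.L ⊓ 𝐂[a] = c.K := fun a ha => by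
    refine le_antisymm ?_ (le_inf (h.K_le.trans inf_le_left) fun y hy =>
      mem_cent1.2 (h.commK y hy a ha.1))
    have h2 := mem_cent1.1 (h.K_le ha.1).2
    have h3 : a * a ∈ c.R := by
      rcases h.mem_K.1 ha.1 with e | e
      · exact mul_mem e e
      · have := mul_mem e e
        rwa [show c.u * a * (c.u * a) = c.u * (a * c.u) * a by group, h2, ← mul_assoc, h.uu,
          one_mul] at this
    have h4 : a * a ≠ 1 := fun e => ha.2 (by
      by_cases e1 : a = 1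
      · rw [e1]; exact one_mem _
      · rw [h.eq_u_of_mem_K (inv_of_mul_self e e1) ha.1]; exact mem_zpowers _)
    rw [← h.cent_eq_K h3 h4]
    exact inf_le_inf_left _ (cent1_le_cent1 (mul_mem (mem_zpowers a) (mem_zpowers a)))
  obtain ⟨x, hx, hx1⟩ := exists_ne_one hR
  refine ⟨⟨x, h.R_le_K hx, fun e => ?_⟩, inf_le_left, fun g hg a ha => ⟨norm_mem (h.cu_norm_K hg)
    ha.1, fun e => ha.2 ?_⟩, fun g hg a ha ha' => ⟨hg, ?_⟩⟩
  · rcases (mem_zpowers_inv h.ou).1 e with e | e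
    · exact hx1 e
    · exact h.uR' (e ▸ hx)
  · have := norm_mem' (U4.cent_le_norm _ (by rw [U4.cent_zpowers]; exact hg.2)) e
    simpa [mul_assoc] using this
  · refine mem_cent1_of_conj_eq (h.eq_u_of_mem_K (by rw [U4.orderOf_conj, h.ou]) ?_)
    rw [← key _ ha']
    exact mem_inf.2 ⟨cmem hg h.uL, conj_cent g (mem_cent1'.1 (h.K_le ha.1).2)⟩

end LD

end CfsgLib.JR
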