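import Cfsg.Agent.Lib.JR.CFT

/-!
# The principal `2`-block of `L`
-/

set_option autoImplicit false
set_option linter.unusedSimpArgs false
set_option linter.unusedSectionVars false

namespace CfsgLib.JR

open Subgroup Cfsg CfsgLib.FT CfsgLib.FT.BGN CfsgLib.FT.U4 CfsgLib.GW CfsgLib.Blk
open scoped ComplexConjugate

variable {G : Type*} [Group G] [Fintype G] {q r s : ℤ} {p : ℕ} {c : Cfg G} {g : G}
  {X : Subgroup G} {a b e β : G → ℂ} {x y z : ℤ} {u : G}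

theorem Lat.dec_th' {Λ : Type*} [AddCommGroup Λ] {l : Lat Λ} {β o a : Λ} {ε : ℤ}
    (hβ : l.B β β = 3) (h1 : l.B β o = 1) (ho : l.B o o = 1) (ha : l.B a a = 1)
    (ao : l.B a o = 0) (hε : ε = 1 ∨ ε = -1) (h : l.B β a = ε) (zo : l.z o = 1) (no : l.n o = 1)
    (hz : l.z β = 0) (hn : l.n β = 0) (na : l.n a = 1) :
    l.Θ β = 1 + ε / l.z a - (1 + ε) ^ 2 / (1 + ε * l.z a) ∧ 1 + ε * l.z a ≠ 0 := by
  rcases hε with rfl | rfl
  · have := Lat.dec_th hβ h1 ho ha ao h zo no hz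
    rw [hn, na] at this
    exact ⟨by rw [this.2]; push_cast; ring, by simpa using this.1⟩
  · have := Lat.dec_th (a := -a) hβ h1 ho (l.neg_unit ha) (by simp [ao]) (by simp [h]) zo no hz
    rw [map_neg, map_neg, hn, na] at this
    exact ⟨by rw [this.2]; push_cast; ring, by simpa using this.1⟩

/-- Decomposition of a virtual character of norm `3`. -/
theorem Eta.dec (hE : Eta X a b e x y z) (hu : u ∈ X) (ho : orderOf u = 2) (hβ : β ∈ ZIrr X)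
    (h3 : cfdot X β β = 3) (h1 : cfdot X β (cf1 X) = 1) (hz : β 1 = 0) (hn : β u = 0) {ε : ℤ}
    (hε : ε = 1 ∨ ε = -1) (h : cfdot X β (cf1 X + a + b + e) = 1 + ε) {θ : ℚ}
    (hθ : Th X u β = θ) : ∃ n : ℤ, θ = 1 + ε / n - (1 + ε) ^ 2 / (1 + ε * n) ∧ 1 + ε * n ≠ 0 ∧
      ((n = x ∧ cfdot X a β = ε ∧ cfdot X b β = 0 ∧ cfdot X e β = 0) ∨
      (n = y ∧ cfdot X a β = 0 ∧ cfdot X b β = ε ∧ cfdot X e β = 0) ∨
      (n = z ∧ cfdot X a β = 0 ∧ cfdot X b β = 0 ∧ cfdot X e β = ε)) := by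
  obtain ⟨l, hl⟩ := exists_lat hu ho
  obtain ⟨v1, v2, v3⟩ := hE.even u hu ho.symm.dvd
  obtain ⟨o, ho'⟩ : ∃ o : ZIrr X, o.1 = cf1 X := ⟨⟨_, cf1_mem_ZIrr⟩, rfl⟩
  obtain ⟨B, rfl⟩ : ∃ B : ZIrr X, B.1 = β := ⟨⟨_, hβ⟩, rfl⟩
  obtain ⟨a, rfl⟩ : ∃ B : ZIrr X, B.1 = a := ⟨⟨_, hE.da.mem_ZIrr⟩, rfl⟩
  obtain ⟨b, rfl⟩ : ∃ B : ZIrr X, B.1 = b := ⟨⟨_, hE.db.mem_ZIrr⟩, rfl⟩
  obtain ⟨e, rfl⟩ : ∃ B : ZIrr X, B.1 = e := ⟨⟨_, hE.dc.mem_ZIrr⟩, rfl⟩
  have b3 : l.B B B = 3 := hl.B_eq (by rw [h3]; simp)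
  have b1 : l.B B o = 1 := hl.B_eq (by rw [ho', h1]; simp)
  have oo : l.B o o = 1 := hl.B_eq (by rw [ho', cfdot_cf1]; simp)
  have un : ∀ {f : ZIrr X}, IsDirr X f → l.B f f = 1 :=
    fun hf => hl.B_eq (by rw [hf.cfdot_self]; simp)
  have z0 : ∀ {v w : ZIrr X}, cfdot X v w = 0 → l.B v w = 0 :=
    fun h => hl.B_eq (by rw [h]; simp)
  have key : ∀ {f : ZIrr X} {n : ℤ}, IsDirr X f → cfdot X f (cf1 X) = 0 → f.1 1 = n →
      f.1 u = 1 → l.B B f = ε →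
      θ = 1 + ε / n - (1 + ε) ^ 2 / (1 + ε * n) ∧ 1 + ε * n ≠ 0 := by
    intro f n hf k1 k2 k3 k4
    rw [← hl.Θ_eq hθ, ← hl.z_eq k2]
    exact Lat.dec_th' b3 b1 oo (un hf) (z0 (ho' ▸ k1)) hε k4
      (hl.z_eq (by rw [ho', cf1_apply X.one_mem]; simp))
      (hl.n_eq (by rw [ho', cf1_apply hu]; simp)) (hl.z_eq (by rw [hz]; simp))
      (hl.n_eq (by rw [hn]; simp)) (hl.n_eq (by rw [k3]; simp))
  simp only [cfdot_add_right, h1, hl.B] at h
  simp only [hl.B, l.symm _ B]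
  rcases Lat.dec b3 b1 oo (un hE.da) (un hE.db) (un hE.dc) (z0 (ho' ▸ hE.a1)) (z0 (ho' ▸ hE.b1))
    (z0 (ho' ▸ hE.c1)) (z0 hE.ab) (z0 hE.ac) (z0 hE.bc) hε (by
      refine Int.cast_injective (α := ℂ) ?_
      push_cast
      linear_combination h) with ⟨k1, k2, k3⟩ | ⟨k1, k2, k3⟩ | ⟨k1, k2, k3⟩
  · obtain ⟨k4, k5⟩ := key hE.da hE.a1 hE.xa v1 k1
    exact ⟨x, k4, k5, Or.inl ⟨rfl, by simp [k1, k2, k3]⟩⟩
  · obtain ⟨k4, k5⟩ := key hE.db hE.b1 hE.yb v2 k2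
    exact ⟨y, k4, k5, Or.inr (Or.inl ⟨rfl, by simp [k1, k2, k3]⟩)⟩
  · obtain ⟨k4, k5⟩ := key hE.dc hE.c1 hE.zc v3 k3
    exact ⟨z, k4, k5, Or.inr (Or.inr ⟨rfl, by simp [k1, k2, k3]⟩)⟩

theorem Eta.x_ne (hE : Eta X a b e x y z) : x ≠ 0 := by have := hE.mx; omega
theorem Eta.y_ne (hE : Eta X a b e x y z) : y ≠ 0 := by have := hE.my; omega
theorem Eta.z_ne (hE : Eta X a b e x y z) : z ≠ 0 := by have := hE.mz; omega

theorem conj_th (g : G) : conj (th X g) = th X g := by simp [th]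

theorem cfdot_th_comm {W : Subgroup G} {κ : ℕ} (h : cfdot W (th X) β = κ) :
    cfdot W β (th X) = κ := by rw [← cfdot_conj, h, map_natCast]

/-- The values of the characters of the principal block of `L`. -/
structure LC (q s : ℤ) (c : Cfg G) (a b e : G → ℂ) : Prop extends Eta c.L a b e (-s) (-s) q where
  vT : ∀ y ∈ c.T, y ≠ 1 → a y = 0 ∧ b y = 0 ∧ e y = -1
  vR : ∀ y ∈ c.R, y ≠ 1 → a y = -1 ∧ b y = -1 ∧ e y = 1
  vQ : ∀ y ∈ c.Q, y ≠ 1 → e y = 0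

namespace LD

variable (h : LD q r s p c)
include h

theorem natAbs_qs : ((q.natAbs * s.natAbs : ℕ) : ℂ) = q * s := by
  have : ((q.natAbs * s.natAbs : ℕ) : ℤ) = q * s := by
    rw [← Int.natAbs_mul, Int.natCast_natAbs, abs_of_pos h.qs_pos]
  rw [← Int.cast_natCast, this, Int.cast_mul]
theorem natAbs_rs : ((r.natAbs * s.natAbs : ℕ) : ℂ) = r * s := by
  have : ((r.natAbs * s.natAbs : ℕ) : ℤ) = r * s := by
    rw [← Int.natAbs_mul, Int.natCast_natAbs, abs_of_pos h.rs_pos]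
  rw [← Int.cast_natCast, this, Int.cast_mul]
theorem natAbs_rr : ((r.natAbs * r.natAbs : ℕ) : ℂ) = r * r := by
  rw [← Int.cast_natCast, Int.natAbs_mul_self, Int.cast_mul]
theorem rC : (r.natAbs : ℂ) ≠ 0 := by simpa using h.r_ne
theorem sC : (s.natAbs : ℂ) ≠ 0 := by simpa using h.s_ne
theorem qC : (q.natAbs : ℂ) ≠ 0 := by simpa using h.q_ne

theorem th_K (hg : g ∈ c.K) (h1 : g ≠ 1) : th c.L g = (2 * r.natAbs : ℕ) := by
  have : invs c.L g = ((c.L ⊓ 𝐂[c.u] : Subgroup G) : Set G) \ c.K := by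
    ext a
    refine ⟨fun ha => ?_, fun ha => ?_⟩
    · have hi := inverts_of_mem_invs ha
      by_cases hu : g ∈ zpowers c.u
      · obtain rfl := ((mem_zpowers_inv h.ou).1 hu).resolve_left h1
        refine ⟨⟨ha.1.1, mem_cent1_of_conj_eq (by rw [hi, h.four.ti])⟩, fun hK => ?_⟩
        have := ha.2.2
        rw [h.eq_u_of_mem_K ha.1.2 hK, h.uu, orderOf_one] at this
        omega
      · have hR : c.R ≠ ⊥ := fun e => hu (by simpa [Cfg.K, e] using hg)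
        refine ⟨(h.tiK hR).ti a ha.1.1 g ⟨hg, hu⟩ (hi ▸ ⟨inv_mem hg, mt inv_mem_iff.1 hu⟩),
          fun hK => hu ?_⟩
        rw [h.commK a hK g hg, mul_inv_cancel_right, eq_inv_iff_mul_eq_one] at hi
        rw [h.eq_u_of_mem_K (inv_of_mul_self hi h1) hg]; exact mem_zpowers _
    · obtain ⟨k1, k2⟩ := h.inv_of_notMem_K ha.1 ha.2
      exact mem_invs ha.1.1 (h.K_le hg).1 (inv_of_mul_self k1 fun e => ha.2 (e ▸ one_mem _))
        (k2 g hg) fun e => ha.2 (eq_inv_of_mul_eq_one_left e ▸ inv_mem hg)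
  rw [th, this, ncard_diff h.K_le h.idxK, h.cardK]

theorem th_T (hg : g ∈ c.T) (h1 : g ≠ 1) : th c.L g = s.natAbs := by
  have : invs c.L g = ((c.L ⊓ 𝐍(c.T) : Subgroup G) : Set G) \ c.T := by
    ext a
    refine ⟨fun ha => ?_, fun ha => ?_⟩
    · have hi := inverts_of_mem_invs ha
      exact ⟨h.tiT.ti a ha.1.1 g ⟨hg, h1⟩ (hi ▸ ⟨inv_mem hg, by simpa using h1⟩),
        notMem_of_odd ha.1.2 h.oddT⟩
    · obtain ⟨k1, k2⟩ := h.inv_of_notMem_T ha.1 ha.2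
      exact mem_invs ha.1.1 (h.TL hg) (inv_of_mul_self k1 fun e => ha.2 (e ▸ one_mem _))
        (k2 g hg) fun e => ha.2 (eq_inv_of_mul_eq_one_left e ▸ inv_mem hg)
  rw [th, this, ncard_diff h.T_le h.idxT, h.cardT]

theorem sigma (hE : Eta c.L a b e x y z) :
    (1 + 1 / x + 1 / y + 1 / z : ℚ) = 8 * r ^ 2 / (q * s) := by
  have h1 := h.v4.sigma hE
  rw [Finset.sum_congr rfl fun g hg => h.th_K (mul_mem h.u_mem_K (h.R_le_K (mem_elems.1 hg)))
    fun e => h.uR' (eq_inv_of_mul_eq_one_left e ▸ inv_mem (mem_elems.1 hg)), Finset.sum_const,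
    card_elems, h.card, h.cardR, nsmul_eq_mul] at h1
  have h2 := h.natAbs_qs
  have h3 := h.natAbs_rr
  have h4 := h.rC
  have h5 : (q * s : ℂ) ≠ 0 := by exact_mod_cast h.qs_pos.ne'
  refine Rat.cast_injective (α := ℂ) ?_
  push_cast at h1 h2 h3 ⊢
  rw [eq_div_iff h5, ← h2, sq, ← h3]
  exact mul_left_cancel₀ h4 (by linear_combination h1 / 4)

theorem betaT_mem {τ : G → ℂ} (hτ : IsIrr c.T τ) : cf1 c.T - τ ∈ ZIrr c.T :=
  sub_mem cf1_mem_ZIrr hτ.mem_ZIrr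

theorem betaT_zero {τ : G → ℂ} (hτ : IsIrr c.T τ) {g : G} (hg : g ∉ sharp c.T) :
    (cf1 c.T - τ) g = 0 := by
  by_cases e : g = 1
  · simp [e, cf1_apply c.T.one_mem, (hτ.isLin_of_comm h.commT).one]
  · exact CF_zero (ZIrr_mem_CF (h.betaT_mem hτ)) fun e' => hg ⟨e', e⟩

theorem betaT_even {τ : G → ℂ} {g : G} (hg : 2 ∣ orderOf g) :
    cfInd c.T c.L (cf1 c.T - τ) g = 0 :=
  cfInd_eq_zero fun x _ hx => absurd (odd_orderOf_of_mem h.oddT hx) (by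
    rw [U4.orderOf_conj, Nat.not_odd_iff_even]; exact even_iff_two_dvd.2 hg)

theorem betaT_norm {τ : G → ℂ} (hτ : IsIrr c.T τ) (h1 : τ ≠ cf1 c.T) :
    cfdot c.L (cfInd c.T c.L (cf1 c.T - τ)) (cfInd c.T c.L (cf1 c.T - τ)) = 3 := by
  have h2 : cfInd c.T (c.L ⊓ 𝐍(c.T)) (cf1 c.T - τ) ∈ CFon (c.L ⊓ 𝐍(c.T)) (sharp c.T) :=
    cfInd_mem_CFon h.tiT.conj_mem fun x hx => h.betaT_zero hτ hx
  rw [← cfInd_cfInd h.T_le inf_le_left, normedTI_isometry h.tiT h2 h2,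
    norm_ind h.T_le inf_le_right hτ h1 fun g hg => by
      by_contra e
      exact not_inertia h.oddT hτ h1 (h.inv_of_notMem_T hg.1 e).2 (fun _ _ => rfl) hg.2, h.idxT]
  norm_num

theorem decT (hE : Eta c.L a b e x y z) {τ : G → ℂ} (hτ : IsIrr c.T τ) (h1 : τ ≠ cf1 c.T) :
    (x = q ∧ cfdot c.T a (cf1 c.T - τ) = -1 ∧ cfdot c.T b (cf1 c.T - τ) = 0 ∧
      cfdot c.T e (cf1 c.T - τ) = 0) ∨
    (y = q ∧ cfdot c.T a (cf1 c.T - τ) = 0 ∧ cfdot c.T b (cf1 c.T - τ) = -1 ∧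
      cfdot c.T e (cf1 c.T - τ) = 0) ∨
    (z = q ∧ cfdot c.T a (cf1 c.T - τ) = 0 ∧ cfdot c.T b (cf1 c.T - τ) = 0 ∧
      cfdot c.T e (cf1 c.T - τ) = -1) := by
  have hl := hτ.isLin_of_comm h.commT
  obtain ⟨n, k1, k2, k3⟩ := hE.dec h.uL h.ou (ZIrr_cfInd h.TL (h.betaT_mem hτ)) (h.betaT_norm hτ h1)
    (by rw [cfdot_cfInd_left h.TL cf1_mem_CF, ← cfdot_conj,
      cfdot_const hl h1 (κ := 1) fun x hx _ => cf1_apply (h.TL hx), map_one])
    (by rw [cfInd_one h.TL, h.betaT_zero hτ one_notMem_sharp, mul_zero])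
    (h.betaT_even h.ou.symm.dvd) (ε := -1) (Or.inr rfl)
    (by rw [cfdot_cfInd_left h.TL hE.phi_mem, cfdot_eq_zero_of_supp fun x hx =>
      Or.inr (hE.phi_odd (odd_orderOf_of_mem h.oddT hx))]; simp) (θ := 4 * r / q) (by
      rw [Th_ind h.ou h.uL h.one h.TL, cfdot_th_comm (cfdot_const hl h1 fun x => h.th_T),
        h.card_cu, h.card]
      have h2 := h.natAbs_qs
      have h3 := h.natAbs_rs
      have h4 := h.rC
      have h5 := h.sC
      have h6 := h.qC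
      have h7 : (q : ℂ) ≠ 0 := by exact_mod_cast h.q_ne
      have h8 : (s : ℂ) ≠ 0 := by exact_mod_cast h.s_ne
      push_cast at h2 h3 ⊢
      field_simp
      exact mul_left_cancel₀ h8
        (by linear_combination (-(r.natAbs : ℂ)) * h2 + (q.natAbs : ℂ) * h3))
  have k4 : n = q := by
    have h7 : (q : ℚ) ≠ 0 := by exact_mod_cast h.q_ne
    rw [show ((1 : ℚ) + (-1 : ℤ)) ^ 2 = 0 by norm_num, zero_div] at k1
    have h8 : (n : ℚ) ≠ 0 := by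
      rintro e
      rw [e, h.hq] at k1
      have : (4 * r + 1 : ℚ) ≠ 0 := by rw [h.hq] at h7; exact_mod_cast h7
      push_cast at k1
      field_simp at k1
      linarith
    rw [show (4 * r : ℚ) = q - 1 by rw [h.hq]; push_cast; ring] at k1
    push_cast at k1
    field_simp at k1
    exact_mod_cast (by linarith : (n : ℚ) = q)
  rw [cfdot_cfInd_right h.TL hE.da.mem_CF, cfdot_cfInd_right h.TL hE.db.mem_CF,
    cfdot_cfInd_right h.TL hE.dc.mem_CF] at k3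
  simpa [k4, eq_comm (a := q)] using k3

theorem T_ne : c.T ≠ ⊥ := fun e => by
  have := h.cardT; rw [e, card_bot] at this; have := h.three_le; omega

theorem exists_eta : ∃ a b e, Eta c.L a b e (-s) (-s) q := by
  obtain ⟨a, b, e, x, y, hE⟩ : ∃ a b e x y, Eta c.L a b e x y q := by
    obtain ⟨a, b, e, x, y, z, hE⟩ := h.v4.exists_eta
    obtain ⟨τ, hτ, h1⟩ := exists_irr_ne h.T_ne
    rcases h.decT hE hτ h1 with ⟨rfl, -⟩ | ⟨rfl, -⟩ | ⟨rfl, -⟩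
    · exact ⟨_, _, _, _, _, hE.swap.swap'⟩
    · exact ⟨_, _, _, _, _, hE.swap'⟩
    · exact ⟨_, _, _, _, _, hE⟩
  have h1 := h.sigma hE
  have h2 := hE.sum
  have h3 : (x : ℚ) ≠ 0 := by exact_mod_cast hE.x_ne
  have h4 : (y : ℚ) ≠ 0 := by exact_mod_cast hE.y_ne
  have h5 : (q : ℚ) ≠ 0 := by exact_mod_cast h.q_ne
  have h6 : (s : ℚ) ≠ 0 := by exact_mod_cast h.s_ne
  field_simp at h1
  have h7 : (x * y + y + x) * q * s + x * y * s = 8 * r ^ 2 * x * y := by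
    have : (((x * y + y + x) * q * s + x * y * s : ℤ) : ℚ) = (8 * r ^ 2 * x * y : ℤ) := by
      push_cast; linear_combination h1
    exact_mod_cast this
  have hq := h.hq
  have hs := h.hs
  obtain rfl : y = -2 * s - x := by omega
  have h8 : q * (x + s) ^ 2 = 0 := by subst q s; linarith
  obtain rfl : x = -s := by
    have := pow_eq_zero_iff two_ne_zero |>.1 ((mul_eq_zero.1 h8).resolve_left h.q_ne); omega
  exact ⟨a, b, e, by rwa [show -2 * s - -s = -s by ring] at hE⟩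

theorem dprodK : DProdIn (zpowers c.u) c.R c.K :=
  dprodIn_of_sup (sup_comm _ _) (eq_bot_of_forall fun _ hx =>
    ((mem_zpowers_inv h.ou).1 hx.1).resolve_right fun e => h.uR' (e ▸ hx.2))
    fun x hx y hy => h.commK x (mem_sup_right hx) y (h.R_le_K hy)

theorem decR (hE : Eta c.L a b e (-s) (-s) q) {ρ : G → ℂ} (hρ : IsIrr c.R ρ) (h1 : ρ ≠ cf1 c.R) :
    cfdot c.R a (cf1 c.R - ρ) = -1 ∧ cfdot c.R b (cf1 c.R - ρ) = -1 ∧
      cfdot c.R e (cf1 c.R - ρ) = 1 := by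
  have hl := hρ.isLin_of_comm h.commR
  have hR : c.R ≠ ⊥ := fun e => h1 (by
    rw [hρ.eq_cf1_iff, e]; exact bot_le)
  have hd := h.dprodK
  have hKL : c.K ≤ c.L := h.K_le.trans inf_le_left
  set ρ' := cfProd (zpowers c.u) c.R (cf1 (zpowers c.u)) ρ with hρ'
  have i1 : IsIrr c.K ρ' := hd.isIrr (isIrr_cf1 _) hρ
  have i2 : ∀ x ∈ c.R, ρ' x = ρ x := fun x hx => by
    rw [← one_mul x, hρ', cfProd_apply hd.compl.2.2.1 (one_mem _) hx, cf1_apply (one_mem _),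
      one_mul, one_mul]
  have i3 : ρ' ≠ cf1 c.K := fun e => h1 (funext fun x => by
    by_cases hx : x ∈ c.R
    · rw [← i2 x hx, e, cf1_apply hx, cf1_apply (h.R_le_K hx)]
    · rw [CF_zero hρ.mem_CF hx, cf1_apply_of_notMem hx])
  have i4 : cf1 c.K - ρ' = cfProd (zpowers c.u) c.R (cf1 (zpowers c.u)) (cf1 c.R - ρ) := by
    rw [cfProd_sub_right, cfProd_cf1 hd.compl]
  have i5 : ∀ g, g ∉ (c.K : Set G) \ zpowers c.u → (cf1 c.K - ρ') g = 0 := fun g hg => by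
    by_cases e : g ∈ zpowers c.u
    · rw [i4, ← mul_one g, cfProd_apply hd.compl.2.2.1 e (one_mem _)]
      simp [cf1_apply c.R.one_mem, hl.one]
    · exact CF_zero (sub_mem cf1_mem_CF i1.mem_CF) fun e' => hg ⟨e', e⟩
  have i6 : ∀ φ ∈ CF c.L, cfdot c.L φ (cfInd c.K c.L (cf1 c.K - ρ')) =
      (cfdot c.R φ (cf1 c.R - ρ) + cfdot c.R (tr c.u φ) (cf1 c.R - ρ)) / 2 := fun φ hφ => by
    rw [cfdot_cfInd_right hKL hφ, i4, cfdot_prod hd.compl, cfdot_zpowers h.ou,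
      cf1_apply (one_mem _), cf1_apply (mem_zpowers _), show tr 1 φ = φ by ext; simp [tr]]
    simp
  have i7 : ∀ x ∈ c.R, c.u * x ∈ c.L ∧ 2 ∣ orderOf (c.u * x) := fun x hx =>
    ⟨mul_mem h.uL (h.RL hx), two_dvd_mul h.ou (h.uR x hx) (odd_orderOf_of_mem h.oddR hx)⟩
  have h2 := cfInd_mem_CFon (H := c.K) (h.tiK hR).conj_mem i5
  obtain ⟨n, k1, k2, k3⟩ := hE.dec h.uL h.ou (ZIrr_cfInd hKL (sub_mem cf1_mem_ZIrr i1.mem_ZIrr))
    (by
      rw [← cfInd_cfInd h.K_le inf_le_left, normedTI_isometry (h.tiK hR) h2 h2,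
        norm_ind h.K_le h.cu_norm_K i1 i3 fun g hg => by
          by_contra e
          exact not_inertia h.oddR hρ h1 ((h.inv_of_notMem_K hg.1 e).2.mono h.R_le_K) i2 hg.2,
        h.idxK]
      norm_num)
    (by rw [← cfdot_conj, i6 _ cf1_mem_CF, cfdot_const hl h1 (κ := 1) fun x hx _ =>
      cf1_apply (h.RL hx), cfdot_const hl h1 (κ := 1) (φ := tr c.u (cf1 c.L)) fun x hx _ =>
      cf1_apply (i7 x hx).1]; simp)
    (by rw [cfInd_one hKL, i5 1 fun e => e.2 (one_mem _), mul_zero])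
    (cfInd_eq_zero fun x _ hx => i5 _ fun e => e.2 (by
      rw [h.eq_u_of_mem_K (by rw [U4.orderOf_conj, h.ou]) hx]; exact mem_zpowers _))
    (ε := 1) (Or.inl rfl)
    (by rw [← cfdot_conj, i6 _ hE.phi_mem, cfdot_const hl h1 (κ := 0) fun x hx _ =>
      hE.phi_odd (odd_orderOf_of_mem h.oddR hx), cfdot_const hl h1 (κ := 4)
      (φ := tr c.u (cf1 c.L + a + b + e)) fun x hx _ => hE.phi_even (i7 x hx).1 (i7 x hx).2]; norm_num [map_ofNat])
    (θ := 8 * r ^ 2 / (q * s)) (by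
      rw [Th_eq h.ou h.uL h.one cfInd_mem_CF, cfdot_th_comm (κ := 2 * r.natAbs) (by
        rw [i6 _ th_mem_CF, cfdot_const hl h1 fun x hx => h.th_K (h.R_le_K hx),
          cfdot_const hl h1 (φ := tr c.u (th c.L)) fun x hx _ =>
            h.th_K (mul_mem h.u_mem_K (h.R_le_K hx))
            fun e => h.uR' (eq_inv_of_mul_eq_one_left e ▸ inv_mem hx)]; ring),
        h.card_cu, h.card]
      have h2 := h.natAbs_qs
      have h3 := h.natAbs_rr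
      have h4 := h.rC
      have h5 := h.sC
      have h6 := h.qC
      push_cast at h2 h3 ⊢
      rw [← h2, sq (r : ℂ), ← h3]
      field_simp
      ring)
  have hn : n ≠ -s := by
    rintro rfl
    have h5 : (q : ℚ) ≠ 0 := by exact_mod_cast h.q_ne
    have h6 : (s : ℚ) ≠ 0 := by exact_mod_cast h.s_ne
    have h7 : (1 - s : ℚ) ≠ 0 := by exact_mod_cast (by omega : 1 - s ≠ 0)
    rw [show ((1 : ℚ) + (1 : ℤ) * (-s : ℤ)) = 1 - s by push_cast; ring] at k1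
    push_cast at k1
    field_simp at k1
    have h8 : ((4 * (3 * r + 1) ^ 2 : ℤ) : ℚ) = 0 := by
      rw [h.hq, h.hs] at k1; push_cast at k1 ⊢; linear_combination k1
    have h9 : 4 * (3 * r + 1) ^ 2 = 0 := by exact_mod_cast h8
    have := pow_eq_zero_iff two_ne_zero |>.1 ((mul_eq_zero.1 h9).resolve_left (by norm_num))
    omega
  obtain ⟨-, k4, k5, k6⟩ := (k3.resolve_left fun e => hn e.1).resolve_left fun e => hn e.1
  rw [i6 _ hE.da.mem_CF, cfdot_const hl h1 (φ := tr c.u a) fun x hx _ =>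
    (hE.even _ (i7 x hx).1 (i7 x hx).2).1] at k4
  rw [i6 _ hE.db.mem_CF, cfdot_const hl h1 (φ := tr c.u b) fun x hx _ =>
    (hE.even _ (i7 x hx).1 (i7 x hx).2).2.1] at k5
  rw [i6 _ hE.dc.mem_CF, cfdot_const hl h1 (φ := tr c.u e) fun x hx _ =>
    (hE.even _ (i7 x hx).1 (i7 x hx).2).2.2] at k6
  push_cast at k6
  exact ⟨by linear_combination 2 * k4, by linear_combination 2 * k5, by linear_combination 2 * k6⟩

theorem eq_bot_of_normal {N : Subgroup G} (hN : N ≤ c.L) (hn : c.L ≤ 𝐍(N)) (hne : ¬ c.L ≤ N) :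
    N = ⊥ := by
  have := h.simple
  rcases (normal_subgroupOf_of_le_norm hn).eq_bot_or_eq_top with e | e
  · rwa [subgroupOf_eq_bot, disjoint_iff, inf_eq_left.2 hN] at e
  · exact absurd (subgroupOf_eq_top.1 e) hne

theorem vanish_Q {χ : G → ℂ} (hχ : IsIrr c.L χ) (h1 : χ 1 = q.natAbs) (hg : g ∈ c.Q)
    (hg1 : g ≠ 1) : χ g = 0 := by
  refine (hχ.1.eq_zero_or_norm_eq (n := q.natAbs) h1 ⟨g, h.QL hg⟩ ?_).resolve_right fun e => ?_
  · have := card_mul_index (centralizer ({⟨g, h.QL hg⟩} : Set c.L))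
    rw [card_centralizer_subgroup, h.cent_eq_Q hg hg1, ← card_mul_relIndex h.QL] at this
    rw [Nat.eq_of_mul_eq_mul_left Nat.card_pos this]
    exact h.cop_Q.symm
  · have h2 := h.eq_bot_of_normal cfker_le (cfker_normal hχ.mem_CF) fun e' => by
      rw [hχ.eq_cf1_iff.2 e', cf1_apply (one_mem _)] at h1
      have : 1 = q.natAbs := by exact_mod_cast h1
      have := h.five_le; omega
    have h3 := hχ.isChar.commutator_mem_cfker (h.QL hg) e h.uL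
    rw [h2, mem_bot, mul_inv_eq_one, mul_inv_eq_iff_eq_mul] at h3
    exact notMem_of_odd h.ou h.oddQ (h.centQ g hg hg1 _ h.uL h3)

theorem exists_lc : ∃ a b e, LC q s c a b e := by
  obtain ⟨a, b, e, hE⟩ := h.exists_eta
  have hs : -s ≠ q := by have := h.hq; have := h.hs; omega
  have k1 := fun τ hτ h1 => (((h.decT hE (τ := τ) hτ h1).resolve_left fun e => hs e.1).resolve_left
    fun e => hs e.1).2
  refine ⟨a, b, e, hE, fun y hy h1 => ⟨(apply_of_cfdot h.commT (fun τ h1 h2 => (k1 τ h1 h2).1)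
    hy).1 h1, (apply_of_cfdot h.commT (fun τ h1 h2 => (k1 τ h1 h2).2.1) hy).1 h1,
    (apply_of_cfdot h.commT (fun τ h1 h2 => (k1 τ h1 h2).2.2) hy).1 h1⟩, fun y hy h1 =>
    ⟨(apply_of_cfdot h.commR (fun τ h1 h2 => (h.decR hE h1 h2).1) hy).1 h1,
    (apply_of_cfdot h.commR (fun τ h1 h2 => (h.decR hE h1 h2).2.1) hy).1 h1,
    (apply_of_cfdot h.commR (fun τ h1 h2 => (h.decR hE h1 h2).2.2) hy).1 h1⟩, fun y hy h1 => ?_⟩
  have key : ∀ χ, IsIrr c.L χ → (χ 1 = q ∨ χ 1 = -q) → χ y = 0 := fun χ hχ h2 => by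
    obtain ⟨n, -, hn⟩ := hχ.exists_nat_one
    refine h.vanish_Q hχ ?_ hy h1
    have : (n : ℤ) = q ∨ (n : ℤ) = -q := by rw [hn] at h2; exact_mod_cast h2
    rw [hn, show q.natAbs = n by omega]
  rcases hE.dc with h2 | h2
  · exact key e h2 (Or.inl hE.zc)
  · simpa using key _ h2 (Or.inr (by simp [hE.zc]))

end LD

end CfsgLib.JR
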