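import Cfsg.Agent.Lib.JR.NormV
import Cfsg.Agent.Lib.JR.CFT

/-!
# Centralizers of elements of `R`, first part
-/

set_option autoImplicit false
set_option linter.unusedSimpArgs false
set_option linter.unusedSectionVars false

namespace CfsgLib.JR

open Subgroup Cfsg CfsgLib.FT CfsgLib.FT.BGN CfsgLib.FT.U4 CfsgLib.GW

variable {G : Type*} [Group G] [Fintype G] {q r s : ℤ} {p : ℕ} {c : Cfg G} {a b g n x y z w j : G}
  {H M N P A B : Subgroup G}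

omit [Fintype G] in
theorem eq_inv_of_odd (hz : Odd (orderOf z)) (e : z * x * z⁻¹ = x⁻¹) : x = x⁻¹ := by
  rw [← e, ← conj_pow_odd hz, pow_orderOf_eq_one]
  · simp
  · rw [show z * z * x * (z * z)⁻¹ = z * (z * x * z⁻¹) * z⁻¹ by group, e, ← conj_inv, e, inv_inv]

omit [Fintype G] in
theorem odd_sup' (hn : A ≤ 𝐍(B)) (hA : Odd (Nat.card A)) (hB : Odd (Nat.card B)) :
    Odd (Nat.card ↥(B ⊔ A)) := by
  rw [sup_comm]; exact (hA.mul hB).of_dvd_nat (card_sup_dvd_mul hn)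

omit [Fintype G] in
theorem odd_zpowers (h : Odd (orderOf g)) : Odd (Nat.card (zpowers g)) := by
  rwa [Nat.card_zpowers]

theorem mem_zpowers_of_prime (h : (orderOf w).Prime) (hz : z ∈ zpowers w) (h1 : z ≠ 1) :
    w ∈ zpowers z := by
  rw [U4.zpowers_eq_of_card_prime (by rwa [Nat.card_zpowers]) hz h1]; exact mem_zpowers w

omit [Fintype G] in
theorem mem_zpowers_three (h : orderOf w = 3) (hz : z ∈ zpowers w) : z = 1 ∨ z = w ∨ z = w⁻¹ := by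
  obtain ⟨k, rfl⟩ := mem_zpowers_iff.1 hz
  have h3 : w ^ (3 : ℤ) = 1 := by rw [← pow_orderOf_eq_one w, h, ← zpow_natCast]; rfl
  rw [← Int.mul_ediv_add_emod k 3, zpow_add, zpow_mul, h3, one_zpow, one_mul]
  rcases (by omega : k % 3 = 0 ∨ k % 3 = 1 ∨ k % 3 = 2) with e | e | e <;> rw [e]
  · simp
  · simp
  · exact Or.inr (Or.inr (by rw [eq_inv_iff_mul_eq_one, ← h3]; group))

theorem burnside {k : ℕ} [Fact k.Prime] (hS : IsSylowIn k P M) (h : M ⊓ 𝐍(P) ≤ 𝐂(P)) :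
    (∀ g ∈ M, (orderOf g).Coprime k → g ∈ piCoreOf {k}ᶜ M) ∧ piCoreOf {k}ᶜ M ⊔ P = M := by
  obtain ⟨Q, hQ⟩ := hS.exists_sylow
  have hn : HasNormalPComplement k M := by
    refine PCompl.hnpc_of_normalizer_le_centralizer Q fun g hg => ?_
    rw [hQ] at hg ⊢
    have h1 : (g : G) ∈ 𝐍(P) := mem_norm_of fun x hx => norm_mem (x := ⟨x, hS.le hx⟩) hg hx
    exact mem_cent.2 fun x hx => Subtype.ext (mem_cent.1 (h ⟨g.2, h1⟩) x hx)
  rw [← H1.map_pPrimeCore_eq_piCoreOf, PCompl.hnpc_pPrimeCore_eq_pResidual hn]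
  refine ⟨fun g hg hc => ⟨⟨g, hg⟩, ?_, rfl⟩, ?_⟩
  · rw [SetLike.mem_coe, PCompl.hnpc_mem_pResidual_iff hn, ← orderOf_coe]
    exact hc
  · have h1 := (PCompl.hnpc_isComplement' hn Q).sup_eq_top
    rw [← H1.map_subtype_subgroupOf hS.le, ← hQ, ← Subgroup.map_sup, h1, ← MonoidHom.range_eq_map,
      range_subtype]

namespace GD

variable (h : GD q r s p c)
include h

theorem not_four_dvd (ha : orderOf a = 2) (haM : a ∈ M) (h4 : ¬ 4 ∣ Nat.card ↥(M ⊓ 𝐂[a])) :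
    ¬ 4 ∣ Nat.card M := fun e => by
  obtain ⟨P, h1, hP⟩ := IsSylowIn.exists_ge (isPGroup_zpowers ha) (zpowers_le.2 haM)
  obtain ⟨Q, hQ⟩ := Sylow.exists_subgroup_card_pow_prime 2 (n := 2) e
  have h2 := hP.card_dvd (Q := Q.map M.subtype) (IsPGroup.of_card (n := 2) (by
    rw [card_subtype, hQ])) (map_subtype_le _)
  rw [card_subtype, hQ] at h2
  exact h4 (h2.trans (card_dvd_of_le (le_inf hP.le fun g hg =>
    mem_cent1.2 (h.two_comm hP.isPGroup hg (h1 (mem_zpowers a))))))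

theorem conj_cv (hg : g ∈ 𝐂(V c.t c.u)) (hx : x ∈ c.R) : g * x * g⁻¹ = x ∨ g * x * g⁻¹ = x⁻¹ := by
  by_cases e : g ∈ c.W
  · exact Or.inl (by rw [h.commW e (h.R_le_W hx), mul_inv_cancel_right])
  · exact Or.inr (h.inverts_of_cv hg e x hx)

theorem W_le_cx (hx : x ∈ c.R) : c.W ≤ 𝐂[x] := fun _ hg => mem_cent1.2 (h.commW hg (h.R_le_W hx))

variable (hx : x ∈ c.R) (h1 : x ≠ 1)
include hx h1

theorem ne_inv : x ≠ x⁻¹ := fun e =>
  h1 (eq_one_of_odd_of_mul_self (odd_orderOf_of_mem h.oddR hx) (eq_inv_iff_mul_eq_one.1 e))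

theorem sylowV : IsSylowIn 2 (V c.t c.u) 𝐂[x] :=
  IsSylowIn.of_maximal (h.V_le_W.trans (h.W_le_cx hx)) h.four_tu.isPGroup_V fun _ hT h2 h3 _ hg =>
    h.mem_V_of_W (h.mem_W_of_ct hx h1 (mem_cent1.2 (h.two_comm hT hg (h2 (t_mem_V _ _)))) (h3 hg))
      (h.two_sq hT hg)

variable (hw : WD c w j)
include hw

theorem odd_le_R (hN : N ≤ 𝐂[x]) (hn : V c.t c.u ≤ 𝐍(N)) (ho : Odd (Nat.card N)) : N ≤ c.R := by
  have key : ∀ a ∈ V c.t c.u, a ≠ 1 → N ⊓ 𝐂[a] ≤ c.R := fun a ha ha1 g hg =>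
    h.mem_R_of_odd' (h.W_le_cv (h.mem_W_of_ca hw hx h1 ha ha1 hg.2 (hN hg.1)))
      (odd_orderOf_of_mem ho hg.1)
  exact h.four_tu.le_of_cent_le ho hn (key _ (t_mem_V _ _) h.four_tu.t1)
    (key _ (s_mem_V _ _) h.four_tu.s1)
    (key _ (mul_mem (t_mem_V _ _) (s_mem_V _ _)) h.four_tu.ts1)

theorem nv_cent (hg : g ∈ 𝐍(V c.t c.u)) (e : g ∈ 𝐂[x]) :
    ∃ z ∈ zpowers w, z ∈ 𝐂[x] ∧ z⁻¹ * g ∈ c.W := by
  obtain ⟨z, hz, h2⟩ := h.exists_cv hw hg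
  have h3 : z⁻¹ * g * x * (z⁻¹ * g)⁻¹ = z⁻¹ * x * z⁻¹⁻¹ := by
    conv_rhs => rw [← conj_eq_of_mem_cent1 e]
    group
  have h4 : z⁻¹ ∈ 𝐂[x] := mem_cent1_of_conj_eq ((h3 ▸ h.conj_cv h2 hx).resolve_right fun e =>
    h.ne_inv hx h1 (eq_inv_of_odd (odd_orderOf_of_mem (odd_zpowers (by rw [hw.ow]; decide))
      (inv_mem hz)) e))
  exact ⟨z, hz, inv_mem_iff.1 h4, h.mem_W_of_cv hx h1 h2 (mul_mem h4 e)⟩

theorem cent_eq_W (hn : w ∉ 𝐂[x]) : 𝐂[x] = c.W := by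
  refine le_antisymm ?_ (h.W_le_cx hx)
  rw [← (burnside (h.sylowV hx h1) fun g hg => ?_).2]
  · exact sup_le ((h.odd_le_R hx h1 hw (Od_le _) ((h.sylowV hx h1).le.trans (le_norm_Od _))
      (odd_Od _)).trans h.R_le_W) h.V_le_W
  · obtain ⟨z, hz, h2, h3⟩ := h.nv_cent hx h1 hw hg.2 hg.1
    obtain rfl : z = 1 := by
      by_contra e
      exact hn (zpowers_le.2 h2 (mem_zpowers_of_prime (hw.ow ▸ Nat.prime_three) hz e))
    exact h.W_le_cv (by simpa using h3)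

theorem cx_cu : 𝐂[x] ⊓ 𝐂[c.u] = c.W :=
  le_antisymm (fun _ hg => h.mem_W_of_ca hw hx h1 (s_mem_V _ _) h.four.t1 hg.2 hg.1)
    (le_inf (h.W_le_cx hx) (h.W_le_cv.trans (U4.cent_le_cent1 (s_mem_V _ _))))

omit hx h1 in
theorem conj_w' (ha : a ∈ V c.t c.u) (ha1 : a ≠ 1) : ∃ z ∈ zpowers w, z * a * z⁻¹ = c.u := by
  obtain ⟨z, hz, rfl⟩ := h.conj_w hw ha ha1
  exact ⟨w * z⁻¹, mul_mem (mem_zpowers w) (inv_mem hz), by rw [← hw.wt]; group⟩

omit hx h1 in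
theorem w_R : w ∉ c.R := fun e =>
  h.four_tu.ne ((conj_eq_of_mem_cent1 (h.L_le (h.RL e))).symm.trans hw.wt)

omit hx h1 in
theorem card_Rw : Nat.card ↥(c.R ⊔ zpowers w) = 3 * r.natAbs := by
  rw [sup_comm, card_sup_of_disjoint (zpowers_le.2 (h.nv_R (h.w_nv hw))), Nat.card_zpowers, hw.ow,
    h.cardR]
  exact (inf_eq_bot_or_le_of_card_prime (by rw [Nat.card_zpowers, hw.ow]; exact Nat.prime_three)
    _).resolve_right fun e => h.w_R hw (e (mem_zpowers w))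

variable (hwx : w ∈ 𝐂[x])
include hwx

theorem v4x : V4 𝐂[x] c.u c.R := by
  have hW := h.cx_cu hx h1 hw
  refine ⟨h.ou, h.W_le_cx hx (h.K_le_W h.u_mem_K), hW ▸ h.R_le_W, ?_, h.oddR, fun g hg e ho => ?_,
    ?_, fun g hg e => ?_, c.t, h.W_le_cx hx h.t_W, h.four_tu.symm⟩
  · rw [hW]; exact fun g hg => mem_norm_of_comm fun y hy => h.commW (h.R_le_W hy) hg
  · exact h.mem_R_of_odd' (h.W_le_cv (hW ▸ mem_inf.2 ⟨hg, mem_cent1.2 e⟩)) ho
  · have := card_mul_relIndex h.R_le_W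
    rw [h.card_W, h.cardR, mul_comm 4] at this
    rw [hW, Nat.eq_of_mul_eq_mul_left (Int.natAbs_pos.2 h.r_ne) this]
  · obtain ⟨a, ha, ho⟩ := exists_inv_pow e
    obtain ⟨z, hz, h2⟩ := (h.sylowV hx h1).exists_conj_le (isPGroup_zpowers ho)
      (zpowers_le.2 (zpowers_le.2 hg ha))
    obtain ⟨b, hb, y, hy, e2⟩ := h.exists_VR (h.mem_W_of_ca hw hx h1
      (h2 (conj_mem_conj_iff.2 (mem_zpowers a))) (conj_ne_one_iff.2 (ne_one_of_inv ho))
      (conj_cent z (comm_of_mem_zpowers ha)) (cmem hz hg))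
    obtain ⟨z', hz', e3⟩ := h.conj_w' hw hb (by
      rintro rfl
      have := odd_orderOf_of_mem h.oddR hy
      rw [← one_mul y, e2, U4.orderOf_conj] at this
      exact Nat.not_even_iff_odd.2 this (even_iff_two_dvd.2 e))
    refine ⟨z' * z, mul_mem (zpowers_le.2 hwx hz') hz, z' * y * z'⁻¹,
      norm_mem (h.nv_R (zpowers_le.2 (h.w_nv hw) hz')) hy, ?_⟩
    rw [← e3, conj_mul, e2]; group

theorem card_cx_le : Nat.card 𝐂[x] ≤ 60 * r.natAbs := by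
  classical
  have h4 := h.v4x hx h1 hw hwx
  obtain ⟨a, b, e, x1, x2, x3, hE⟩ := h4.exists_eta
  have h2 := h4.sigma hE
  have hW := h.cx_cu hx h1 hw
  have h3 : ∀ g ∈ c.R, ∀ a ∈ invs 𝐂[x] (c.u * g), a ∈ V c.t c.u ∧ g = 1 := fun g hg a ha => by
    have hi := inverts_of_mem_invs ha
    have ho := odd_orderOf_of_mem h.oddR hg
    rw [mul_inv_rev, h.four.ti, (Commute.inv_left (h.uR g hg)).eq] at hi
    obtain ⟨k1, k2⟩ := conj_eq_of_odd h.ou h.ou ho (by rwa [orderOf_inv]) (h.uR g hg)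
      (Commute.inv_left (h.uR g hg)).eq hi
    have k3 : a ∈ c.W := hW ▸ mem_inf.2 ⟨ha.1.1, mem_cent1_of_conj_eq k1⟩
    exact ⟨h.mem_V_of_W k3 (mul_self_of_inv ha.1.2),
      eq_one_of_inv_of_comm ho k2 (h.commW (h.R_le_W hg) k3)⟩
  have h5 : invs 𝐂[x] (c.u * 1) = {c.t, c.t * c.u} := by
    ext a
    refine ⟨fun ha => ?_, ?_⟩
    · rcases h.four_tu.mem_V.1 (h3 1 (one_mem _) a ha).1 with e | e | e | e
      · exact absurd e (ne_one_of_inv ha.1.2)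
      · exact Or.inl e
      · exact absurd (by rw [e, mul_one, h.uu]) (ne_one_of_inv ha.2.2)
      · exact Or.inr e
    · have k1 := h.W_le_cx hx h.t_W
      have k2 : c.t * c.u ∈ 𝐂[x] := mul_mem k1 h4.uX
      rintro (rfl | rfl)
      · exact ⟨⟨k1, h.ot⟩, by rw [mul_one]; exact ⟨k2, h.four_tu.ots⟩⟩
      · exact ⟨⟨k2, h.four_tu.ots⟩, by rw [mul_one, mul_assoc, h.uu, mul_one]; exact ⟨k1, h.ot⟩⟩
  rw [Finset.sum_eq_single_of_mem 1 (mem_elems.2 c.R.one_mem) fun g hg h6 => by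
    rw [th, Set.eq_empty_of_forall_notMem fun a ha => h6 (h3 g (mem_elems.1 hg) a ha).2]; simp,
    th, h5, Set.ncard_pair (by simpa using h.four.t1), h.cardR] at h2
  have h6 : (1 + 1 / x1 + 1 / x2 + 1 / x3 : ℚ) * Nat.card 𝐂[x] = 32 * r.natAbs := by
    refine Rat.cast_injective (α := ℂ) ?_
    push_cast at h2 ⊢
    linear_combination h2
  have h7 := num_lower' hE.mx hE.my hE.mz hE.sum
  have : (Nat.card 𝐂[x] : ℚ) ≤ 60 * r.natAbs := by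
    nlinarith [(Nat.cast_nonneg _ : (0 : ℚ) ≤ Nat.card 𝐂[x])]
  exact_mod_cast this

theorem card_nv : Nat.card ↥(𝐂[x] ⊓ 𝐍(V c.t c.u)) = 12 * r.natAbs := by
  have h2 : zpowers w ≤ 𝐍(c.W) := zpowers_le.2 (h.nv_W (h.w_nv hw))
  have : 𝐂[x] ⊓ 𝐍(V c.t c.u) = zpowers w ⊔ c.W := by
    refine le_antisymm (fun g hg => ?_) (sup_le (zpowers_le.2 ⟨hwx, h.w_nv hw⟩)
      (le_inf (h.W_le_cx hx) (h.W_le_cv.trans (U4.cent_le_norm _))))
    obtain ⟨z, hz, -, e⟩ := h.nv_cent hx h1 hw hg.2 hg.1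
    exact (mul_mem_cancel_left (mem_sup_left (inv_mem hz))).1 (mem_sup_right e)
  rw [this, card_sup_of_disjoint h2, Nat.card_zpowers, hw.ow, h.card_W]
  · ring
  exact (inf_eq_bot_or_le_of_card_prime (by rw [Nat.card_zpowers, hw.ow]; exact Nat.prime_three)
    _).resolve_right fun e => h.w_R hw (h.mem_R_of_odd' (h.W_le_cv (e (mem_zpowers w)))
      (by rw [hw.ow]; decide))

theorem cx_cases : 𝐂[x] ≤ 𝐍(c.R) ∧
    (Nat.card 𝐂[x] = 12 * r.natAbs ∨ Nat.card 𝐂[x] = 60 * r.natAbs) := by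
  have hr := Int.natAbs_pos.2 h.r_ne
  have h2 := card_mul_relIndex (inf_le_left : 𝐂[x] ⊓ 𝐍(V c.t c.u) ≤ _)
  rw [h.card_nv hx h1 hw hwx] at h2
  by_cases hn : 𝐂[x] ≤ 𝐍(V c.t c.u)
  · exact ⟨hn.trans h.nv_R, Or.inl (by rw [← h.card_nv hx h1 hw hwx, inf_eq_left.2 hn])⟩
  obtain ⟨K, k1, k2, k3⟩ := exists_core (𝐂[x] ⊓ 𝐍(V c.t c.u)) 𝐂[x]
  have hV := (h.sylowV hx h1).le
  have k4 : K ≤ c.R := h.odd_le_R hx h1 hw (k1.trans inf_le_left) (hV.trans k2) (by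
    by_contra ho
    refine hn fun g hg => mem_norm_of fun a ha => ?_
    by_cases e : a = 1
    · simp [e]
    have k5 : orderOf (g * a * g⁻¹) = 2 := by
      rw [U4.orderOf_conj, inv_of_mul_self (h.four_tu.mul_self_of_mem ha) e]
    have k6 := k1 ((h.v4x hx h1 hw hwx).oneCl.mem_of_not_odd (k1.trans inf_le_left) k2 ho k5
      (cmem hg (hV ha)))
    exact ((h.sylowV hx h1).eq_of_le (H1.isPGroup_sup_of_le_normalizer (isPGroup_zpowers k5)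
      h.four_tu.isPGroup_V (zpowers_le.2 k6.2)) le_sup_right
      (sup_le (zpowers_le.2 k6.1) hV)).le (mem_sup_left (mem_zpowers _)))
  have h3 := h.card_cx_le hx h1 hw hwx
  have h4 : ¬ 2 ∣ (𝐂[x] ⊓ 𝐍(V c.t c.u)).relIndex 𝐂[x] := fun e => (h.sylowV hx h1).not_dvd
    (e.trans (relIndex_dvd_of_le_left _ (le_inf hV le_normalizer)))
  have h5 := relIndex_mul_relIndex _ _ _ k4 (h.R_le_W.trans (h.W_le_cx hx))
  have h6 := card_mul_relIndex (h.R_le_W.trans (h.W_le_cx hx))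
  have h7 : (𝐂[x] ⊓ 𝐍(V c.t c.u)).relIndex 𝐂[x] ≠ 1 := fun e =>
    hn ((relIndex_eq_one.1 e).trans inf_le_right)
  have h8 := card_mul_relIndex k4
  generalize (𝐂[x] ⊓ 𝐍(V c.t c.u)).relIndex 𝐂[x] = n at *
  rw [h.cardR, ← h2, show 12 * r.natAbs * n = r.natAbs * (12 * n) by ring] at h6
  rw [← h5, Nat.eq_of_mul_eq_mul_left hr h6] at k3
  have h9 : n ≤ 5 := by nlinarith
  obtain rfl | rfl : n = 3 ∨ n = 5 := by omega
  · exact absurd ((Dvd.intro_left _ rfl).trans k3) (by decide)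
  · have : K.relIndex c.R ∣ 2 := Nat.dvd_of_mul_dvd_mul_right (k := 12 * 5) (by norm_num) k3
    have h10 : K.relIndex c.R = 1 := ((Nat.dvd_prime Nat.prime_two).1 this).resolve_right fun e =>
      Nat.not_even_iff_odd.2 h.oddR (by rw [← h8, e]; simp)
    exact ⟨le_antisymm k4 (relIndex_eq_one.1 h10) ▸ k2, Or.inr (by omega)⟩

theorem odd_le_Rw (hA : A ≤ 𝐂[x]) (ho : Odd (Nat.card A)) (hwA : w ∈ A) :
    A ≤ c.R ⊔ zpowers w := by
  obtain ⟨h2, h3⟩ := h.cx_cases hx h1 hw hwx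
  have hr := Int.natAbs_pos.2 h.r_ne
  have hR := h.R_le_W.trans (h.W_le_cx hx)
  have h4 := odd_sup' (hA.trans h2) ho h.oddR
  have h5 : c.R ⊔ zpowers w ≤ c.R ⊔ A := sup_le_sup_left (zpowers_le.2 hwA) _
  have h6 := card_mul_relIndex h5
  have h7 := card_mul_relIndex (sup_le hR hA)
  refine le_sup_right.trans (relIndex_eq_one.1 ?_ : c.R ⊔ A ≤ _)
  obtain ⟨K, k1, k2, k3⟩ := exists_core (c.R ⊔ A) 𝐂[x]
  have k4 : K ≤ c.R := h.odd_le_R hx h1 hw (k1.trans (sup_le hR hA))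
    ((h.sylowV hx h1).le.trans k2) (odd_card_of_le h4 k1)
  have k5 := (relIndex_dvd_of_le_left 𝐂[x] k4).trans k3
  have k6 := card_mul_relIndex hR
  rw [← h6, h.card_Rw hw] at h7 h4
  rw [h.cardR] at k6
  generalize (c.R ⊔ zpowers w).relIndex (c.R ⊔ A) = a at *
  generalize (c.R ⊔ A).relIndex 𝐂[x] = b at *
  have h8 := Nat.odd_iff.1 (Nat.odd_mul.1 h4).2
  rcases h3 with e | e
  · have : a * b = 4 := Nat.eq_of_mul_eq_mul_left (by omega : 0 < 3 * r.natAbs) (by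
      rw [← mul_assoc, h7, e]; ring)
    have := Nat.le_of_dvd (by norm_num) (Dvd.intro _ this)
    interval_cases a <;> omega
  · have : a * b = 20 := Nat.eq_of_mul_eq_mul_left (by omega : 0 < 3 * r.natAbs) (by
      rw [← mul_assoc, h7, e]; ring)
    have := Nat.le_of_dvd (by norm_num) (Dvd.intro _ this)
    rw [e, mul_comm 60] at k6
    rw [Nat.eq_of_mul_eq_mul_left hr k6] at k5
    interval_cases a <;> try omega
    obtain rfl : b = 4 := by omega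
    exact absurd k5 (by decide)

end GD

end CfsgLib.JR
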