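import Cfsg.Agent.Lib.JR.LocA
import Cfsg.Agent.Lib.FT.Wielandt

/-!
# Centralizers of elements of `R`
-/

set_option autoImplicit false
set_option linter.unusedSimpArgs false
set_option linter.unusedSectionVars false

namespace CfsgLib.JR

open Subgroup Cfsg CfsgLib.FT CfsgLib.FT.BGN CfsgLib.FT.U4 CfsgLib.GW

variable {G : Type*} [Group G] [Fintype G] {q r s : ℤ} {p : ℕ} {c : Cfg G} {a b g n x y z w j : G}
  {H M N P A B : Subgroup G}

theorem abs3 (ha : orderOf a = 3) (hw : orderOf w = 3) (haw : a * w = w * a)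
    (ja : j * a * j⁻¹ = a⁻¹) (jw : j * w = w * j) (nw : n * w * n⁻¹ = a)
    (na : n * a * n⁻¹ ∈ zpowers a ⊔ zpowers w) (hsq : ∀ g : G, Odd (orderOf (g * g)))
    (hX : ∀ g, Odd (orderOf g) → g ∈ 𝐂[a] → g ∈ 𝐍(zpowers a ⊔ zpowers w) → g ∈ 𝐂[w]) : False := by
  have oa : Odd (orderOf a) := by rw [ha]; decide
  have a1 : a ≠ a⁻¹ := fun e => by
    have := eq_one_of_odd_of_mul_self oa (eq_inv_iff_mul_eq_one.1 e)
    rw [this, orderOf_one] at ha; omega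
  have jw' := conj_eq_of_mem_cent1 (mem_cent1.2 jw)
  have P1 : ∀ φ : G, φ * w * φ⁻¹ = a → φ * a * φ⁻¹ ≠ w⁻¹ := fun φ h1 h2 =>
    a1 (eq_inv_of_odd (hsq φ) (by
      rw [show φ * φ * a * (φ * φ)⁻¹ = φ * (φ * a * φ⁻¹) * φ⁻¹ by group, h2, ← conj_inv, h1]))
  have wa : zpowers w ≤ 𝐂(zpowers a) := by
    rw [U4.cent_zpowers, zpowers_le]; exact mem_cent1.2 haw.symm
  have hE : ∀ g : G, g * a * g⁻¹ ∈ zpowers a ⊔ zpowers w → g * w * g⁻¹ ∈ zpowers a ⊔ zpowers w →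
      g ∈ 𝐍(zpowers a ⊔ zpowers w) := fun g h1 h2 => mem_norm_of fun x hx => by
    have : g •ᶜ (zpowers a ⊔ zpowers w) ≤ zpowers a ⊔ zpowers w := by
      rw [conj_sup, ← zpowers_conj, ← zpowers_conj]
      exact sup_le (zpowers_le.2 h1) (zpowers_le.2 h2)
    exact this (conj_mem_conj_iff.2 hx)
  have jE := hE j (ja ▸ mem_sup_left (inv_mem (mem_zpowers a))) (jw'.symm ▸ mem_sup_right
    (mem_zpowers w))
  have nE := hE n na (by rw [nw]; exact mem_sup_left (mem_zpowers a))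
  obtain ⟨y, hy, z, hz, e⟩ := (mem_sup_iff_of_le_normalizer' (wa.trans (U4.cent_le_norm _))).1 na
  by_cases z1 : z = 1
  · rw [z1, mul_one] at e
    rw [e, ← nw, zpowers_conj, nw, conj_mem_conj_iff] at hy
    exact a1 (by rw [← ja, conj_eq_of_mem_cent1 (cent1_le_cent1 hy (mem_cent1.2 jw))])
  by_cases y1 : y = 1
  · rw [y1, one_mul] at e
    rcases mem_zpowers_three hw hz with e1 | e1 | e1
    · exact z1 e1
    · refine P1 (n * j) (by
        rw [show n * j * w * (n * j)⁻¹ = n * (j * w * j⁻¹) * n⁻¹ by group, jw', nw]) ?_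
      rw [show n * j * a * (n * j)⁻¹ = n * (j * a * j⁻¹) * n⁻¹ by group, ja, ← conj_inv, ← e, e1]
    · exact P1 n nw (by rw [← e, e1])
  have yz : y * z = z * y := mem_cent.1 (wa hz) y hy
  have y3 : y ^ 3 = 1 := by
    rw [← ha]; exact orderOf_dvd_iff_pow_eq_one.1 (orderOf_dvd_of_mem_zpowers hy)
  have jy : j * y * j⁻¹ = y⁻¹ := H5.inverts_of_mem_zpowers ja hy
  have jz := conj_eq_of_mem_cent1 (cent1_le_cent1 hz (mem_cent1.2 jw))
  have k0 : n * j * n⁻¹ ∈ 𝐂[a] := nw ▸ conj_cent n jw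
  have k1 := conj_eq_of_mem_cent1 (cent1_le_cent1 hy k0)
  have k2 : n * j * n⁻¹ * (y * z) * (n * j * n⁻¹)⁻¹ = (y * z)⁻¹ := by
    rw [e, conj_inv (a := a), ← ja]; group
  have k3 := cmem nE jE
  generalize n * j * n⁻¹ = i at *
  have k4 : i * z * i⁻¹ = y * z⁻¹ := by
    rw [← conj_mul, k1] at k2
    calc i * z * i⁻¹ = y⁻¹ * (y * z)⁻¹ := by rw [← k2]; group
      _ = y⁻¹ * y⁻¹ * z⁻¹ := by rw [yz]; group
      _ = y * (y ^ 3)⁻¹ * z⁻¹ := by group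
      _ = _ := by rw [y3]; group
  have f1 : ∀ b ∈ zpowers a, j * i * b * (j * i)⁻¹ = b⁻¹ := fun b hb => by
    rw [← H5.inverts_of_mem_zpowers ja hb]
    conv_rhs => rw [← conj_eq_of_mem_cent1 (cent1_le_cent1 hb k0)]
    group
  have f2 : j * i * z * (j * i)⁻¹ = y⁻¹ * z⁻¹ := by
    rw [show j * i * z * (j * i)⁻¹ = j * (i * z * i⁻¹) * j⁻¹ by group, k4, ← conj_mul, ← conj_inv,
      jy, jz]
  have f3 := conj_eq_of_mem_cent1 (cent1_le_cent1 hz (hX _ (hsq (j * i)) (mem_cent1_of_conj_eq (by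
    rw [show j * i * (j * i) * a * (j * i * (j * i))⁻¹ = j * i * (j * i * a * (j * i)⁻¹) * (j * i)⁻¹
      by group, f1 a (mem_zpowers a), f1 _ (inv_mem (mem_zpowers a)), inv_inv]))
    (mul_mem (mul_mem jE k3) (mul_mem jE k3))))
  rw [show j * i * (j * i) * z * (j * i * (j * i))⁻¹ = j * i * (j * i * z * (j * i)⁻¹) * (j * i)⁻¹
    by group, f2, ← conj_mul, f1 _ (inv_mem hy), ← conj_inv, f2, inv_inv, mul_inv_rev, inv_inv,
    inv_inv, ← yz, ← mul_assoc, mul_eq_right] at f3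
  exact y1 (eq_one_of_odd_of_mul_self (odd_orderOf_of_mem (odd_zpowers oa) hy) f3)

theorem LD.cent_cases (h : LD q r s p c) (hg : g ∈ c.L) (hk : (orderOf g).Prime)
    (h2 : orderOf g ≠ 2) (hr : ¬ orderOf g ∣ r.natAbs) : ∃ z ∈ c.L, z * g * z⁻¹ ∈ c.T ∧
      orderOf g ∣ s.natAbs ∨ z * g * z⁻¹ ∈ c.Q ∧ orderOf g ∣ q.natAbs := by
  obtain ⟨z, hz, e⟩ := h.odd_conj hg (hk.odd_of_ne_two h2)
  refine ⟨z, hz, ?_⟩
  rw [← U4.orderOf_conj z, ← h.cardR, ← h.cardT, ← h.cardQ] at *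
  exact (e.resolve_left fun e => hr (orderOf_dvd_natCard _ e)).imp
    (fun e => ⟨e, orderOf_dvd_natCard _ e⟩) fun e => ⟨e, orderOf_dvd_natCard _ e⟩

theorem LD.card_cent (h : LD q r s p c) (hg : g ∈ c.L) (hk : (orderOf g).Prime)
    (h2 : orderOf g ≠ 2) (hr : ¬ orderOf g ∣ r.natAbs) :
    Nat.card ↥(c.L ⊓ 𝐂[g]) = s.natAbs ∨ Nat.card ↥(c.L ⊓ 𝐂[g]) = q.natAbs := by
  obtain ⟨z, hz, e⟩ := h.cent_cases hg hk h2 hr
  have h1 : z * g * z⁻¹ ≠ 1 := conj_ne_one_iff.2 fun e => by simp [e, Nat.not_prime_one] at hk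
  have h3 : Nat.card ↥(c.L ⊓ 𝐂[z * g * z⁻¹]) = Nat.card ↥(c.L ⊓ 𝐂[g]) := by
    conv_lhs => rw [← conj_eq_of_mem hz]
    rw [cent1_conj, ← map_conj_inf, card_map_of_injective (MulAut.conj z).injective]
  rw [← h3]
  exact e.imp (fun e => by rw [h.cent_eq_T e.1 h1, h.cardT]) fun e => by
    rw [h.cent_eq_Q e.1 h1, h.cardQ]

namespace GD

variable (h : GD q r s p c)
include h

theorem card_inf_ct (ht : c.t ∈ M) :
    Nat.card ↥(M ⊓ 𝐂[c.t]) = 2 * Nat.card ↥(c.L ⊓ M) :=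
  card_two (le_inf inf_le_right (inf_le_left.trans h.L_le)) (relIndex_two ⟨ht, self_mem_cent1 _⟩
    (fun e => h.tL e.1) fun _ hg => (h.mem_ct.1 hg.2).imp (fun e => ⟨e, hg.1⟩)
      fun e => ⟨e, mul_mem ht hg.1⟩)

theorem nilp2_of (ht : c.t ∈ M) (ho : Odd (Nat.card ↥(c.L ⊓ M))) : Nilp2 M :=
  nilp2_of_not_four_dvd (h.not_four_dvd h.ot ht (by
    rw [h.card_inf_ct ht]; have := Nat.odd_iff.1 ho; omega))

theorem Od_inf_ct (ht : c.t ∈ M) (ho : Odd (Nat.card ↥(c.L ⊓ M))) : Od M ⊓ 𝐂[c.t] = c.L ⊓ M :=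
  le_antisymm (fun _ hg => ⟨h.mem_L_of_odd hg.2 (odd_of_mem_Od hg.1), Od_le _ hg.1⟩)
    (le_inf ((h.nilp2_of ht ho).le_Od inf_le_right ho) (inf_le_left.trans h.L_le))

variable (hw : WD c w j)
include hw

theorem not_three_dvd : ¬ 3 ∣ r.natAbs := fun h3 => by
  have : Fact (Nat.Prime 3) := ⟨Nat.prime_three⟩
  obtain ⟨g, ha⟩ : ∃ g, g * w * g⁻¹ ∈ c.R := by
    obtain ⟨g, e⟩ := h.conj_t hw.oj
    have h1 : g⁻¹ * w * g ∈ c.L := h.mem_L_of_odd (by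
      rw [← mem_conj, ← cent1_conj, e]; exact mem_cent1'.2 hw.jw)
      (by rw [H5.orderOf_conj'', hw.ow]; decide)
    obtain ⟨z, -, e⟩ := exists_conj_mem_of_hall Nat.prime_three h.RL (h.hall_R Nat.prime_three h3)
      (isPGroup_zpowers (by rw [H5.orderOf_conj'', hw.ow])) (zpowers_le.2 h1)
    exact ⟨z * g⁻¹, by simpa [mul_assoc] using e (conj_mem_conj_iff.2 (mem_zpowers _))⟩
  obtain ⟨a, ea⟩ : ∃ a, g * w * g⁻¹ = a := ⟨_, rfl⟩
  have oa : orderOf a = 3 := by rw [← ea, U4.orderOf_conj, hw.ow]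
  rw [ea] at ha
  have a1 : a ≠ 1 := fun e => by simp [e] at oa
  have wR := h.nv_R (h.w_nv hw)
  have hwa : w ∈ 𝐂[a] := by
    rcases mem_zpowers_three oa (norm_mem (norm_le_norm_of_le_cyclic h.cycR (zpowers_le.2 ha) wR)
      (mem_zpowers a)) with e | e | e
    · exact absurd e (conj_ne_one_iff.2 a1)
    · exact mem_cent1_of_conj_eq e
    · exact absurd (eq_inv_of_odd (by rw [hw.ow]; decide) e) (h.ne_inv ha a1)
  have hX := (h.cx_cases ha a1 hw hwa).1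
  have hC := hX.trans (U4.norm_le_norm_cent _)
  have hWC : c.W ≤ 𝐂(c.R) := h.W_le_cent.trans (centralizer_le h.R_le_W)
  have b1 : g * j * g⁻¹ ∈ 𝐂[a] := ea ▸ conj_cent g hw.jw
  have e1 : g * a * g⁻¹ ∈ 𝐂[a] := by
    have := conj_cent g (mem_cent1'.1 hwa); rwa [ea] at this
  have b2 : g * j * g⁻¹ * (g * a * g⁻¹) * (g * j * g⁻¹)⁻¹ = (g * a * g⁻¹)⁻¹ := by
    rw [conj_inv (a := a), ← h.jR hw a ha]; group
  have b3 : g * j * g⁻¹ ∈ 𝐂(c.R) := by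
    obtain ⟨z, hz, e⟩ := (h.sylowV ha a1).exists_conj_le
      (isPGroup_zpowers (by rw [U4.orderOf_conj, hw.oj])) (zpowers_le.2 b1)
    simpa [mul_assoc] using norm_mem' (hC hz)
      (hWC (h.V_le_W (e (conj_mem_conj_iff.2 (mem_zpowers _)))))
  have oe : orderOf (g * a * g⁻¹) = 3 := by rw [U4.orderOf_conj, oa]
  have e2 : g * a * g⁻¹ ∈ 𝐂(c.R) := mem_of_inverted (by rw [oe]; decide) b2 b3 (hC e1)
  have e3 : g * a * g⁻¹ ∉ c.R := fun e => conj_ne_one_iff.2 a1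
    (eq_one_of_inv_of_comm (by rw [oe]; decide) b2 (mem_cent.1 b3 _ e))
  have wa : zpowers w ≤ 𝐍(zpowers a) := by
    refine le_trans ?_ (U4.cent_le_norm _); rwa [U4.cent_zpowers, zpowers_le]
  have hE : IsPGroup 3 ↥(zpowers a ⊔ zpowers w) := sup_comm (zpowers w) _ ▸
    H1.isPGroup_sup_of_le_normalizer (isPGroup_zpowers hw.ow) (isPGroup_zpowers oa) wa
  have hE' : zpowers a ⊔ zpowers w ≤ 𝐂[a] := sup_le (zpowers_le_cent1 a) (zpowers_le.2 hwa)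
  obtain ⟨P, p1, hP⟩ := IsSylowIn.exists_ge hE hE'
  have p2 := h.odd_le_Rw ha a1 hw hwa hP.le
    (odd_card_of_isPGroup Nat.prime_three (by decide) hP.isPGroup) (p1 (mem_sup_right (mem_zpowers w)))
  have dec : ∀ g ∈ c.R ⊔ zpowers w, ∃ y ∈ c.R, ∃ z ∈ zpowers w, y * z = g :=
    fun g => (mem_sup_iff_of_le_normalizer' (zpowers_le.2 wR)).1
  have wC : w ∈ 𝐂(c.R) := by
    obtain ⟨k, hk, e⟩ := hP.exists_conj_le (isPGroup_zpowers oe) (zpowers_le.2 e1)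
    obtain ⟨y, hy, z, hz, e⟩ := dec _ (p2 (e (conj_mem_conj_iff.2 (mem_zpowers _))))
    have h5 := norm_mem (hC hk) e2
    rw [← e, mul_mem_cancel_left (hWC (h.R_le_W hy))] at h5
    refine zpowers_le.2 h5 (mem_zpowers_of_prime (hw.ow ▸ Nat.prime_three) hz ?_)
    rintro rfl
    rw [mul_one] at e
    rw [e] at hy
    exact e3 (by simpa [mul_assoc] using norm_mem' (hX hk) hy)
  have hH : c.R ⊔ zpowers w ≤ 𝐂[w] :=
    sup_le (fun y hy => mem_cent1.2 (mem_cent.1 wC y hy)) (zpowers_le_cent1 w)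
  have p3 : g •ᶜ P ≤ 𝐂[a] := by rw [← ea, cent1_conj]; exact map_mono (p2.trans hH)
  obtain ⟨k, hk, e⟩ := hP.exists_conj_eq (hP.of_card_le (hP.isPGroup.map _) p3
    (card_map_of_injective (MulAut.conj g).injective).ge)
  refine abs3 (n := k * g) oa hw.ow (mem_cent1'.1 hwa) (h.jR hw a ha) hw.jw
    (by rw [← conj_eq_of_mem_cent1 hk, ← ea]; group) ?_ h.odd_sq fun ψ o1 h1 h2 => ?_
  · have h5 : k * g * a * (k * g)⁻¹ ∈ P := by
      rw [← e, ← map_conj_mul, conj_mem_conj_iff]; exact p1 (mem_sup_left (mem_zpowers a))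
    obtain ⟨y, hy, z, hz, e⟩ := dec _ (p2 h5)
    have h6 : orderOf (y * z) = 3 := by rw [e, U4.orderOf_conj, oa]
    have h7 : y ^ 3 = 1 := by
      have h8 : z ^ 3 = 1 := by
        rw [← hw.ow]; exact orderOf_dvd_iff_pow_eq_one.1 (orderOf_dvd_of_mem_zpowers hz)
      have h9 : Commute y z := mem_cent.1 (zpowers_le.2 wC hz) y hy
      have := pow_orderOf_eq_one (y * z)
      rwa [h6, h9.mul_pow, h8, mul_one] at this
    refine e ▸ mul_mem (mem_sup_left ?_) (mem_sup_right hz)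
    by_cases y1 : y = 1
    · rw [y1]; exact one_mem _
    rw [eq_of_le_cyclic h.cycR (zpowers_le.2 ha) (zpowers_le.2 hy) (by
      rw [Nat.card_zpowers, Nat.card_zpowers, oa, orderOf_eq_prime h7 y1])]
    exact mem_zpowers y
  · exact hH (h.odd_le_Rw ha a1 hw hwa (sup_le hE' (zpowers_le.2 h1)) (odd_sup' (zpowers_le.2 h2)
      (odd_zpowers o1) (odd_card_of_isPGroup Nat.prime_three (by decide) hE))
      (mem_sup_left (mem_sup_right (mem_zpowers w))) (mem_sup_right (mem_zpowers ψ)))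

theorem w_not_cent (hx : x ∈ c.R) (hk : (orderOf x).Prime) : w ∉ 𝐂[x] := fun hwx => by
  have := Fact.mk hk
  have h1 : x ≠ 1 := fun e => by simp [e, Nat.not_prime_one] at hk
  have ox := odd_orderOf_of_mem h.oddR hx
  have kr : orderOf x ∣ r.natAbs := h.cardR ▸ orderOf_dvd_natCard _ hx
  have k3 : (orderOf x).Coprime 3 := (Nat.coprime_primes hk Nat.prime_three).2 fun e =>
    h.not_three_dvd hw (e ▸ kr)
  have wR := h.nv_R (h.w_nv hw)
  have jw : j ∈ 𝐂[w] := mem_cent1.2 hw.jw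
  have jx := h.jR hw x hx
  obtain ⟨m, m1, m2, m3⟩ : ∃ m, Nat.card ↥(Od 𝐂[w] ⊓ 𝐂[j]) = m ∧ Nilp2 𝐂[w] ∧
      (m = s.natAbs ∨ m = q.natAbs) := by
    obtain ⟨g, e⟩ := h.conj_t hw.oj
    have h' := h.conj g
    have e' : (c.conj g).t = j := e
    have h2 := h'.card_cent (h'.mem_L_of_odd (e' ▸ mem_cent1_comm.1 jw) (by rw [hw.ow]; decide))
      (hw.ow ▸ Nat.prime_three) (by rw [hw.ow]; decide) (hw.ow ▸ h.not_three_dvd hw)
    have h3 : Odd (Nat.card ↥((c.conj g).L ⊓ 𝐂[w])) :=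
      h2.elim (fun e => e ▸ h.odd_s') fun e => e ▸ h.odd_q'
    exact ⟨_, rfl, h'.nilp2_of (e' ▸ jw) h3, by rwa [← e', h'.Od_inf_ct (e' ▸ jw) h3]⟩
  have m4 : ((orderOf x : ℕ) : ℤ) ∣ (m : ℤ) ^ 2 - 1 := by
    refine (Int.natCast_dvd.2 kr).trans ?_
    rcases m3 with rfl | rfl <;> rw [Int.natAbs_sq]
    · exact ⟨4 * r + 4, by rw [h.hs]; ring⟩
    · exact ⟨16 * r + 8, by rw [h.hq]; ring⟩
  set U := Od 𝐂[w] with hU
  have xU : x ∈ U := m2 x (mem_cent1_comm.1 hwx) ox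
  have wU : w ∈ U := m2 w (self_mem_cent1 w) (by rw [hw.ow]; decide)
  have F1 : U ⊓ 𝐍(zpowers x) ≤ 𝐂[x] := fun g hg => by
    obtain ⟨k, hk, e⟩ := (h.sylowV hx h1).frattini_elem
      (U4.cent_zpowers x ▸ U4.norm_le_norm_cent _ hg.2)
    obtain ⟨z, hz, e⟩ := h.exists_cv hw e
    have h5 : z⁻¹ * k ∈ 𝐂[x] := mul_mem (inv_mem (zpowers_le.2 hwx hz)) hk
    rw [← mul_assoc] at e
    have h6 : g * x * g⁻¹ = (z⁻¹ * k)⁻¹ * (z⁻¹ * k * g * x * (z⁻¹ * k * g)⁻¹) * (z⁻¹ * k)⁻¹⁻¹ := by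
      group
    rcases h.conj_cv e hx with e | e <;> rw [e] at h6
    · exact mem_cent1_of_conj_eq (h6.trans (conj_eq_of_mem_cent1 (inv_mem h5)))
    · rw [← conj_inv, conj_eq_of_mem_cent1 (inv_mem h5)] at h6
      exact absurd (eq_inv_of_odd (odd_of_mem_Od hg.1) h6) (h.ne_inv hx h1)
  have F2 : U ⊓ 𝐂[x] ≤ c.R ⊔ zpowers w := h.odd_le_Rw hx h1 hw hwx inf_le_right
    (odd_card_of_le (odd_Od _) inf_le_left) ⟨wU, hwx⟩
  have dec : ∀ g ∈ U ⊓ 𝐂[x], ∃ y ∈ c.R, ∃ z ∈ zpowers w, y * z = g :=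
    fun g hg => (mem_sup_iff_of_le_normalizer' (zpowers_le.2 wR)).1 (F2 hg)
  obtain ⟨D, d1, hD⟩ := IsSylowIn.exists_ge (isPGroup_zpowers (g := x) rfl) (zpowers_le.2 xU)
  have d2 : ∀ D : Subgroup G, zpowers x ≤ D → D ≤ c.R → U ⊓ 𝐍(D) ≤ 𝐂[x] := fun D e1 e2 =>
    (inf_le_inf_left _ (norm_le_norm_of_le_cyclic (isCyclic_of_le' h.cycR e2) e1)).trans F1
  have d3 : D ⊓ 𝐂[x] ≤ c.R := by
    refine Cop.le_of_coprime_relIndex ((inf_le_inf_right _ hD.le).trans F2)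
      (sup_le le_normalizer (zpowers_le.2 wR)) ?_
    have h5 := card_mul_relIndex (le_sup_left : c.R ≤ c.R ⊔ zpowers w)
    rw [h.card_Rw hw, h.cardR, mul_comm 3] at h5
    obtain ⟨i, hi⟩ := IsPGroup.iff_card.1 (hD.isPGroup.to_le (inf_le_left (b := 𝐂[x])))
    rw [Nat.eq_of_mul_eq_mul_left (Int.natAbs_pos.2 h.r_ne) h5, hi]
    exact k3.pow_left i
  have d4 : D ≤ c.R := by
    refine le_trans (fun g hg => ?_) d3
    by_contra hn
    have h5 := lt_inf_normalizer_of_isPGroup hD.isPGroup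
      (lt_of_le_of_ne (inf_le_left (b := 𝐂[x])) fun e => hn (e.symm ▸ hg))
    exact h5.not_ge (le_inf inf_le_left ((inf_le_inf_right _ hD.le).trans
      (d2 _ (le_inf d1 (zpowers_le_cent1 x)) d3)))
  obtain ⟨y1, -⟩ := burnside hD fun g hg => by
    obtain ⟨y, hy, z, hz, rfl⟩ := dec g ⟨hg.1, d2 D d1 d4 hg⟩
    exact mul_mem (mem_cent.2 fun a ha => h.commR a (d4 ha) y hy) (mem_cent.2 fun a ha =>
      mem_cent1.1 (cent1_le_cent1 hz (Od_le _ (hD.le ha))))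
  set Y := piCoreOf {orderOf x}ᶜ U
  have YU : Y ≤ U := pcore_le _ _
  have oY : Odd (Nat.card Y) := odd_card_of_le (odd_Od _) YU
  have cY : (Nat.card Y).Coprime (orderOf x) := H1.piCoreOf_compl_coprime _ U
  have xY : zpowers x ≤ 𝐍(Y) := zpowers_le.2 (pcore_normal _ _ xU)
  have h5 := Frobenius_Wielandt_fixpoint (K := zpowers x) (R := zpowers j) (M := Y)
    (zpowers_le.2 (inverts_zpowers jx).mem_norm) (fun a ha a1 => by
      rw [((mem_zpowers_inv hw.oj).1 ha).resolve_left a1]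
      exact (inverts_zpowers jx).inf_cent (odd_zpowers ox)) xY
    (zpowers_le.2 (norm_le_norm_pcore _ _ (le_norm_Od _ jw))) (solvable_of_odd oY)
    (by rw [Nat.card_zpowers]; exact cY.symm) (coprime_zpowers_inv hw.oj oY)
  have h6 : Y ⊓ 𝐂[j] = U ⊓ 𝐂[j] := le_antisymm (inf_le_inf_right _ YU) fun g hg => by
    refine ⟨y1 g hg.1 (Nat.Coprime.coprime_dvd_left (m1 ▸ orderOf_dvd_natCard _ hg) ?_), hg.2⟩
    refine Nat.Coprime.coprime_dvd_right kr ?_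
    rcases m3 with rfl | rfl
    exacts [h.cop_sr, h.cop_qr]
  have h7 : Y ⊓ (𝐂[x] ⊓ 𝐂[j]) = zpowers w := by
    refine le_antisymm (fun g hg => ?_) (zpowers_le.2 ⟨y1 w wU (hw.ow ▸ k3.symm), hwx,
      mem_cent1_comm.1 jw⟩)
    obtain ⟨y, hy, z, hz, rfl⟩ := dec g ⟨YU hg.1, hg.2.1⟩
    have := (mul_mem_cancel_right (mem_cent1_comm.1 (cent1_le_cent1 hz jw))).1 hg.2.2
    rwa [eq_one_of_inv_of_comm (odd_orderOf_of_mem h.oddR hy) (h.jR hw y hy) (mem_cent1.1 this),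
      one_mul]
  rw [U4.cent_sup, U4.cent_zpowers, U4.cent_zpowers, h6, h7, m1, card_zpowers_inv hw.oj,
    Nat.card_zpowers, hw.ow] at h5
  have h8 := H1.card_modEq_card_inf_centralizer_elem (isPGroup_zpowers (g := x) rfl)
    (xY (mem_zpowers x))
  have h9 := cY.coprime_dvd_left (card_dvd_of_le (inf_le_left (b := 𝐂[x])))
  have h10 : ((orderOf x : ℕ) : ℤ) ∣ 8 * Nat.card ↥(Y ⊓ 𝐂[x]) := by
    have h11 := (Nat.modEq_iff_dvd.1 h8).mul_left 9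
    have h12 := m4.mul_right (Nat.card ↥(Y ⊓ 𝐂[x]))
    have h13 : (3 ^ 2 * Nat.card Y : ℤ) = m ^ 2 * Nat.card ↥(Y ⊓ 𝐂[x]) := by exact_mod_cast h5
    exact (dvd_add h11 (dvd_neg.2 (dvd_neg.2 h12))).trans (dvd_of_eq (by linear_combination -h13))
  have h11 : orderOf x ∣ 2 ^ 3 := h9.symm.dvd_of_dvd_mul_right (by exact_mod_cast h10)
  exact not_odd_of_inv ((Nat.prime_dvd_prime_iff_eq hk Nat.prime_two).1 (hk.dvd_of_dvd_pow h11)) ox

theorem w_fpf (hx : x ∈ c.R) (h1 : x ≠ 1) : w ∉ 𝐂[x] := fun e => by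
  obtain ⟨k, hk, hd⟩ := exists_prime_dvd_orderOf h1
  obtain ⟨a, ha, rfl⟩ := exists_prime_pow hd
  exact h.w_not_cent hw (zpowers_le.2 hx ha) hk (cent1_le_cent1 ha e)

omit hw in
theorem cent_R (hx : x ∈ c.R) (h1 : x ≠ 1) : 𝐂[x] = c.W :=
  let ⟨_, _, hw⟩ := h.exists_wd; h.cent_eq_W hx h1 hw (h.w_fpf hw hx h1)

omit hw in
theorem r_mod : r.natAbs % 6 = 1 := by
  obtain ⟨w, j, hw⟩ := h.exists_wd
  have : Fact (Nat.Prime 3) := ⟨Nat.prime_three⟩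
  have h1 := H1.card_modEq_card_inf_centralizer_elem (isPGroup_zpowers hw.ow) (h.nv_R (h.w_nv hw))
  rw [eq_bot_of_forall (H := c.R ⊓ _) fun x hx => by
    by_contra e; exact h.w_fpf hw hx.1 e (mem_cent1_comm.1 hx.2), h.cardR, card_bot] at h1
  have := Nat.odd_iff.1 h.odd_r'
  unfold Nat.ModEq at h1
  omega

end GD

end CfsgLib.JR
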