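import Cfsg.Agent.Lib.JR.Janko
import Cfsg.Agent.Lib.JR.Ree

/-!
# Groups of Janko–Ree type (final statements)

`G` has no subgroup of index `2` and an involution `t` with `C(t) = ⟨t⟩ × L` of odd index,
`L ≅ PSL₂(q)`, `q ≡ ±3 (mod 8)`, `q ≥ 5` (`CfsgLib.JR.Hyp`).  The results are `Hyp.simple`,
`Hyp.isConj`, `Hyp.card`, `Hyp.isoJ1`, `Hyp.two_trans`, `Hyp.sylow_ti`, `Hyp.exists_three`.
-/
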