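import Cfsg.Agent.Lib.JR.Fusion

/-!
# The normalizer of a four-group
-/

set_option autoImplicit false
set_option linter.unusedSimpArgs false
set_option linter.unusedSectionVars false

namespace CfsgLib.JR

open Subgroup Cfsg CfsgLib.FT CfsgLib.FT.BGN CfsgLib.FT.U4 CfsgLib.GW

variable {G : Type*} [Group G] [Finite G] {q r s : ℤ} {p : ℕ} {c : Cfg G} {a b g n x y w j : G}
  {H M N P : Subgroup G}

/-- An element of order `3` permuting `t, u, tu`, and an involution centralizing it. -/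
structure WD (c : Cfg G) (w j : G) : Prop where
  ow : orderOf w = 3
  wt : w * c.t * w⁻¹ = c.u
  wu : w * c.u * w⁻¹ = c.t * c.u
  oj : orderOf j = 2
  jw : j * w = w * j
  jS : j ∈ c.S
  jV : j ∉ V c.t c.u

namespace GD

variable (h : GD q r s p c)
include h

theorem exists_d : ∃ d ∈ c.L, orderOf d = 3 ∧ d * c.u * d⁻¹ = c.v ∧
    d * c.v * d⁻¹ = c.u * c.v := by
  have h1 : IsSylowIn 2 (V c.u c.v) c.L := by
    refine ⟨h.VL_le, h.four.isPGroup_V, ?_⟩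
    have := card_mul_relIndex h.VL_le
    rw [h.four.card_V, h.card, mul_assoc, mul_assoc] at this
    rw [Nat.eq_of_mul_eq_mul_left (by norm_num) this, ← even_iff_two_dvd, Nat.not_even_iff_odd]
    exact h.odd_q'.mul (h.odd_r'.mul h.odd_s')
  obtain ⟨g, hg, e⟩ := h.one _ h.uL _ h.vL h.ou h.ov
  obtain ⟨n, hn, e1⟩ := exists_norm_conj h1 h.four.V_le_cent1 (V_comm c.u c.v ▸
    h.four.symm.V_le_cent1) hg e
  have e2 := h.cyc_of_norm h.four hn.2 e1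
  have e3 : n * (c.u * c.v) * n⁻¹ = c.u := by
    rw [← conj_mul, e1, e2, h.four.comm, ← mul_assoc, h.four.ss, one_mul]
  have h3 : n * n * n ∈ 𝐂[c.u] := mem_cent1_of_conj_eq (by
    calc _ = n * (n * (n * c.u * n⁻¹) * n⁻¹) * n⁻¹ := by group
      _ = _ := by rw [e1, e2, e3])
  have h4 : n * n * n ∈ 𝐂[c.v] := mem_cent1_of_conj_eq (by
    calc _ = n * (n * (n * c.v * n⁻¹) * n⁻¹) * n⁻¹ := by group
      _ = _ := by rw [e2, e3, e1])
  have h5 : n * n * n * (n * n * n) = 1 := by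
    have h6 : n * n * n ∈ c.L ⊓ 𝐂[c.u] := ⟨mul_mem (mul_mem hn.1 hn.1) hn.1, h3⟩
    by_cases hK : n * n * n ∈ c.K
    · rw [← eq_inv_iff_mul_eq_one, ← h.vK _ hK, ← mem_cent1.1 h4, mul_inv_cancel_right]
    · exact (h.inv_of_notMem_K h6 hK).1
  have k : ∀ a, n * n * n ∈ 𝐂[a] → n * (n * n * n) * a * (n * (n * n * n))⁻¹ = n * a * n⁻¹ :=
    fun a ha => by
      conv_rhs => rw [← conj_eq_of_mem_cent1 ha]
      group
  refine ⟨n * (n * n * n), mul_mem hn.1 (mul_mem (mul_mem hn.1 hn.1) hn.1),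
    orderOf_eq_prime ?_ fun e => h.four.ne ?_, by rw [k _ h3, e1], by rw [k _ h4, e2]⟩
  · calc _ = n * n * n * (n * n * n) * (n * n * n * (n * n * n)) := by
          simp only [pow_succ, pow_zero, one_mul, mul_assoc]
      _ = 1 := by rw [h5, one_mul]
  · rw [← e1, ← k _ h3, e]; simp

theorem exists_wd : ∃ w j, WD c w j := by
  obtain ⟨d, hd, od, d1, d2⟩ := h.exists_d
  have d3 : d * (c.u * c.v) * d⁻¹ = c.u := by
    rw [← conj_mul, d1, d2, h.four.comm, ← mul_assoc, h.four.ss, one_mul]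
  have dt := conj_eq_of_mem_cent1 (h.L_le hd)
  have dS : d ∈ 𝐍(c.S) := mem_norm_sup (mem_normalizer_of_map_conj_eq (by
    rw [← V_conj, d1, d2, h.four.comm, h.four.symm.V_mul, V_comm]))
    (mem_normalizer_of_map_conj_eq (by rw [← zpowers_conj, dt]))
  have k1 : ∀ b ∈ V c.u c.v, b ≠ 1 → ∃ e ∈ 𝐍(c.S), e * c.t * e⁻¹ = c.t ∧ e * b * e⁻¹ = c.u := by
    intro b hb h1
    rcases h.four.mem_V.1 hb with rfl | rfl | rfl | rfl
    · exact absurd rfl h1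
    · exact ⟨1, one_mem _, by simp, by simp⟩
    · exact ⟨d * d, mul_mem dS dS, conj_eq_of_mem_cent1 (h.L_le (mul_mem hd hd)), by
        rw [← d3, ← d2]; group⟩
    · exact ⟨d, dS, dt, d3⟩
  have k2 : ∃ g ∈ 𝐍(c.S), g * c.u * g⁻¹ = c.t ∧ g * c.v * g⁻¹ ∈ V c.t c.u := by
    obtain ⟨g, -, e⟩ := h.oneCl _ (mem_top _) _ (mem_top _) h.ou h.ot
    obtain ⟨n, hn, e⟩ := exists_norm_conj h.sylow_S (h.S_comm h.u_S) h.S_le (mem_top g) e
    rcases h.mem_S.1 (norm_mem hn.2 h.v_S) with e1 | e1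
    · obtain ⟨z, hz, z1, z2⟩ := k1 _ e1 (conj_ne_one_iff.2 h.four.s1)
      exact ⟨z * n, mul_mem hz hn.2, by rw [← z1, ← e]; group, by
        rw [show z * n * c.v * (z * n)⁻¹ = c.u by rw [← z2]; group]; exact s_mem_V _ _⟩
    · obtain ⟨z, hz, z1, z2⟩ := k1 _ e1 (by rw [← e, conj_mul]; exact conj_ne_one_iff.2 h.four.ts1)
      refine ⟨z * n, mul_mem hz hn.2, by rw [← z1, ← e]; group, ?_⟩
      rw [← conj_mul, z1] at z2
      refine (mul_mem_cancel_left (t_mem_V c.t c.u)).1 ?_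
      rw [show z * n * c.v * (z * n)⁻¹ = z * (n * c.v * n⁻¹) * z⁻¹ by group, z2]
      exact s_mem_V _ _
  obtain ⟨g, hg, g1, g2⟩ := k2
  have h4 := h.four.conj g
  rw [g1] at h4
  have hV : g •ᶜ V c.u c.v = V c.t c.u := by
    rw [← V_conj, g1, h.four_tu.V_eq h4 (t_mem_V _ _) g2]
  have j1 : g * c.t * g⁻¹ ∉ V c.t c.u := by
    rw [← hV, conj_mem_conj_iff]; exact fun e => h.tL (h.VL_le e)
  have j2 : g * c.t * g⁻¹ * (g * d * g⁻¹) = g * d * g⁻¹ * (g * c.t * g⁻¹) := by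
    rw [conj_mul, conj_mul, h.comm d hd]
  have w1 : g * d * g⁻¹ * c.t * (g * d * g⁻¹)⁻¹ = g * c.v * g⁻¹ := by rw [← g1, ← d1]; group
  have w2 : g * d * g⁻¹ * (g * c.v * g⁻¹) * (g * d * g⁻¹)⁻¹ = c.t * (g * c.v * g⁻¹) := by
    rw [← g1, conj_mul (a := c.u), ← d2]; group
  have ow : orderOf (g * d * g⁻¹) = 3 := by rw [U4.orderOf_conj, od]
  have oj : orderOf (g * c.t * g⁻¹) = 2 := by rw [U4.orderOf_conj, h.ot]
  rcases h.four_tu.mem_V.1 g2 with e | e | e | e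
  · exact absurd e h4.s1
  · exact absurd e.symm h4.ne
  · exact ⟨_, _, ow, w1.trans e, e ▸ w2, oj, j2, norm_mem hg h.t_S, j1⟩
  · rw [e] at w1 w2
    rw [← mul_assoc c.t, h.tt, one_mul] at w2
    generalize g * d * g⁻¹ = w at *
    have w3 : w * c.u * w⁻¹ = c.t := by
      rw [← conj_mul, w1] at w2
      exact mul_left_cancel (a := c.t * c.u) (by
        rw [w2, h.four_tu.comm, mul_assoc, h.tt, mul_one])
    refine ⟨w⁻¹, _, by rw [orderOf_inv, ow], ?_, ?_, oj, (Commute.inv_right j2).eq,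
      norm_mem hg h.t_S, j1⟩
    · conv_lhs => rw [← w3]
      group
    · conv_lhs => rw [← w2]
      group

theorem K_le_L : c.K ≤ c.L := h.K_le.trans inf_le_left

theorem mem_W : g ∈ c.W ↔ g ∈ c.K ∨ c.t * g ∈ c.K := mem_sup_inv h.tt (h.t_norm h.K_le_L)

theorem card_W : Nat.card c.W = 4 * r.natAbs := by
  rw [Cfg.W, card_sup_inv h.tt (h.t_norm h.K_le_L) fun e => h.tL (h.K_le_L e), h.cardK]; ring

theorem t_W : c.t ∈ c.W := mem_sup_right (mem_zpowers _)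
theorem K_le_W : c.K ≤ c.W := le_sup_left
theorem R_le_W : c.R ≤ c.W := h.R_le_K.trans h.K_le_W
theorem V_le_W : V c.t c.u ≤ c.W := V_le h.t_W (h.K_le_W h.u_mem_K)

theorem W_le_cent : c.W ≤ 𝐂(c.W) := by
  have h1 : c.K ≤ 𝐂(zpowers c.t) := by
    rw [U4.cent_zpowers]; exact h.K_le_L.trans h.L_le
  exact sup_le (le_cent_sup (fun x hx => mem_cent.2 fun y hy => h.commK y hy x hx) h1)
    (le_cent_sup (le_centralizer_iff.1 h1) (le_cent_of_isCyclic inferInstance))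

theorem commW (ha : a ∈ c.W) (hb : b ∈ c.W) : a * b = b * a := mem_cent.1 (h.W_le_cent hb) a ha

theorem W_le_cv : c.W ≤ 𝐂(V c.t c.u) := h.W_le_cent.trans (centralizer_le h.V_le_W)

theorem W_eq : V c.t c.u ⊔ c.R = c.W := by
  refine le_antisymm (sup_le h.V_le_W h.R_le_W) (sup_le (sup_le le_sup_right ?_) ?_) <;>
    rw [zpowers_le]
  exacts [mem_sup_left (s_mem_V _ _), mem_sup_left (t_mem_V _ _)]

theorem exists_VR (hg : g ∈ c.W) : ∃ a ∈ V c.t c.u, ∃ x ∈ c.R, a * x = g := by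
  rw [← h.W_eq] at hg
  exact (mem_sup_iff_of_le_normalizer fun a ha =>
    mem_norm_of_comm fun x hx => h.commW (h.R_le_W hx) (h.V_le_W ha)).1 hg

theorem S_le_cv : c.S ≤ 𝐂(V c.t c.u) := by
  rw [cent_V]; exact le_inf h.S_le (h.S_comm h.u_S)

theorem mem_cv (hg : g ∈ 𝐂(V c.t c.u)) : g ∈ c.W ∨ c.v * g ∈ c.W := by
  rw [cent_V] at hg
  rcases h.mem_ct.1 hg.1 with e | e
  · exact (h.mem_cu ⟨e, hg.2⟩).imp (fun e => h.K_le_W e) fun e => h.K_le_W e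
  · refine (h.mem_cu ⟨e, mul_mem (mem_cent1.2 h.four_tu.comm) hg.2⟩).imp
      (fun e => h.mem_W.2 (Or.inr e)) fun e => h.mem_W.2 (Or.inr ?_)
    rwa [← mul_assoc, ← h.comm _ h.vL, mul_assoc]

theorem v_W : c.v ∉ c.W := fun e => (h.mem_W.1 e).elim h.vK' fun e =>
  h.tL ((mul_mem_cancel_right h.vL).1 (h.K_le_L e))

theorem idxW : c.W.relIndex 𝐂(V c.t c.u) = 2 :=
  relIndex_two (h.S_le_cv h.v_S) h.v_W fun _ => h.mem_cv

theorem inverts_of_cv (hg : g ∈ 𝐂(V c.t c.u)) (hW : g ∉ c.W) : Inverts g c.R := fun x hx => by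
  have := h.commW ((h.mem_cv hg).resolve_left hW) (h.R_le_W hx)
  calc g * x * g⁻¹ = c.v⁻¹ * (c.v * g * x) * g⁻¹ := by group
    _ = c.v⁻¹ * x * c.v⁻¹⁻¹ := by rw [this]; group
    _ = x⁻¹ := by rw [h.four.si, h.vR x hx]

theorem mem_R_of_odd' (hg : g ∈ 𝐂(V c.t c.u)) (ho : Odd (orderOf g)) : g ∈ c.R := by
  rw [cent_V] at hg
  exact h.mem_R_of_odd ⟨h.mem_L_of_odd hg.1 ho, hg.2⟩ ho

theorem nv_R : 𝐍(V c.t c.u) ≤ 𝐍(c.R) := fun _ hg => mem_norm_of fun x hx =>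
  h.mem_R_of_odd' (norm_mem (U4.norm_le_norm_cent _ hg) (h.W_le_cv (h.R_le_W hx)))
    (by rw [U4.orderOf_conj]; exact odd_orderOf_of_mem h.oddR hx)

theorem nv_W : 𝐍(V c.t c.u) ≤ 𝐍(c.W) := fun _ hg => h.W_eq ▸ mem_norm_sup hg (h.nv_R hg)

theorem mem_V_of_W (hg : g ∈ c.W) (h2 : g * g = 1) : g ∈ V c.t c.u := by
  obtain ⟨a, ha, x, hx, rfl⟩ := h.exists_VR hg
  rw [mul_assoc, ← mul_assoc x, h.commW (h.R_le_W hx) (h.V_le_W ha), ← mul_assoc, ← mul_assoc,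
    h.four_tu.mul_self_of_mem ha, one_mul] at h2
  rwa [eq_one_of_odd_of_mul_self (odd_orderOf_of_mem h.oddR hx) h2, mul_one]

theorem mem_W_of_cv (hx : x ∈ c.R) (h1 : x ≠ 1) (hg : g ∈ 𝐂(V c.t c.u)) (e : g ∈ 𝐂[x]) :
    g ∈ c.W := by
  by_contra hW
  exact h1 (eq_one_of_inv_of_comm (odd_orderOf_of_mem h.oddR hx) (h.inverts_of_cv hg hW x hx)
    (mem_cent1.1 e).symm)

theorem mem_W_of_ct (hx : x ∈ c.R) (h1 : x ≠ 1) (hg : g ∈ 𝐂[c.t]) (e : g ∈ 𝐂[x]) : g ∈ c.W := by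
  refine h.mem_W.2 ((h.mem_ct.1 hg).imp (fun e' => h.centR' hx h1 e' (mem_cent1.1 e)) fun e' => ?_)
  exact h.centR' hx h1 e' (mem_cent1.1 (mul_mem (mem_cent1_comm.1 (h.L_le (h.RL hx))) e))

variable (hw : WD c w j)
include hw

theorem wtu : w * (c.t * c.u) * w⁻¹ = c.t := by
  rw [← conj_mul, hw.wt, hw.wu, h.four_tu.comm, ← mul_assoc, h.uu, one_mul]

theorem w_nv : w ∈ 𝐍(V c.t c.u) := mem_normalizer_of_map_conj_eq (by
  rw [← V_conj, hw.wt, hw.wu, h.four_tu.comm, h.four_tu.symm.V_mul, V_comm])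

theorem conj_w (ha : a ∈ V c.t c.u) (h1 : a ≠ 1) :
    ∃ z ∈ zpowers w, z * c.t * z⁻¹ = a := by
  rcases h.four_tu.mem_V.1 ha with rfl | rfl | rfl | rfl
  · exact absurd rfl h1
  · exact ⟨1, one_mem _, by simp⟩
  · exact ⟨w, mem_zpowers _, hw.wt⟩
  · refine ⟨w⁻¹, inv_mem (mem_zpowers _), ?_⟩
    conv_lhs => rw [← h.wtu hw]
    group

theorem exists_cv (hg : g ∈ 𝐍(V c.t c.u)) : ∃ z ∈ zpowers w, z⁻¹ * g ∈ 𝐂(V c.t c.u) := by
  obtain ⟨z, hz, e⟩ := h.conj_w hw (norm_mem hg (t_mem_V _ _)) (conj_ne_one_iff.2 h.four_tu.t1)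
  refine ⟨z, hz, h.fix_of_norm h.four_tu (mul_mem (inv_mem (zpowers_le.2 (h.w_nv hw) hz)) hg) ?_⟩
  calc _ = z⁻¹ * (g * c.t * g⁻¹) * z := by group
    _ = _ := by rw [← e]; group

theorem idx_cv : (𝐂(V c.t c.u)).relIndex 𝐍(V c.t c.u) = 3 := by
  have : {y : G | ∃ x ∈ 𝐍(V c.t c.u), x * c.t * x⁻¹ = y} = (V c.t c.u : Set G) \ {1} := by
    ext a
    refine ⟨fun ⟨x, hx, e⟩ => e ▸ ⟨norm_mem hx (t_mem_V _ _), conj_ne_one_iff.2 h.four_tu.t1⟩,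
      fun ha => ?_⟩
    obtain ⟨z, hz, e⟩ := h.conj_w hw ha.1 ha.2
    exact ⟨z, zpowers_le.2 (h.w_nv hw) hz, e⟩
  have h1 := Frob.ncard_conj_subgroup 𝐍(V c.t c.u) c.t
  rw [this, Set.ncard_sdiff_singleton_of_mem (one_mem _), ← Nat.card_coe_set_eq,
    SetLike.coe_sort_coe, h.four_tu.card_V, ← inf_relIndex_right] at h1
  rw [← inf_relIndex_right, show 𝐂(V c.t c.u) ⊓ 𝐍(V c.t c.u) = 𝐂[c.t] ⊓ 𝐍(V c.t c.u) from
    le_antisymm (inf_le_inf_right _ (U4.cent_le_cent1 (t_mem_V _ _))) fun g hg =>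
      ⟨h.fix_of_norm h.four_tu hg.2 (conj_eq_of_mem_cent1 hg.1), hg.2⟩, ← h1]

theorem j_cv : j ∈ 𝐂(V c.t c.u) := h.S_le_cv hw.jS

theorem j_W : j ∉ c.W := fun e => hw.jV (h.mem_V_of_W e (mul_self_of_inv hw.oj))

theorem jR : Inverts j c.R := h.inverts_of_cv (h.j_cv hw) (h.j_W hw)

theorem mem_W_of_ca (hx : x ∈ c.R) (h1 : x ≠ 1) (ha : a ∈ V c.t c.u) (ha1 : a ≠ 1)
    (hg : g ∈ 𝐂[a]) (e : g ∈ 𝐂[x]) : g ∈ c.W := by
  obtain ⟨z, hz, rfl⟩ := h.conj_w hw ha ha1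
  have hz' := zpowers_le.2 (h.w_nv hw) hz
  rw [cent1_conj, mem_conj] at hg
  have := norm_mem (h.nv_W hz') (h.mem_W_of_ct (norm_mem' (h.nv_R hz') hx)
    (fun e' => h1 (by rw [← conj_eq_one_iff (a := z⁻¹), inv_inv, e'])) hg (by
      simpa only [inv_inv] using conj_cent z⁻¹ (mem_cent1.1 e)))
  simpa [mul_assoc] using this

theorem eq_one_of_w (ha : a ∈ V c.t c.u) (e : w * a * w⁻¹ = a) : a = 1 := by
  rcases h.four_tu.mem_V.1 ha with rfl | rfl | rfl | rfl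
  · rfl
  · exact absurd (e.symm.trans hw.wt) h.four_tu.ne
  · exact absurd (by simpa using e.symm.trans hw.wu) h.four_tu.t1
  · exact absurd (by simpa using e.symm.trans (h.wtu hw)) h.four_tu.s1

end GD

end CfsgLib.JR
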