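import Cfsg.Agent.Lib.JR.Defs

/-!
# Arithmetic of the degrees
-/

set_option autoImplicit false
set_option linter.unusedSimpArgs false
set_option linter.unusedSectionVars false

namespace CfsgLib.JR

theorem three_term {a b x y : ℤ} (hx : x ≠ 0) (hy : y ≠ 0) (hxy : x + y ≠ 0)
    (h : ((a + b : ℤ) : ℚ) ^ 2 / (x + y : ℤ) = a ^ 2 / x + b ^ 2 / y) : a * y = b * x := by
  have h1 : (x : ℚ) ≠ 0 := by exact_mod_cast hx
  have h2 : (y : ℚ) ≠ 0 := by exact_mod_cast hy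
  have h3 : ((x + y : ℤ) : ℚ) ≠ 0 := by exact_mod_cast hxy
  field_simp at h
  have h4 : (a * y - b * x) ^ 2 = 0 := by
    have : (((a * y - b * x) ^ 2 : ℤ) : ℚ) = 0 := by push_cast at h ⊢; linear_combination -h
    exact_mod_cast this
  linear_combination pow_eq_zero_iff (two_ne_zero) |>.1 h4

variable {q r s : ℤ} {p : ℕ}

namespace Par

variable (h : Par q r s p)
include h

theorem pZ : Prime (p : ℤ) := Nat.prime_iff_prime_int.1 h.pp
theorem pq : (p : ℤ) ∣ q := Int.natCast_dvd.2 h.p_dvd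
theorem cop_q {k : ℤ} (hk : ¬ (p : ℤ) ∣ k) : IsCoprime q k := by
  obtain ⟨f, hf⟩ := h.qp
  rw [Int.isCoprime_iff_nat_coprime, hf]
  exact Nat.Coprime.pow_left _ ((Nat.Prime.coprime_iff_not_dvd h.pp).2
    fun e => hk (Int.natCast_dvd.2 e))
theorem not_p_dvd {k : ℤ} (hk : IsCoprime q k) : ¬ (p : ℤ) ∣ k := fun e =>
  h.pZ.not_isUnit (hk.isUnit_of_dvd' h.pq e)
theorem pr : ¬ (p : ℤ) ∣ r := h.not_p_dvd (Int.isCoprime_iff_nat_coprime.2 h.cop_qr)
theorem ps : ¬ (p : ℤ) ∣ s := h.not_p_dvd (Int.isCoprime_iff_nat_coprime.2 h.cop_qs)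
theorem p2 : ¬ (p : ℤ) ∣ 2 := h.not_p_dvd ⟨1, -2 * r, by rw [h.hq]; ring⟩
theorem five_le' : 5 ≤ |q| := by have := h.five_le; (simp only [Int.abs_eq_natAbs] at *; omega)
theorem three_le' : 3 ≤ |s| := by have := h.three_le; (simp only [Int.abs_eq_natAbs] at *; omega)

theorem numI {M z : ℤ} (hM : M ≠ 0) (hz0 : z ≠ 0) (hz : z = 1 + M - q * M)
    (e : (1 : ℚ) + 1 / M - q ^ 2 / z - q ^ 2 / (q * M : ℤ) =
      16 * q * s ^ 2 * r / (-q ^ 2 * M : ℤ)) : M = -(q ^ 2 + q + 1) := by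
  have h1 : (M : ℚ) ≠ 0 := by exact_mod_cast hM
  have h2 : (z : ℚ) ≠ 0 := by exact_mod_cast hz0
  have h3 : (q : ℚ) ≠ 0 := by exact_mod_cast h.q_ne
  push_cast at e
  field_simp at e
  have e1 : (M * z * q + z * q - M * q ^ 3 - z * q ^ 2 : ℤ) = -(16 * s ^ 2 * r * z) := by
    have : ((M * z * q + z * q - M * q ^ 3 - z * q ^ 2 : ℤ) : ℚ) = (-(16 * s ^ 2 * r * z) : ℤ) := by
      push_cast; linear_combination e
    exact_mod_cast this
  have e2 : r * ((q * M - 1) * (M + (q ^ 2 + q + 1))) = 0 := by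
    have := h.hq; have := h.hs; subst z q s; linarith [e1]
  rcases mul_eq_zero.1 ((mul_eq_zero.1 e2).resolve_left h.r_ne) with e3 | e3
  · have := h.five_le
    have h4 : q.natAbs ∣ 1 := by
      exact Int.natAbs_dvd_natAbs.2 (Dvd.intro M (by linarith) : q ∣ 1)
    have := Nat.le_of_dvd one_pos h4
    omega
  · linarith

theorem numI' {x y : ℤ} (hx : x ≠ 0) (hy : y ≠ 0) (hxy : x + y = 1 - (q ^ 2 + q + 1))
    (e : (1 : ℚ) + 1 / (-(q ^ 2 + q + 1) : ℤ) - s ^ 2 / x - s ^ 2 / y =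
      4 * q ^ 2 * s * (s + 1) / (q ^ 2 * (q ^ 2 + q + 1) : ℤ)) :
    ∃ n : ℕ, 1 ≤ n ∧ q = -3 ^ (2 * n + 1) := by
  have h1 : (x : ℚ) ≠ 0 := by exact_mod_cast hx
  have h2 : (y : ℚ) ≠ 0 := by exact_mod_cast hy
  have h3 : (q : ℚ) ≠ 0 := by exact_mod_cast h.q_ne
  have e1 : (q ^ 2 + q) * x * y - (q ^ 2 + q + 1) * s ^ 2 * (x + y) = 4 * s * (s + 1) * x * y := by
    obtain ⟨a, ha⟩ : ∃ a, a = q ^ 2 + q + 1 := ⟨_, rfl⟩
    have h4 : (a : ℚ) ≠ 0 := by
      have : a ≠ 0 := by nlinarith [sq_nonneg (2 * q + 1)]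
      exact_mod_cast this
    rw [show q ^ 2 + q = a - 1 by omega, sub_add_cancel]
    rw [← ha] at e
    push_cast at e
    field_simp at e
    have : (((a - 1) * x * y - a * s ^ 2 * (x + y) : ℤ) : ℚ) =
        (4 * s * (s + 1) * x * y : ℤ) := by push_cast; linear_combination e
    exact_mod_cast this
  have hq := h.hq
  have hs := h.hs
  have e2 : 3 * (x * y) = q * s ^ 2 * (q ^ 2 + q + 1) := by
    refine mul_left_cancel₀ (mul_ne_zero two_ne_zero h.s_ne) ?_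
    rw [hxy] at e1; subst q s; linarith
  have e3 : (3 * (x - y)) ^ 2 = 3 * -q * (2 * s * (q - 1)) ^ 2 := by
    have : (3 * (x - y)) ^ 2 = 9 * (x + y) ^ 2 - 12 * (3 * (x * y)) := by ring
    rw [this, e2, hxy]; subst q s; ring
  have hE : 2 * s * (q - 1) ≠ 0 :=
    mul_ne_zero (mul_ne_zero two_ne_zero h.s_ne) (by have := h.r_ne; omega)
  obtain ⟨k, hk⟩ := (Int.pow_dvd_pow_iff two_ne_zero).1 (Dvd.intro_left _ e3.symm)
  have e4 : k ^ 2 = 3 * -q := by
    refine mul_left_cancel₀ (pow_ne_zero 2 hE) ?_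
    rw [← mul_pow, ← hk, e3]; ring
  have hq0 : q < 0 := by have := h.q_ne; have := sq_nonneg k; omega
  obtain ⟨f, hf⟩ := h.qp
  have e5 : k.natAbs ^ 2 = 3 * p ^ f := by
    rw [← hf]; zify; rw [sq_abs, e4, abs_of_neg hq0]
  have h3k : 3 ∣ k.natAbs := Nat.prime_three.dvd_of_dvd_pow (Dvd.intro _ e5.symm)
  have hp : 3 = p := by
    obtain ⟨j, hj⟩ := h3k
    rw [hj] at e5
    exact h.eq_p Nat.prime_three (hf ▸ Dvd.intro (j ^ 2) (by linarith))
  subst hp
  obtain ⟨j, -, hj⟩ := (Nat.dvd_prime_pow Nat.prime_three).1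
    (Dvd.intro k.natAbs (by rw [← sq, e5, pow_succ']) : k.natAbs ∣ 3 ^ (f + 1))
  rw [hj, ← pow_mul, ← pow_succ'] at e5
  have e6 := Nat.pow_right_injective (by norm_num : 2 ≤ 3) e5
  have h5 := h.five_le
  refine ⟨j - 1, ?_, ?_⟩
  · by_contra h6
    have : f = 1 := by omega
    rw [hf, this] at h5; omega
  · rw [show 2 * (j - 1) + 1 = f by omega]
    have : (q.natAbs : ℤ) = 3 ^ f := by rw [hf]; push_cast; rfl
    omega

theorem numII_a {a b M : ℤ} (ha : 0 < a) (hM : M + 1 = s * a + b) (hd : M ∣ a)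
    (e : a * b * (M + 1) = s * M * (s * a + (4 * s + 5) * b)) (h1 : 8 ∣ M - 1) (h2 : 8 ∣ a + 1) :
    False := by
  obtain ⟨μ, hμ⟩ := hd
  have hM0 : M ≠ 0 := by omega
  have e1 : b * (μ * (M + 1) - 4 * s * (s + 1)) = s * (M + 1) := by
    refine mul_left_cancel₀ hM0 ?_
    rw [show s * a + (4 * s + 5) * b = M + 1 + 4 * (s + 1) * b by rw [hM]; ring] at e
    rw [hμ] at e; linarith
  set k := μ * (M + 1) - 4 * s * (s + 1) with hk
  have hk0 : k ≠ 0 := fun e => by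
    rw [e, mul_zero] at e1
    exact mul_ne_zero h.s_ne (by omega) e1.symm
  have hk2 : 2 ∣ k := dvd_sub (Dvd.dvd.mul_left (by omega) _) ⟨2 * s * (s + 1), by ring⟩
  have hk3 : 2 ≤ |k| := by clear_value k; (simp only [Int.abs_eq_natAbs] at *; omega)
  have e2 := congrArg abs e1
  rw [abs_mul, abs_mul] at e2
  have e3 : |s| * a ≤ |M + 1| + |b| := by
    rw [← abs_of_pos ha, ← abs_mul, show s * a = M + 1 - b by omega]; exact abs_sub _ _
  have e4 : |M| ≤ a := Int.le_of_dvd ha ((abs_dvd _ _).2 ⟨μ, hμ⟩)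
  have e5 : |M + 1| ≤ a + 1 := by (simp only [Int.abs_eq_natAbs] at *; omega)
  have := h.three_le'
  have := abs_nonneg b
  have : 7 ≤ a := by omega
  nlinarith

theorem numII_lt {a b M z z' : ℤ} (h7 : 7 ≤ |r|) (ha : 0 < a) (hM : M + 1 = s * a + b)
    (e : a * b * (M + 1) = s * M * (s * a + (4 * s + 5) * b)) (h1 : 7 ≤ |M|)
    (hz : z + z' = M + 1) (h2 : |q| ^ 3 ≤ |z|) (h3 : |z'| ≤ a) (h4 : 3 * |M| ≤ a * |q|) :
    False := by
  have hq := h.hq
  have hs := h.hs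
  have hQ : 27 ≤ |q| := by (simp only [Int.abs_eq_natAbs] at *; omega)
  have hS : 2 * |s| ≤ |q| + 1 := by (simp only [Int.abs_eq_natAbs] at *; omega)
  have hS' : |q| ≤ 2 * |s| + 1 := by (simp only [Int.abs_eq_natAbs] at *; omega)
  have e1 : |z| ≤ |M| + 1 + a := by (simp only [Int.abs_eq_natAbs] at *; omega)
  have e2 : |s| * a ≤ |M| + 1 + |b| := by
    rw [← abs_of_pos ha, ← abs_mul, show s * a = M + 1 - b by omega]; (simp only [Int.abs_eq_natAbs] at *; omega)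
  have e3 := congrArg abs e
  rw [abs_mul, abs_mul, abs_mul, abs_mul, abs_of_pos ha] at e3
  have e4 : |s * a + (4 * s + 5) * b| ≤ |s| * a + (4 * |s| + 5) * |b| := by
    refine (abs_add_le _ _).trans ?_
    rw [abs_mul, abs_mul, abs_of_pos ha]
    gcongr
    (simp only [Int.abs_eq_natAbs] at *; omega)
  have e5 : 6 * |M| ≤ 7 * |M + 1| := by (simp only [Int.abs_eq_natAbs] at *; omega)
  have hb := abs_nonneg b
  have hs0 := abs_nonneg s
  generalize |q| = Q at *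
  generalize |s| = S at *
  generalize |b| = B at *
  generalize |M| = K at *
  generalize |M + 1| = K' at *
  have e6 : 6 * (a * B) ≤ 7 * S * (S * a + (4 * S + 5) * B) := by
    refine le_of_mul_le_mul_right ?_ (by omega : 0 < K)
    calc 6 * (a * B) * K = a * B * (6 * K) := by ring
      _ ≤ a * B * (7 * K') := by gcongr
      _ = 7 * (S * K * |s * a + (4 * s + 5) * b|) := by rw [← e3]; ring
      _ ≤ 7 * (S * K * (S * a + (4 * S + 5) * B)) := by gcongr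
      _ = _ := by ring
  have e7 : 2 * Q ^ 2 ≤ a := by
    by_contra h5
    have : a * (Q + 3) ≤ 2 * Q ^ 2 * (Q + 3) := by gcongr; omega
    nlinarith
  have e8 : 7 * S * (4 * S + 5) ≤ 9 * Q ^ 2 := by nlinarith
  have e9 : 14 * S ^ 2 ≤ 4 * Q ^ 2 := by nlinarith
  have e10 : 3 * B ≤ 14 * S ^ 2 := by
    refine le_of_mul_le_mul_right ?_ ha
    have : 7 * S * (4 * S + 5) * B * 2 ≤ 9 * a * B := by nlinarith
    nlinarith
  have e11 : 4 * a ≤ B + 1 := by nlinarith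
  nlinarith

theorem numII_big {x μ b : ℤ} (h7 : 7 ≤ |r|) (h1 : 8 * |r| - 3 ≤ |μ|) (h2 : 4 * |r| - 1 ≤ |x|)
    (e1 : b * (μ * (q * x + 1) - 4 * s * (s + 1) * q) = s * (q * x + 1))
    (e2 : q * b = (q - s * μ) * x + 1) : False := by
  have hq := h.hq
  have hs := h.hs
  have hQ : 4 * |r| - 1 ≤ |q| := by (simp only [Int.abs_eq_natAbs] at *; omega)
  have hQ' : |q| ≤ 4 * |r| + 1 := by (simp only [Int.abs_eq_natAbs] at *; omega)
  have hS : |s| ≤ 2 * |r| + 1 := by (simp only [Int.abs_eq_natAbs] at *; omega)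
  have hS' : 2 * |r| - 1 ≤ |s| := by (simp only [Int.abs_eq_natAbs] at *; omega)
  have hA : |s + 1| ≤ 2 * |r| + 2 := by (simp only [Int.abs_eq_natAbs] at *; omega)
  have e3 : |q| * |x| - 1 ≤ |q * x + 1| := by rw [← abs_mul]; generalize q * x = y; (simp only [Int.abs_eq_natAbs] at *; omega)
  have e4 : |μ| * |q * x + 1| - 4 * |s| * |s + 1| * |q| ≤
      |μ * (q * x + 1) - 4 * s * (s + 1) * q| := by
    have := abs_sub_abs_le_abs_sub (μ * (q * x + 1)) (4 * s * (s + 1) * q)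
    simpa only [abs_mul, Nat.abs_ofNat] using this
  have e5 := congrArg abs e1
  rw [abs_mul, abs_mul] at e5
  have e6 : (|s| * |μ| - |q|) * |x| - 1 ≤ |q| * |b| := by
    rw [← abs_mul q b, e2]
    have h3 : |s| * |μ| - |q| ≤ |q - s * μ| := by
      rw [← abs_mul, abs_sub_comm]; exact abs_sub_abs_le_abs_sub _ _
    have h4 := mul_le_mul_of_nonneg_right h3 (abs_nonneg x)
    rw [← abs_mul (q - s * μ)] at h4
    refine (sub_le_sub_right h4 1).trans ?_
    generalize (q - s * μ) * x = y; (simp only [Int.abs_eq_natAbs] at *; omega)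
  have hb := abs_nonneg b
  have hA0 := abs_nonneg (s + 1)
  generalize |μ * (q * x + 1) - 4 * s * (s + 1) * q| = K at *
  generalize |q * x + 1| = m at *
  generalize |s + 1| = A at *
  generalize |q| = Q at *
  generalize |s| = S at *
  generalize |b| = B at *
  generalize |x| = X at *
  generalize |μ| = U at *
  generalize |r| = R at *
  have e7 : Q * (4 * R - 2) ≤ m := by nlinarith
  have e8 : S * A ≤ (2 * R + 1) * (2 * R + 2) := by gcongr
  have e9 : (8 * R - 3) * (Q * (4 * R - 2)) ≤ U * m := by gcongr <;> nlinarith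
  have e10 : 16 * (S * A * Q) ≤ 3 * (U * m) := by
    have : 16 * ((2 * R + 1) * (2 * R + 2)) ≤ 3 * ((8 * R - 3) * (4 * R - 2)) := by nlinarith
    nlinarith
  have hm : 0 < m := by nlinarith
  have e11 : B * U ≤ 4 * S := by
    refine le_of_mul_le_mul_right ?_ hm
    nlinarith
  have e12 : B ≤ 1 := by nlinarith
  have e13 : 2 * Q ≤ S * U - Q := by nlinarith
  nlinarith

theorem numII_three {x b : ℤ} (h7 : 7 ≤ |r|)
    (e1 : b * (3 * (q * x + 1) - 4 * s * (s + 1) * q) = s * (q * x + 1))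
    (e2 : q * b = (q - s * 3) * x + 1) : False := by
  have hq := h.hq
  have hs := h.hs
  obtain ⟨Y, hY⟩ : ∃ Y, Y = 1 - (x + 2 * b) := ⟨_, rfl⟩
  have e3 : 3 * x = 2 + q * (Y - 1) := by subst q s Y; linarith
  have e4 : 3 * b = -((s + 1) * Y - s) := by
    refine mul_left_cancel₀ h.q_ne ?_
    subst q s; linear_combination 3 * e2 - (2 * r + 2) * e3
  have e5 : 4 * s * q * ((s + 1) * Y - s) = Y * (q ^ 2 * Y - 2 * s * (q - 3)) := by
    refine mul_left_cancel₀ (show s + 1 ≠ 0 by have := h.rne; omega) ?_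
    have e6 : 3 * (q * x + 1) = q ^ 2 * Y - 2 * s * (q - 3) := by
      subst q s; linear_combination (4 * r + 1) * e3
    have e7 : 3 * b * (3 * (q * x + 1) - 4 * s * (s + 1) * q) = s * (3 * (q * x + 1)) := by
      linear_combination 3 * e1
    rw [e6, e4] at e7
    linear_combination e7
  have h3 : IsCoprime q 3 := h.cop_q fun e => h.p2 (by
    have : (2 : ℤ) = 3 * x - q * (Y - 1) := by linarith
    rw [this]; exact dvd_sub (e.mul_right _) (h.pq.mul_right _))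
  obtain ⟨j, rfl⟩ : q ∣ Y := h3.dvd_of_dvd_mul_left
    ⟨4 * s * ((s + 1) * Y - s) - q * Y ^ 2 + (q - 2) * Y, by
      subst q s; linear_combination -e5⟩
  have e6 : q ^ 3 * j ^ 2 = j * ((q + 1) * (q ^ 2 + 4 * q - 3)) - (q + 1) ^ 2 := by
    refine mul_left_cancel₀ h.q_ne ?_
    subst q s; linear_combination -e5
  have e7 : q ∣ 3 * j + 1 :=
    ⟨j * (q ^ 2 + 5 * q + 1) - q - 2 - q ^ 2 * j ^ 2, by linear_combination e6⟩
  have e8 := Int.le_of_dvd (abs_pos.2 (by omega)) ((abs_dvd_abs _ _).2 e7)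
  have hQ : 27 ≤ |q| := by (simp only [Int.abs_eq_natAbs] at *; omega)
  have e9 : 8 ≤ |j| := by (simp only [Int.abs_eq_natAbs] at *; omega)
  have e10 : |q| ^ 3 * |j| ^ 2 ≤ |j| * ((|q| + 1) * (|q| ^ 2 + 4 * |q| + 3)) + (|q| + 1) ^ 2 := by
    rw [← abs_pow, ← abs_pow, ← abs_mul, e6]
    refine (abs_sub _ _).trans ?_
    have h1 : |q + 1| ≤ |q| + 1 := by (simp only [Int.abs_eq_natAbs] at *; omega)
    have h2 : |q ^ 2 + 4 * q - 3| ≤ |q| ^ 2 + 4 * |q| + 3 := by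
      rw [← abs_pow]; generalize q ^ 2 = y; (simp only [Int.abs_eq_natAbs] at *; omega)
    rw [abs_mul, abs_mul, abs_pow (q + 1)]
    gcongr
  generalize |q| = Q at *
  generalize |j| = J at *
  have h1 : (Q + 1) * (Q ^ 2 + 4 * Q + 3) ≤ 2 * Q ^ 3 := by nlinarith
  have h2 : (Q + 1) ^ 2 ≤ Q ^ 3 := by nlinarith
  have h4 : 0 < Q ^ 3 := by positivity
  have h5 := mul_le_mul_of_nonneg_left h1 (by omega : 0 ≤ J)
  have h6 : 0 < Q ^ 3 * (J ^ 2 - 2 * J - 1) := mul_pos h4 (by nlinarith)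
  nlinarith

theorem exists_split {M : ℤ} (hM : M ≠ 0) : ∃ (e : ℕ) (M' : ℤ), ¬ (p : ℤ) ∣ M' ∧ M = p ^ e * M' :=
  let ⟨e, M', h1, h2⟩ := WfDvdMonoid.max_power_factor hM h.pZ.irreducible
  ⟨e, M', h1, h2⟩

theorem numII {a b M z z' : ℤ} (h7 : 7 ≤ |r|) (ha : 0 < a) (hM : M + 1 = s * a + b)
    (hz : z + z' = M + 1) (M0 : M ≠ 0) (b0 : b ≠ 0) (z0 : z ≠ 0) (z0' : z' ≠ 0)
    (E1 : (1 : ℚ) + 1 / M - s ^ 2 / (s * a : ℤ) - s ^ 2 / b =
      4 * q ^ 2 * s * (s + 1) / (q ^ 2 * a : ℤ))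
    (E3 : (1 : ℚ) + 1 / M - q ^ 2 / z - q ^ 2 / z' = 16 * q * s ^ 2 * r / (q ^ 2 * a : ℤ))
    (d1 : M ∣ q ^ 2 * a) (d2 : z ∣ q ^ 2 * a * q) (d3 : z' ∣ q ^ 2 * a * q) (c1 : 8 ∣ M - 1)
    (c2 : 8 ∣ a + 1) (c3 : r ∣ M - 1) (c4 : r ∣ a - 3 ∨ b = s * a) : False := by
  have h1 : (M : ℚ) ≠ 0 := by exact_mod_cast M0
  have h2 : (z : ℚ) ≠ 0 := by exact_mod_cast z0
  have h3 : (q : ℚ) ≠ 0 := by exact_mod_cast h.q_ne
  have h4 : (z' : ℚ) ≠ 0 := by exact_mod_cast z0'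
  have h5 : (b : ℚ) ≠ 0 := by exact_mod_cast b0
  have h6 : (a : ℚ) ≠ 0 := by exact_mod_cast ha.ne'
  have h8 : (s : ℚ) ≠ 0 := by exact_mod_cast h.s_ne
  push_cast at E1 E3
  field_simp at E1 E3
  have e1 : a * b * (M + 1) = s * M * (s * a + (4 * s + 5) * b) := by
    have : ((a * b * (M + 1) : ℤ) : ℚ) = (s * M * (s * a + (4 * s + 5) * b) : ℤ) := by
      push_cast; linear_combination E1
    exact_mod_cast this
  have e3 : q ^ 3 * a * M * (M + 1) = z * z' * (q * a * (M + 1) - 16 * s ^ 2 * r * M) := by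
    have : ((q ^ 3 * a * M * (z + z') : ℤ) : ℚ) =
        (z * z' * (q * a * (M + 1) - 16 * s ^ 2 * r * M) : ℤ) := by
      push_cast; linear_combination -E3
    rw [hz] at this
    exact_mod_cast this
  clear E1 E3 h1 h2 h3 h4 h5 h6 h8
  have hP := h.pZ
  have f1 : M ∣ a * b := (show IsCoprime M (M + 1) from ⟨-1, 1, by ring⟩).dvd_of_dvd_mul_right
    ⟨s * (s * a + (4 * s + 5) * b), by rw [e1]; ring⟩
  by_cases f2 : M ∣ a
  · exact h.numII_a ha hM f2 e1 c1 c2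
  have pM : (p : ℤ) ∣ M := by
    by_contra f3
    exact f2 ((h.cop_q f3).pow_left.symm.dvd_of_dvd_mul_left d1)
  have pm : ¬ (p : ℤ) ∣ M + 1 := fun e => hP.not_dvd_one ((dvd_add_right pM).1 e)
  have pa : ¬ (p : ℤ) ∣ a := fun e => by
    have f3 : ¬ (p : ℤ) ∣ b := fun e' => pm (hM ▸ dvd_add (e.mul_left _) e')
    obtain ⟨u, v, f4⟩ := (h.cop_q f3).pow_left (m := 2)
    refine f2 ?_
    rw [show a = u * (q ^ 2 * a) + v * (a * b) by linear_combination -a * f4]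
    exact dvd_add (d1.mul_left _) (f1.mul_left _)
  wlog pz : ¬ (p : ℤ) ∣ z' generalizing z z'
  · refine this (by omega) z0' z0 d3 d2 (by rw [e3]; ring) fun e => pm ?_
    exact hz ▸ dvd_add e (not_not.1 pz)
  obtain ⟨e, x, px, hx⟩ := h.exists_split M0
  obtain ⟨f, hf⟩ := h.qp
  obtain ⟨ε, hε, hq'⟩ : ∃ ε : ℤ, ε * ε = 1 ∧ q = ε * p ^ f := by
    have : (q.natAbs : ℤ) = p ^ f := by rw [hf]; push_cast; rfl
    rcases Int.natAbs_eq q with e | e
    · exact ⟨1, rfl, by omega⟩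
    · exact ⟨-1, rfl, by omega⟩
  have xa : x ∣ a :=
    (h.cop_q px).pow_left.symm.dvd_of_dvd_mul_left ((Dvd.intro_left _ hx.symm).trans d1)
  have p16 : ¬ (p : ℤ) ∣ 16 * s ^ 2 * r := fun e => by
    rcases hP.dvd_or_dvd e with e | e
    · rcases hP.dvd_or_dvd e with e | e
      · exact h.p2 (hP.dvd_of_dvd_pow (show (p : ℤ) ∣ 2 ^ 4 from e))
      · exact h.ps (hP.dvd_of_dvd_pow e)
    · exact h.pr e
  have p0 : (p : ℤ) ≠ 0 := hP.ne_zero
  rcases lt_trichotomy e f with hef | rfl | hef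
  · obtain ⟨k, rfl⟩ := Nat.exists_eq_add_of_lt hef
    have g1 : q ^ 3 * (a * x * (M + 1)) =
        z * (z' * (p * (ε * p ^ k * a * (M + 1)) - 16 * s ^ 2 * r * x)) := by
      refine mul_left_cancel₀ (pow_ne_zero e p0) ?_
      linear_combination e3 - (q ^ 3 * a * (M + 1) + z * z' * 16 * s ^ 2 * r) * hx +
        z * z' * a * (M + 1) * hq'
    have g2 : q ^ 3 ∣ z := (h.cop_q fun e => (hP.dvd_or_dvd e).elim pz fun e =>
      (hP.dvd_or_dvd ((dvd_sub_right (Dvd.intro _ rfl)).1 e)).elim p16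
        px).pow_left.dvd_of_dvd_mul_right ⟨_, g1.symm⟩
    refine h.numII_lt h7 ha hM e1 ?_ hz ?_ ?_ ?_
    · have : M ≠ 1 := fun e => hP.not_dvd_one (e ▸ pM)
      clear g1 g2 e3 e1; (simp only [Int.abs_eq_natAbs] at *; omega)
    · rw [← abs_pow]
      exact Int.le_of_dvd (abs_pos.2 z0) ((abs_dvd_abs _ _).2 g2)
    · refine Int.le_of_dvd ha ((abs_dvd _ _).2 ?_)
      exact ((h.cop_q pz).pow_left (m := 3)).symm.dvd_of_dvd_mul_left (by
        rwa [show q ^ 3 * a = q ^ 2 * a * q by ring])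
    · have g3 : |x| ≤ a := Int.le_of_dvd ha ((abs_dvd _ _).2 xa)
      have g4 : (3 : ℤ) ≤ p := by have := h.pp.two_le; have := h.p_ne_two; omega
      have g5 : |q| = p ^ (e + k + 1) := by rw [Int.abs_eq_natAbs, hf]; push_cast; rfl
      have g6 : (1 : ℤ) ≤ p ^ k := one_le_pow₀ (by omega)
      rw [hx, abs_mul, g5, abs_of_pos (by positivity : (0 : ℤ) < p ^ e)]
      calc 3 * ((p : ℤ) ^ e * |x|) = |x| * (p ^ e * 1 * 3) := by ring
        _ ≤ a * (p ^ e * p ^ k * p) := by gcongr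
        _ = _ := by ring
  · have hx' : M = q * (ε * x) := by rw [hx, hq']; linear_combination -p ^ e * x * hε
    obtain ⟨μ, hμ⟩ : ε * x ∣ a := by
      obtain ⟨k, hk⟩ := xa
      exact ⟨ε * k, by rw [hk]; linear_combination -x * k * hε⟩
    generalize ε * x = y at hx' hμ
    obtain ⟨b', hb⟩ : q ∣ b :=
      (h.cop_q pa).dvd_of_dvd_mul_left ((Dvd.intro _ hx'.symm).trans f1)
    have y0 : y ≠ 0 := by rintro rfl; simp at hx'; exact M0 hx'
    have g1 : b' * (μ * (q * y + 1) - 4 * s * (s + 1) * q) = s * (q * y + 1) := by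
      refine mul_left_cancel₀ (mul_ne_zero h.q_ne y0) ?_
      rw [show s * a + (4 * s + 5) * b = M + 1 + 4 * (s + 1) * b by rw [hM]; ring] at e1
      subst hx' hμ hb; linear_combination e1
    have g2 : q * b' = (q - s * μ) * y + 1 := by subst hx' hμ hb; linear_combination -hM
    rcases c4 with c4 | c4
    · by_cases h3 : μ = 3
      · subst h3; exact h.numII_three h7 g1 g2
      have hq := h.hq
      have cr : IsCoprime (8 : ℤ) r := (show IsCoprime (2 : ℤ) r from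
        Int.isCoprime_two_left.2 h.oddr).pow_left (m := 3)
      obtain ⟨j, hj⟩ := h.oddr
      have g3 : r ∣ y - 1 := by
        rw [show y - 1 = M - 1 - r * (4 * y) by rw [hx', hq]; ring]
        exact dvd_sub c3 (Dvd.intro _ rfl)
      have g4 : 8 ∣ y - 5 := by
        have : M - 1 = 8 * (j * y) + 5 * y - 1 := by rw [hx', hq, hj]; ring
        omega
      have g5 : 8 * r ∣ y - q := cr.mul_dvd (by omega) (by
        rw [show y - q = y - 1 - r * 4 by rw [hq]; ring]; exact dvd_sub g3 (Dvd.intro _ rfl))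
      have g6 : 8 * r ∣ μ - 3 := cr.mul_dvd (by
        obtain ⟨k, hk⟩ := g4
        have : a + 1 = 8 * (k * μ) + 5 * μ + 1 := by rw [hμ, show y = 8 * k + 5 by omega]; ring
        omega) (by
        rw [show μ - 3 = a - 3 - (y - 1) * μ by rw [hμ]; ring]
        exact dvd_sub c4 (g3.mul_right _))
      have g7 := Int.le_of_dvd (abs_pos.2 (sub_ne_zero.2 h3)) ((abs_dvd_abs _ _).2 g6)
      refine h.numII_big h7 (by clear g1 g2 e3 e1; (simp only [Int.abs_eq_natAbs] at *; omega)) ?_ g1 g2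
      by_cases g8 : y = q
      · clear g1 g2 e3 e1; (simp only [Int.abs_eq_natAbs] at *; omega)
      · have := Int.le_of_dvd (abs_pos.2 (sub_ne_zero.2 g8)) ((abs_dvd_abs _ _).2 g5)
        clear g1 g2 e3 e1; (simp only [Int.abs_eq_natAbs] at *; omega)
    · exact (hP.dvd_or_dvd (c4 ▸ hb ▸ h.pq.mul_right b')).elim h.ps pa
  · obtain ⟨k, rfl⟩ := Nat.exists_eq_add_of_lt hef
    have hx' : M = q * (p * (ε * p ^ k * x)) := by
      rw [hx, hq']; linear_combination -p ^ (f + k + 1) * x * hε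
    generalize ε * p ^ k * x = y at hx'
    have g1 : q ^ 3 * p * (a * y * (M + 1)) =
        z * (z' * (a * (M + 1) - p * (16 * s ^ 2 * r * y))) := by
      refine mul_left_cancel₀ h.q_ne ?_
      linear_combination e3 - (q ^ 3 * a * (M + 1) + z * z' * 16 * s ^ 2 * r) * hx'
    have g3 : ¬ (p : ℤ) ∣ z' * (a * (M + 1) - p * (16 * s ^ 2 * r * y)) := fun e =>
      (hP.dvd_or_dvd e).elim pz fun e =>
        (hP.dvd_or_dvd ((dvd_sub_left (Dvd.intro _ rfl)).1 e)).elim pa pm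
    have g2 : q ^ 3 * p ∣ z := ((h.cop_q g3).pow_left.mul_left
      ((hP.irreducible.coprime_iff_not_dvd).2 g3)).dvd_of_dvd_mul_right ⟨_, g1.symm⟩
    refine pa ((mul_dvd_mul_iff_left (pow_ne_zero 3 h.q_ne)).1 (g2.trans ?_))
    rwa [show q ^ 3 * a = q ^ 2 * a * q by ring]

theorem numT {a w w3 : ℤ} (hw : w3 = s * a - 1 - w) (a0 : a ≠ 0) (w0 : w ≠ 0) (w30 : w3 ≠ 0)
    (E1 : (1 : ℚ) - s ^ 2 / (s * a : ℤ) + (2 * r) ^ 2 / w + (2 * s) ^ 2 / w3 =
      4 * q ^ 2 * s * (s + 1) / (q ^ 2 * a : ℤ))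
    (E3 : (1 : ℚ) - q ^ 2 / (1 + 2 * w : ℤ) + (2 * r) ^ 2 / w + (2 * r) ^ 2 / w =
      16 * q * s ^ 2 * r / (q ^ 2 * a : ℤ))
    (c1 : 8 ∣ w + 2 * r) (c2 : r ∣ w) : False := by
  have h1 : (w : ℚ) ≠ 0 := by exact_mod_cast w0
  have h2 : (w3 : ℚ) ≠ 0 := by exact_mod_cast w30
  have h3 : (q : ℚ) ≠ 0 := by exact_mod_cast h.q_ne
  have h4 : (1 + 2 * w : ℚ) ≠ 0 := by exact_mod_cast (by omega : 1 + 2 * w ≠ 0)
  have h6 : (a : ℚ) ≠ 0 := by exact_mod_cast a0
  have h8 : (s : ℚ) ≠ 0 := by exact_mod_cast h.s_ne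
  push_cast at E1 E3
  field_simp at E1 E3
  have e1 : a * w * w3 - s * (4 * s + 5) * w * w3 + 4 * r ^ 2 * a * w3 + 4 * s ^ 2 * a * w = 0 := by
    have : ((a * w * w3 - s * (4 * s + 5) * w * w3 + 4 * r ^ 2 * a * w3 + 4 * s ^ 2 * a * w : ℤ) :
      ℚ) = 0 := by push_cast; linear_combination E1
    exact_mod_cast this
  have e3 : q * a * (w * (1 + 2 * w) - q ^ 2 * w + 8 * r ^ 2 * (1 + 2 * w)) =
      16 * s ^ 2 * r * w * (1 + 2 * w) := by
    have : ((q * a * (w * (1 + 2 * w) - q ^ 2 * w + 8 * r ^ 2 * (1 + 2 * w)) : ℤ) : ℚ) =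
        (16 * s ^ 2 * r * w * (1 + 2 * w) : ℤ) := by push_cast; linear_combination E3
    exact_mod_cast this
  clear E1 E3 h1 h2 h3 h4 h6 h8
  have hq := h.hq
  have hs := h.hs
  have hP := h.pZ
  have cr : IsCoprime (8 : ℤ) r := (show IsCoprime (2 : ℤ) r from
    Int.isCoprime_two_left.2 h.oddr).pow_left (m := 3)
  obtain ⟨k, hk⟩ : 8 * r ∣ w + 2 * r := cr.mul_dvd c1 (dvd_add c2 (Dvd.intro_left _ rfl))
  obtain ⟨d, hd, hd'⟩ : ∃ d, d = 2 * k - 1 ∧ w = 2 * r + 4 * r * d :=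
    ⟨_, rfl, by linear_combination hk⟩
  have e4 : q * a * d ^ 2 = s ^ 2 * (2 * d + 1) * (8 * r * d + q) := by
    refine mul_left_cancel₀ (show 32 * r ^ 2 ≠ 0 by have := h.r_ne; positivity) ?_
    subst w q; linear_combination e3
  obtain ⟨ρ, hρ⟩ : d ∣ q * s := by
    refine (show IsCoprime d 2 from ⟨-1, k, by omega⟩).dvd_of_dvd_mul_left ?_
    have : d ∣ 2 * (q * s) + d * (2 * q * s + 8 * r * s) :=
      (Int.pow_dvd_pow_iff two_ne_zero).1 ⟨(2 * q * s + 8 * r * s) ^ 2 - 64 * q * r * s ^ 2 +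
        4 * q ^ 2 * a, by linear_combination -4 * q * e4⟩
    exact (dvd_add_left (Dvd.intro _ rfl)).1 this
  have d0 : d ≠ 0 := by omega
  have e5 : q ^ 2 * a = (ρ + q ^ 2 + q) * (ρ + q ^ 2 - 1) := by
    refine mul_left_cancel₀ (pow_ne_zero 2 d0) ?_
    have h1 : d * (ρ + q ^ 2 + q) = q * s * (2 * d + 1) := by
      subst q s; linear_combination -hρ
    have h2 : d * (ρ + q ^ 2 - 1) = s * (8 * r * d + q) := by
      subst q s; linear_combination -hρ
    calc d ^ 2 * (q ^ 2 * a) = q * (q * a * d ^ 2) := by ring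
      _ = q * s * (2 * d + 1) * (s * (8 * r * d + q)) := by rw [e4]; ring
      _ = _ := by rw [← h1, ← h2]; ring
  have q5 := h.five_le'
  have hS : 2 * |s| ≤ |q| + 1 := by (simp only [Int.abs_eq_natAbs] at *; omega)
  by_cases pρ : (p : ℤ) ∣ ρ
  · have g1 : q ^ 2 ∣ ρ + q := by
      have : q ^ 2 ∣ ρ + q ^ 2 + q := (h.cop_q fun e => hP.not_dvd_one (by
        have := dvd_sub (dvd_add pρ (h.pq.pow (two_ne_zero))) e
        simpa using this)).pow_left.dvd_of_dvd_mul_right ⟨a, e5.symm⟩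
      rwa [add_right_comm, dvd_add_left dvd_rfl] at this
    have g2 : ρ = -q := by
      by_contra g3
      have g4 := Int.le_of_dvd (abs_pos.2 (by omega)) ((abs_dvd_abs _ _).2 g1)
      have g5 := Int.le_of_dvd (abs_pos.2 (mul_ne_zero h.q_ne h.s_ne))
        ((abs_dvd_abs _ _).2 (Dvd.intro_left _ hρ.symm))
      have g6 := abs_add_le ρ q
      rw [abs_mul] at g5
      rw [abs_pow] at g4
      nlinarith
    have g3 : d = -s := mul_left_cancel₀ h.q_ne (by rw [g2] at hρ; linear_combination hρ)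
    have g4 : a = q ^ 2 - q - 1 :=
      mul_left_cancel₀ (pow_ne_zero 2 h.q_ne) (by rw [e5, g2]; ring)
    have g5 : w = -2 * r * q := by rw [hd', g3, hq, hs]; ring
    have g6 : q ∣ 2 * r * a * w3 := ⟨a * w3 - s * (4 * s + 5) * w3 + 4 * s ^ 2 * a,
      mul_left_cancel₀ (mul_ne_zero two_ne_zero h.r_ne) (by rw [g5] at e1; linear_combination e1)⟩
    have g7 : q ∣ w3 := (((h.cop_q h.p2).mul_right (h.cop_q h.pr)).mul_right
      (show IsCoprime q a from ⟨q - 1, -1, by rw [g4]; ring⟩)).dvd_of_dvd_mul_left g6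
    have g8 : q ∣ 3 := by
      rw [show (3 : ℤ) = q * (q ^ 2 + q - 3) - 2 * w3 by rw [hw, g5, g4, hq, hs]; ring]
      exact dvd_sub (Dvd.intro _ rfl) (g7.mul_left _)
    have := Int.le_of_dvd (by norm_num) ((abs_dvd _ _).2 g8)
    omega
  · have g1 : q ^ 2 ∣ ρ - 1 := by
      have : q ^ 2 ∣ ρ + q ^ 2 - 1 := (h.cop_q fun e => pρ (by
        have := dvd_sub e (dvd_add (h.pq.pow (two_ne_zero)) h.pq)
        simpa [add_assoc] using this)).pow_left.dvd_of_dvd_mul_left ⟨a, e5.symm⟩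
      rwa [show ρ + q ^ 2 - 1 = ρ - 1 + q ^ 2 by ring, dvd_add_left dvd_rfl] at this
    have g2 : ρ = 1 := by
      by_contra g3
      have g4 := Int.le_of_dvd (abs_pos.2 (by omega)) ((abs_dvd_abs _ _).2 g1)
      have g5 := Int.le_of_dvd (abs_pos.2 h.s_ne) ((abs_dvd_abs _ _).2
        ((h.cop_q pρ).symm.dvd_of_dvd_mul_left (Dvd.intro_left _ hρ.symm)))
      have g6 := abs_sub ρ 1
      rw [abs_pow] at g4
      rw [abs_one] at g6
      nlinarith
    have g3 : d = q * s := by rw [hρ, g2, mul_one]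
    have g4 : a = q ^ 2 + q + 1 :=
      mul_left_cancel₀ (pow_ne_zero 2 h.q_ne) (by rw [e5, g2]; ring)
    have g5 : 128 * (r * a * (r ^ 2 * s ^ 2)) = 0 := by
      rw [hw, hd', g3] at e1; subst a q s; linear_combination e1
    simp [h.r_ne, h.s_ne, a0] at g5

end Par

end CfsgLib.JR
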