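import Cfsg.Agent.Lib.JR.Sect
import Cfsg.Agent.Lib.JR.LocB

/-!
# The exceptional characters of the torus `R`
-/

set_option autoImplicit false
set_option linter.unusedSimpArgs false
set_option linter.unusedSectionVars false

namespace CfsgLib.JR

open Subgroup Cfsg CfsgLib.FT CfsgLib.FT.BGN CfsgLib.FT.U4 CfsgLib.GW CfsgLib.Blk
open scoped ComplexConjugate

variable {G : Type*} [Group G] [Fintype G] {q r s : ℤ} {p : ℕ} {c : Cfg G} {g x y z t u w j : G}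
  {X : Subgroup G} {a b e φ μ μ' ρ ρ' τ : G → ℂ} {κ : ℂ}

/-- The induced virtual characters from `W = V × R`. -/
noncomputable def be (c : Cfg G) (μ ρ : G → ℂ) : G → ℂ :=
  cfInd c.W ⊤ (cfProd (V c.t c.u) c.R μ (cf1 c.R - ρ))

/-- The lifts of the exceptional characters of `T`. -/
noncomputable def ze (c : Cfg G) (e τ : G → ℂ) : G → ℂ :=
  cfInd c.T c.L (cf1 c.T - τ) - (cf1 c.L - e)

theorem exists_lam (h : Four t u) :
    ∃ μ, IsLin (V t u) μ ∧ μ t = 1 ∧ μ u = -1 ∧ μ (t * u) = -1 := by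
  obtain ⟨μ, h1, h2, h3⟩ := exists_lin_ker_not_mem (N := zpowers t) (zpowers_le.2 (t_mem_V t u))
    (by rw [commutator_eq_bot_of_comm fun x hx y hy => (mem_cent.1 (h.V_le_cent hy) x hx)]
        exact bot_le) (s_mem_V t u) fun e => ((mem_zpowers_inv h.ot).1 e).elim h.s1 h.ne.symm
  have h4 : μ t = 1 := by rw [← h1.one]; exact cfker_apply (h2 (mem_zpowers t))
  have h5 := h1.map_mul (s_mem_V t u) (s_mem_V t u)
  rw [h.ss, h1.one, eq_comm, mul_self_eq_one_iff, or_iff_right h3] at h5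
  exact ⟨μ, h1, h4, h5, by rw [h1.map_mul (t_mem_V t u) (s_mem_V t u), h4, h5, one_mul]⟩

theorem cent_inertia (hμ : μ ∈ CF X) (hz : z ∈ 𝐂(X)) : cfConjg z μ = μ := by
  refine mem_inertia_iff.1 (mem_inertia.2 fun g => ?_)
  by_cases e : g ∈ X
  · rw [← mem_cent.1 hz g e, mul_inv_cancel_right]
  · rw [CF_zero hμ e, CF_zero hμ (mt (norm_conj_mem (U4.cent_le_norm _ hz)).1 e)]

namespace GD

variable (h : GD q r s p c)
include h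

theorem dprodW : DProdIn (V c.t c.u) c.R c.W :=
  dprodIn_of_sup h.W_eq (eq_bot_of_forall fun _ hx => eq_one_of_odd_of_mul_self
    (odd_orderOf_of_mem h.oddR hx.2) (h.four_tu.mul_self_of_mem hx.1))
    fun _ hx _ hy => h.commW (h.V_le_W hx) (h.R_le_W hy)

theorem sq_W (hg : g ∈ c.W) : g * g ∈ c.R := by
  obtain ⟨a, ha, x, hx, rfl⟩ := h.exists_VR hg
  rw [mul_assoc, ← mul_assoc x, ← h.commW (h.V_le_W ha) (h.R_le_W hx), ← mul_assoc, ← mul_assoc,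
    h.four_tu.mul_self_of_mem ha, one_mul]
  exact mul_mem hx hx

theorem W_le_nv : c.W ≤ 𝐍(V c.t c.u) := h.W_le_cv.trans (U4.cent_le_norm _)

theorem cfdot_be (hφ : φ ∈ CF ⊤) : cfdot ⊤ φ (be c μ ρ) =
    (cfdot c.R φ (cf1 c.R - ρ) * conj (μ 1) + cfdot c.R (tr c.t φ) (cf1 c.R - ρ) * conj (μ c.t) +
      cfdot c.R (tr c.u φ) (cf1 c.R - ρ) * conj (μ c.u) +
      cfdot c.R (tr (c.t * c.u) φ) (cf1 c.R - ρ) * conj (μ (c.t * c.u))) / 4 := by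
  rw [be, cfdot_cfInd_right le_top hφ, cfdot_prod h.dprodW.compl, cfdot, h.four_tu.sum_V,
    h.four_tu.card_V, show tr 1 φ = φ by ext; simp [tr]]
  simp only [Nat.cast_ofNat]; ring

theorem be_mem (hμ : IsIrr (V c.t c.u) μ) (hρ : IsIrr c.R ρ) : be c μ ρ ∈ ZIrr ⊤ :=
  ZIrr_cfInd le_top (h.dprodW.mem_ZIrr hμ.mem_ZIrr (sub_mem cf1_mem_ZIrr hρ.mem_ZIrr))

theorem prod_zero (hρ : IsIrr c.R ρ) (hg : g ∉ (c.W : Set G) \ V c.t c.u) :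
    cfProd (V c.t c.u) c.R μ (cf1 c.R - ρ) g = 0 := by
  by_cases e : g ∈ V c.t c.u
  · rw [← mul_one g, cfProd_apply h.dprodW.compl.2.2.1 e (one_mem _)]
    simp [cf1_apply c.R.one_mem, (hρ.isLin_of_comm h.commR).one]
  · exact cfProd_apply_of_notMem h.dprodW.compl fun e' => hg ⟨e', e⟩

theorem be_zero (hρ : IsIrr c.R ρ) (hg : g * g = 1) : be c μ ρ g = 0 :=
  cfInd_eq_zero fun x _ hx => h.prod_zero hρ fun e => e.2 (h.mem_V_of_W hx (by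
    rw [conj_mul, hg]; simp))

theorem tiW (hR : c.R ≠ ⊥) : NormedTI ((c.W : Set G) \ V c.t c.u) ⊤ 𝐍(V c.t c.u) := by
  refine ⟨?_, le_top, fun x hx a ha => ⟨norm_mem (h.nv_W hx) ha.1,
    mt (norm_conj_mem hx).1 ha.2⟩, fun z _ g hg hz => mem_norm_of fun v hv => ?_⟩
  · obtain ⟨x, hx, h1⟩ := (Subgroup.bot_or_exists_ne_one c.R).resolve_left hR
    exact ⟨x, h.R_le_W hx, fun e => h1 (mem_bot.1 (h.dprodW.compl.2.2.1 ▸ ⟨e, hx⟩))⟩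
  · refine h.mem_V_of_W ?_ (by rw [conj_mul, h.four_tu.mul_self_of_mem hv]; simp)
    rw [← h.cent_R (h.sq_W hz.1) fun e => hz.2 (h.mem_V_of_W hz.1 e), conj_mul]
    exact conj_cent z (h.commW (h.V_le_W hv) (mul_mem hg.1 hg.1))

theorem th_W (hg : g ∈ (c.W : Set G) \ V c.t c.u) : th ⊤ g = (4 * r.natAbs : ℕ) := by
  have k1 := h.sq_W hg.1
  have k2 : g * g ≠ 1 := fun e => hg.2 (h.mem_V_of_W hg.1 e)
  have k3 : ∀ a ∈ 𝐂(V c.t c.u), a ∉ c.W → Inverts a c.W := fun a ha hW x hx' => by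
    obtain ⟨v, hv, x, hx, rfl⟩ := h.exists_VR hx'
    rw [← conj_mul, h.inverts_of_cv ha hW x hx, ← mem_cent.1 ha v hv, mul_inv_cancel_right,
      mul_inv_rev, h.commW (h.V_le_W hv) (h.R_le_W (inv_mem hx)),
      inv_eq_of_mul_eq_one_left (h.four_tu.mul_self_of_mem hv)]
  have k4 := h.S_le_cv h.v_S
  have : invs ⊤ g = (𝐂(V c.t c.u) : Set G) \ c.W := by
    ext a
    refine ⟨fun ha => ?_, fun ha => ?_⟩
    · have hi := inverts_of_mem_invs ha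
      have k5 : a ∉ c.W := fun hW => k2 (by
        rwa [h.commW hW hg.1, mul_inv_cancel_right, eq_inv_iff_mul_eq_one] at hi)
      have k6 : c.v * a ∈ c.W := by
        rw [← h.cent_R k1 k2]
        refine mem_cent1_of_conj_eq ?_
        rw [show c.v * a * (g * g) * (c.v * a)⁻¹ = c.v * (a * g * a⁻¹ * (a * g * a⁻¹)) * c.v⁻¹ by
          group, hi, k3 _ k4 h.v_W _ (mul_mem (inv_mem hg.1) (inv_mem hg.1))]
        simp
      exact ⟨(mul_mem_cancel_left k4).1 (h.W_le_cv k6), k5⟩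
    · exact mem_invs (mem_top _) (mem_top _) (inv_of_mul_self (mul_self_of_inverts h.four.ss
        (k3 _ k4 h.v_W) ((h.mem_cv ha.1).resolve_left ha.2)) fun e => ha.2 (e ▸ one_mem _))
        (k3 a ha.1 ha.2 g hg.1) fun e => ha.2 (eq_inv_of_mul_eq_one_left e ▸ inv_mem hg.1)
  rw [th, this, ncard_diff h.W_le_cv h.idxW, h.card_W]

theorem Th_be (hρ : IsIrr c.R ρ) (h1 : ρ ≠ cf1 c.R) : Th ⊤ c.t (be c μ ρ) =
    32 * q * s * r ^ 2 / (𝐂[c.t]).index * cfdot (V c.t c.u) μ (cf1 (V c.t c.u)) := by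
  have k : cfdot c.W (cfProd (V c.t c.u) c.R μ (cf1 c.R - ρ)) (th ⊤) =
      (4 * r.natAbs : ℕ) * cfdot (V c.t c.u) μ (cf1 (V c.t c.u)) := by
    have : cfdot c.W (cfProd (V c.t c.u) c.R μ (cf1 c.R - ρ)) (cf1 c.W) =
        cfdot (V c.t c.u) μ (cf1 (V c.t c.u)) := by
      rw [← cfProd_cf1 h.dprodW.compl, cfdot_cfProd h.dprodW.compl, cfdot_sub_left, cfdot_cf1,
        hρ.cfdot_ne (isIrr_cf1 _) h1, sub_zero, mul_one]
    rw [← this, ← map_natCast (starRingEnd ℂ), ← cfdot_smul_right]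
    simp only [cfdot]
    congr 1
    refine Finset.sum_congr rfl fun g hg => ?_
    by_cases e : g ∈ V c.t c.u
    · simp [h.prod_zero hρ (g := g) fun e' => e'.2 e]
    · rw [h.th_W ⟨mem_elems.1 hg, e⟩, Pi.smul_apply, cf1_apply (mem_elems.1 hg), smul_eq_mul,
        mul_one]
  rw [be, h.Th_top cfInd_mem_CF, cfdot_cfInd_left le_top th_mem_CF, k]
  have := h.natAbs_rr
  push_cast at this ⊢
  linear_combination 32 * q * s / (𝐂[c.t]).index * cfdot (V c.t c.u) μ (cf1 (V c.t c.u)) * this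

theorem inertia_R (hρ : IsIrr c.R ρ) (h1 : ρ ≠ cf1 c.R) (hz : z ∈ 𝐍(V c.t c.u))
    (e : cfConjg z ρ = ρ) : z ∈ c.W := by
  obtain ⟨x, hx, k1, y, hy, k2⟩ := exists_fixed_class_of_inertia_ker (N := ⊥) (h.nv_R hz) bot_le
    le_normalizer_bot (le_normalizer_bot (mem_top z)) hρ h1 bot_le (mem_inertia_iff.2 e)
  rw [mem_bot] at k1 k2
  rw [h.commR y hy x hx, mul_inv_cancel_right, mul_inv_eq_one] at k2
  exact h.cent_R hx k1 ▸ mem_cent1_of_conj_eq k2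

open Classical in
theorem ind_ind (hμ : IsIrr (V c.t c.u) μ) (hρ : IsIrr c.R ρ) (hμ' : IsIrr (V c.t c.u) μ')
    (hρ' : IsIrr c.R ρ') : cfdot 𝐍(V c.t c.u) (cfInd c.W 𝐍(V c.t c.u) (cfProd (V c.t c.u) c.R μ ρ))
      (cfInd c.W 𝐍(V c.t c.u) (cfProd (V c.t c.u) c.R μ' ρ')) =
      if ∃ z ∈ 𝐍(V c.t c.u), cfConjg z μ = μ' ∧ cfConjg z ρ = ρ' then (c.W.relIndex
        (𝐍(V c.t c.u) ⊓ inertia (cfProd (V c.t c.u) c.R μ ρ)) : ℂ) else 0 := by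
  rw [cfdot_Ind_irr h.W_le_nv h.nv_W (h.dprodW.isIrr hμ hρ) (h.dprodW.isIrr hμ' hρ')]
  refine if_congr ?_ rfl rfl
  rw [mem_cfclass]
  refine exists_congr fun z => and_congr_right fun hz => ?_
  rw [cfConjg_cfProd hz (h.nv_R hz)]
  exact ⟨cfProd_irr_inj h.dprodW.compl (hμ.cfConjg hz) (hρ.cfConjg (h.nv_R hz)) hμ' hρ',
    fun e => by rw [e.1, e.2]⟩

open Classical in
theorem be_be (hμ : IsIrr (V c.t c.u) μ) (hμ' : IsIrr (V c.t c.u) μ') (hρ : IsIrr c.R ρ)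
    (hρ' : IsIrr c.R ρ') (h1 : ρ ≠ cf1 c.R) (h1' : ρ' ≠ cf1 c.R) :
    cfdot ⊤ (be c μ ρ) (be c μ' ρ') =
      (if ∃ z ∈ 𝐍(V c.t c.u), cfConjg z μ = μ' then (c.W.relIndex
        (𝐍(V c.t c.u) ⊓ inertia (cfProd (V c.t c.u) c.R μ (cf1 c.R))) : ℂ) else 0) +
      if ∃ z ∈ 𝐍(V c.t c.u), cfConjg z μ = μ' ∧ cfConjg z ρ = ρ' then 1 else 0 := by
  have hR : c.R ≠ ⊥ := fun e => h1 (by rw [hρ.eq_cf1_iff, e]; exact bot_le)
  have k : ∀ μ ρ, IsIrr c.R ρ → cfInd c.W 𝐍(V c.t c.u)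
      (cfProd (V c.t c.u) c.R μ (cf1 c.R - ρ)) ∈ CFon _ _ := fun μ ρ hρ =>
    cfInd_mem_CFon (h.tiW hR).conj_mem fun g => h.prod_zero hρ
  have i := isIrr_cf1 c.R
  rw [be, be, ← cfInd_cfInd h.W_le_nv le_top, ← cfInd_cfInd (L := ⊤) h.W_le_nv le_top,
    normedTI_isometry (h.tiW hR) (k _ _ hρ) (k _ _ hρ'), cfProd_sub_right, cfProd_sub_right,
    map_sub, map_sub, cfdot_sub_left, cfdot_sub_right, cfdot_sub_right, h.ind_ind hμ i hμ' i,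
    h.ind_ind hμ i hμ' hρ', h.ind_ind hμ hρ hμ' i, h.ind_ind hμ hρ hμ' hρ',
    if_neg (c := ∃ z ∈ _, _ ∧ _ = ρ'), if_neg (c := ∃ z ∈ _, _ ∧ cfConjg z ρ = _),
    (relIndex_eq_one (H := c.W) (K := _ ⊓ inertia (cfProd _ _ μ ρ))).2 fun z hz => ?_,
    if_congr (exists_congr fun z => and_congr_right fun hz =>
      and_iff_left (cfConjg_cf1 (h.nv_R hz))) rfl rfl]
  · simp
  · have := mem_inertia_iff.1 hz.2
    rw [cfConjg_cfProd hz.1 (h.nv_R hz.1)] at this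
    exact h.inertia_R hρ h1 hz.1 (cfProd_irr_inj h.dprodW.compl (hμ.cfConjg hz.1)
      (hρ.cfConjg (h.nv_R hz.1)) hμ hρ this).2
  · rintro ⟨z, hz, -, e⟩
    exact h1 (cfConjg_injective z (e.trans (cfConjg_cf1 (h.nv_R hz)).symm))
  · rintro ⟨z, hz, -, e⟩
    exact h1' (e.symm.trans (cfConjg_cf1 (h.nv_R hz)))

theorem be_conj (hz : z ∈ 𝐍(V c.t c.u)) : be c (cfConjg z μ) (cfConjg z ρ) = be c μ ρ := by
  rw [be, be, eq_comm, ← cfInd_cfConjg (mem_top z) (h.nv_W hz), cfConjg_cfProd hz (h.nv_R hz), map_sub,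
    cfConjg_cf1 (h.nv_R hz)]

theorem ze_os (hE : LC q s c a b e) (hτ : IsIrr c.T τ) : OS c.L (ze c e τ) :=
  ⟨sub_mem (ZIrr_cfInd h.TL (h.betaT_mem hτ)) hE.ose.mem, fun g hg => by
    rw [ze, Pi.sub_apply, h.betaT_even hg, hE.ose.ev g hg, sub_zero]⟩

theorem cfdot_ze (hE : LC q s c a b e) (hτ : IsIrr c.T τ) (h1 : τ ≠ cf1 c.T) :
    cfdot c.L a (ze c e τ) = 0 ∧ cfdot c.L b (ze c e τ) = 0 ∧ cfdot c.L e (ze c e τ) = 0 ∧
      cfdot c.L (ze c e τ) (ze c e τ) = 1 := by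
  have k := fun φ κ (hφ : φ ∈ CF c.L) (e : ∀ x ∈ c.T, x ≠ 1 → φ x = κ) =>
    (cfdot_cfInd_right h.TL hφ).trans (cfdot_const (hτ.isLin_of_comm h.commT) h1 e)
  have k1 := k _ _ hE.da.mem_CF fun x hx e => (hE.vT x hx e).1
  have k2 := k _ _ hE.db.mem_CF fun x hx e => (hE.vT x hx e).2.1
  have k3 := k _ _ hE.dc.mem_CF fun x hx e => (hE.vT x hx e).2.2
  have k4 := k _ _ cf1_mem_CF fun x hx _ => cf1_apply (h.TL hx)
  have k5 := congrArg conj k3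
  have k6 := congrArg conj k4
  rw [cfdot_conj] at k5 k6
  simp only [ze, cfdot_sub_left, cfdot_sub_right (φ := cfInd _ _ _), cfdot_sub_right (φ := a),
    cfdot_sub_right (φ := b), cfdot_sub_right (φ := e), cfdot_sub_right (φ := cf1 _), k1, k2, k3,
    k4, k5, k6, h.betaT_norm hτ h1, hE.a1, hE.b1, hE.c1, hE.ac, hE.bc, hE.dc.cfdot_self, cfdot_cf1,
    cfdot_symm_zero hE.c1]
  norm_num

theorem ze_R (hE : LC q s c a b e) (hx : x ∈ c.R) (h1 : x ≠ 1) :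
    ze c e τ x = 0 := by
  rw [ze, Pi.sub_apply, Pi.sub_apply, cf1_apply (h.RL hx), (hE.vR x hx h1).2.2, sub_self, sub_zero]
  refine cfInd_eq_zero fun z _ hz => absurd ?_ h1
  have h2 := orderOf_dvd_card_of_mem hz
  rw [U4.orderOf_conj, h.cardT] at h2
  exact orderOf_eq_one_iff.1 (Nat.eq_one_of_dvd_coprimes h.cop_sr h2
    (h.cardR ▸ orderOf_dvd_card_of_mem hx))

theorem fin (hE : LC q s c a b e) (hφ : φ ∈ CF ⊤)
    (hR : ∀ ρ, IsIrr c.R ρ → ρ ≠ cf1 c.R → cfdot c.R (tr c.t φ) (cf1 c.R - ρ) = 0)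
    (h1 : cfdot ⊤ φ (al c (cf1 c.L - a)) = 0) (h2 : cfdot ⊤ φ (al c (cf1 c.L - b)) = 0)
    (h3 : cfdot ⊤ φ (al c (cf1 c.L - e)) = 0)
    (hT : ∀ τ, IsIrr c.T τ → τ ≠ cf1 c.T → cfdot ⊤ φ (al c (ze c e τ)) = 0) : φ c.t = 0 := by
  classical
  rw [h.cfdot_al hφ hE.osa] at h1
  rw [h.cfdot_al hφ hE.osb] at h2
  rw [h.cfdot_al hφ hE.ose] at h3
  have k0 : ∀ z ∈ c.L, ∀ g, tr c.t φ (z * g * z⁻¹) = tr c.t φ g := fun z hz g => by
    rw [tr, tr, ← CF_conj hφ (mem_top z) (c.t * g), ← mul_assoc, ← mul_assoc, ← mul_assoc,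
      h.comm z hz]
  have k1 := fun x hx => (apply_of_cfdot h.commR hR (g := x) hx).1
  have k2 := fun x hx => (apply_of_cfdot h.commT (φ := tr c.t φ) (κ := 0) (fun τ hτ e1 => by
    have := hT τ hτ e1
    rw [h.cfdot_al hφ (h.ze_os hE hτ), ze, cfdot_sub_right, h3, sub_zero,
      ← cfdot_cfRes_left, cfdot_cfInd_right h.TL (mem_CF.2 ⟨fun _ => cfRes_apply_of_notMem,
        fun z hz g => by
          by_cases e : g ∈ c.L
          · rw [cfRes_apply e, cfRes_apply (cmem hz e), k0 z hz]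
          · rw [cfRes_apply_of_notMem e, cfRes_apply_of_notMem (mt (conj_mem_iff hz).1 e)]⟩)]
      at this
    exact (cfdot_congr (fun x hx => (cfRes_apply (h.TL hx)).symm) fun _ _ => rfl).trans this)
      (g := x) hx).1
  have k3 : cfdot c.L (tr c.t φ) ((cf1 c.L - a) + (cf1 c.L - b) - (3 : ℂ) • (cf1 c.L - e)) = 0 := by
    rw [cfdot_sub_right, cfdot_add_right, cfdot_smul_right, h1, h2, h3]; simp
  have k4 : ∀ g ∈ c.L, Odd (orderOf g) →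
      ((cf1 c.L - a) + (cf1 c.L - b) - (3 : ℂ) • (cf1 c.L - e)) g = 4 * e g := fun g hg ho => by
    simp only [Pi.sub_apply, Pi.add_apply, Pi.smul_apply, cf1_apply hg, smul_eq_mul]
    linear_combination -hE.odd g hg ho
  rw [cfdot, Finset.sum_eq_single_of_mem 1 (mem_elems.2 (one_mem _)) fun g hg g1 => ?_,
    k4 1 (one_mem _) (by simp), hE.zc] at k3
  · simpa [tr, h.q_ne, card_ne_zero] using k3
  have hg := mem_elems.1 hg
  rcases odd_or_two_dvd g with ho | ho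
  · obtain ⟨z, hz, k⟩ := h.odd_conj hg ho
    have g2 : z * g * z⁻¹ ≠ 1 := by simpa using g1
    rw [k4 g hg ho, ← k0 z hz, ← CF_conj hE.dc.mem_CF hz]
    rcases k with k | k | k
    · rw [k1 _ k g2, zero_mul]
    · rw [k2 _ k g2, zero_mul]
    · simp [hE.vQ _ k g2]
  · rw [Pi.sub_apply, Pi.add_apply, Pi.smul_apply, hE.osa.ev g ho, hE.osb.ev g ho, hE.ose.ev g ho]
    simp

variable (hw : WD c w j)
include hw

theorem const (hφ : φ ∈ CF ⊤) (hκ : ∀ x ∈ c.R, x ≠ 1 → φ (c.t * x) = κ) (hρ : IsIrr c.R ρ)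
    (h1 : ρ ≠ cf1 c.R) : cfdot ⊤ φ (be c μ ρ) = (cfdot c.R φ (cf1 c.R - ρ) * conj (μ 1) +
      κ * conj (μ c.t + μ c.u + μ (c.t * c.u))) / 4 := by
  have key : ∀ v ∈ V c.t c.u, v ≠ 1 → cfdot c.R (tr v φ) (cf1 c.R - ρ) = κ := fun v hv hv1 => by
    obtain ⟨z, hz, rfl⟩ := h.conj_w hw hv hv1
    refine cfdot_const (hρ.isLin_of_comm h.commR) h1 fun x hx hx1 => ?_
    rw [tr, show z * c.t * z⁻¹ * x = z * (c.t * (z⁻¹ * x * z)) * z⁻¹ by group,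
      CF_conj hφ (mem_top z)]
    exact hκ _ (norm_mem' (h.nv_R (zpowers_le.2 (h.w_nv hw) hz)) hx) (by simpa [mul_assoc, inv_mul_eq_one] using hx1)
  rw [h.cfdot_be hφ, key _ (t_mem_V _ _) h.four_tu.t1, key _ (s_mem_V _ _) h.four_tu.s1,
    key _ (mul_mem (t_mem_V _ _) (s_mem_V _ _)) h.four_tu.ts1, map_add, map_add]
  ring

theorem inertia_lam (hμ : IsLin (V c.t c.u) μ) (hs : μ c.t + μ c.u + μ (c.t * c.u) = -1) :
    𝐍(V c.t c.u) ⊓ inertia (cfProd (V c.t c.u) c.R μ (cf1 c.R)) = 𝐂(V c.t c.u) := by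
  have i := isIrr_cf1 c.R
  refine le_antisymm (fun z hz => ?_) fun z hz => ⟨U4.cent_le_norm _ hz, mem_inertia_iff.2 (by
    rw [cfConjg_cfProd (U4.cent_le_norm _ hz) (h.nv_R (U4.cent_le_norm _ hz)),
      cent_inertia hμ.mem_CF hz, cfConjg_cf1 (h.nv_R (U4.cent_le_norm _ hz))])⟩
  have h1 := mem_inertia_iff.1 hz.2
  rw [cfConjg_cfProd hz.1 (h.nv_R hz.1)] at h1
  have h2 := mem_inertia_iff.2 (cfProd_irr_inj h.dprodW.compl (hμ.isIrr.cfConjg hz.1)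
    (i.cfConjg (h.nv_R hz.1)) hμ.isIrr i h1).1
  obtain ⟨y, hy, k⟩ := h.exists_cv hw hz.1
  by_cases e : y = 1
  · simpa [e] using k
  have h3 := zpowers_le.2 (inv_mem_iff.1 ((mul_mem_cancel_right h2).1 (mem_inertia_iff.2
    (cent_inertia hμ.mem_CF k)))) (mem_zpowers_of_prime (hw.ow ▸ Nat.prime_three) hy e)
  have h4 := h3 c.t
  have h5 := h3 c.u
  rw [hw.wt] at h4
  rw [hw.wu] at h5
  have h6 := hμ.map_mul (t_mem_V c.t c.u) (s_mem_V c.t c.u)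
  rw [h5, h4, eq_comm, mul_eq_left₀ (hμ.apply_ne_zero (t_mem_V _ _))] at h6
  rw [h5, h4, h6] at hs
  norm_num at hs

theorem exists_lams : ∃ l : Fin 3 → G → ℂ, (∀ i, IsLin (V c.t c.u) (l i)) ∧
    (∀ i k, ∃ z ∈ 𝐍(V c.t c.u), cfConjg z (l i) = l k) ∧
    (l 0 c.t = 1 ∧ l 0 c.u = -1 ∧ l 0 (c.t * c.u) = -1) ∧
    (l 1 c.t = -1 ∧ l 1 c.u = 1 ∧ l 1 (c.t * c.u) = -1) ∧
    (l 2 c.t = -1 ∧ l 2 c.u = -1 ∧ l 2 (c.t * c.u) = 1) := by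
  obtain ⟨μ, h1, h2, h3, h4⟩ := exists_lam h.four_tu
  have k : ∀ i, (![1, w, w⁻¹] : Fin 3 → G) i ∈ 𝐍(V c.t c.u) := fun i => by
    fin_cases i
    exacts [one_mem _, h.w_nv hw, inv_mem (h.w_nv hw)]
  refine ⟨fun i => cfConjg (![1, w, w⁻¹] i) μ, fun i => h1.cfConjg (k i), fun i j =>
    ⟨_, mul_mem (k j) (inv_mem (k i)), by rw [cfConjg_mul, cfConjg_inv_cfConjg]⟩,
    by simp [cfConjg, h2, h3, h4], ?_, by simp [cfConjg, h2, h3, h4, hw.wt, hw.wu, h.wtu hw]⟩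
  have k1 : w⁻¹ * c.t * w = c.t * c.u := by
    rw [mul_assoc, ← mul_inv_eq_iff_eq_mul.1 (h.wtu hw), inv_mul_cancel_left]
  have k2 : w⁻¹ * c.u * w = c.t := by rw [← hw.wt]; group
  have k3 : w⁻¹ * (c.t * c.u) * w = c.u := by rw [← hw.wu]; group
  simp [cfConjg, h2, h3, h4, k1, k2, k3]

omit hw in
theorem big (h7 : 7 ≤ |r|) : (∃ n : ℕ, 1 ≤ n ∧ q = -3 ^ (2 * n + 1)) ∧
    ((𝐂[c.t]).index : ℤ) = q ^ 2 * (q ^ 2 + q + 1) := by
  classical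
  obtain ⟨w, j, hw⟩ := h.exists_wd
  obtain ⟨a, b, e, hE⟩ := h.exists_lc
  obtain ⟨l, hl⟩ := exists_lat (mem_top c.t) h.ot
  obtain ⟨m, m1, m2, m3, m4, m5⟩ := h.exists_lams hw
  have hS := h.sec hE.toEta hE.toEta hl
  have ms : ∀ i, m i c.t + m i c.u + m i (c.t * c.u) = -1 := fun i => by
    fin_cases i <;> simp [m3, m4, m5]
  have mne : ∀ i k, m i = m k → i = k := fun i k e => by
    have e1 := congrFun e c.t
    have e2 := congrFun e c.u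
    fin_cases i <;> fin_cases k <;> simp [m3, m4, m5] at e1 e2 ⊢ <;> norm_num at *
  have i := isIrr_cf1 (V c.t c.u)
  have v1 := cf1_apply (V c.t c.u).one_mem
  have vs : cf1 (V c.t c.u) c.t + cf1 (V c.t c.u) c.u + cf1 (V c.t c.u) (c.t * c.u) = 3 := by
    rw [cf1_apply (t_mem_V _ _), cf1_apply (s_mem_V _ _),
      cf1_apply (mul_mem (t_mem_V _ _) (s_mem_V _ _))]; norm_num
  have m0 : ∀ i, m i ≠ cf1 (V c.t c.u) := fun i e => by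
    have := ms i
    rw [e, vs] at this
    norm_num at this
  have n1 : ∀ i, ¬ ∃ z ∈ 𝐍(V c.t c.u), cfConjg z (cf1 (V c.t c.u)) = m i := by
    rintro i ⟨z, hz, e⟩
    exact m0 i (e.symm.trans (cfConjg_cf1 hz))
  have c0 := fun φ κ ρ hφ hκ hρ h1 => (h.const (μ := cf1 (V c.t c.u)) (φ := φ) (κ := κ) (ρ := ρ) hw hφ hκ hρ h1).trans
    (by rw [v1, vs, map_one, map_ofNat])
  have ci := fun i φ κ ρ hφ hκ hρ h1 => (h.const (μ := m i) (φ := φ) (κ := κ) (ρ := ρ) hw hφ hκ hρ h1).trans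
    (by rw [(m1 i).one, ms, map_neg, map_one])
  have al0 : ∀ ψ ρ, OS c.L ψ → cfdot c.R (al c ψ) ρ = 0 := fun ψ ρ hψ =>
    cfdot_eq_zero_of_supp fun x hx => Or.inl (h.al_odd hψ (odd_orderOf_of_mem h.oddR hx))
  have alt : ∀ ψ x, OS c.L ψ → x ∈ c.R → al c ψ (c.t * x) = 2 * ψ x := fun ψ x hψ hx =>
    h.al_t hψ (h.RL hx) (odd_orderOf_of_mem h.oddR hx)
  have a1 : ∀ x ∈ c.R, x ≠ 1 → al c (cf1 c.L - a) (c.t * x) = 4 := fun x hx h1 => by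
    rw [alt _ _ hE.osa hx, Pi.sub_apply, cf1_apply (h.RL hx), (hE.vR x hx h1).1]; norm_num
  have a2 : ∀ x ∈ c.R, x ≠ 1 → al c (cf1 c.L - b) (c.t * x) = 4 := fun x hx h1 => by
    rw [alt _ _ hE.osb hx, Pi.sub_apply, cf1_apply (h.RL hx), (hE.vR x hx h1).2.1]; norm_num
  have a3 : ∀ x ∈ c.R, x ≠ 1 → al c (cf1 c.L - e) (c.t * x) = 0 := fun x hx h1 => by
    rw [alt _ _ hE.ose hx, Pi.sub_apply, cf1_apply (h.RL hx), (hE.vR x hx h1).2.2]; norm_num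
  have pp : ∀ ξ : ZIrr (⊤ : Subgroup G), PP c a b e ξ → ∀ x ∈ c.R, x ≠ 1 → ξ.1 (c.t * x) =
      (l.B ξ ⟨_, h.al_mem hE.osa⟩ + l.B ξ ⟨_, h.al_mem hE.osb⟩ - l.B ξ ⟨_, h.al_mem hE.ose⟩ : ℤ) :=
    fun ξ hξ x hx h1 => by
      obtain ⟨k1, k2, k3⟩ := hE.vR x hx h1
      rw [hξ x (h.RL hx) (odd_orderOf_of_mem h.oddR hx), k1, k2, k3]
      push_cast
      rw [← hl.B, ← hl.B, ← hl.B]; ring
  have bb := fun i k ρ ρ' hρ hρ' h1 h1' => (h.be_be (m1 i).isIrr (m1 k).isIrr (ρ := ρ) (ρ' := ρ')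
    hρ hρ' h1 h1').trans (by rw [if_pos (m2 i k), h.inertia_lam hw (m1 i) (ms i), h.idxW])
  obtain ⟨ρ0, k1, k2⟩ := exists_irr_ne (R := c.R) fun e => by
    have := h.cardR
    rw [e, card_bot] at this
    rw [Int.abs_eq_natAbs] at h7
    omega
  have sy := l.symm
  refine Lat.RD.main (l := l) (I := {ρ // IsIrr c.R ρ ∧ ρ ≠ cf1 c.R})
    (J := {τ // IsIrr c.T τ ∧ τ ≠ cf1 c.T}) (b0 := fun ρ => ⟨_, h.be_mem i ρ.2.1⟩)
    (b := fun k ρ => ⟨_, h.be_mem (m1 k).isIrr ρ.2.1⟩)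
    (ζ := fun τ => ⟨_, h.al_mem (h.ze_os hE τ.2.1)⟩) ⟨hS,
      fun ρ => hl.z_eq (by simp [h.be_zero ρ.2.1]),
      fun i ρ => hl.z_eq (by simp [h.be_zero ρ.2.1]),
      fun ρ => hl.n_eq (by simp [h.be_zero ρ.2.1 h.tt]),
      fun i ρ => hl.n_eq (by simp [h.be_zero ρ.2.1 h.tt]),
      fun ρ => hl.Θ_eq (by simp [h.Th_be ρ.2.1 ρ.2.2, cfdot_cf1]),
      fun k ρ => hl.Θ_eq (by simp [h.Th_be ρ.2.1 ρ.2.2, (m1 k).isIrr.cfdot_ne i (m0 k)]),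
      fun k ρ => hl.B_eq (by
        rw [bb _ _ _ _ ρ.2.1 ρ.2.1 ρ.2.2 ρ.2.2, if_pos ⟨1, one_mem _, by simp, by simp⟩]; norm_num),
      fun k k' ρ ρ' => ?_, fun k k' ρ hk => hl.B_eq ?_, fun ρ => hl.B_eq ?_,
      fun k ρ ρ' => hl.B_eq (by
        rw [h.be_be i (m1 k).isIrr ρ.2.1 ρ'.2.1 ρ.2.2 ρ'.2.2, if_neg (n1 k),
          if_neg fun ⟨z, hz, e⟩ => n1 k ⟨z, hz, e.1⟩]; simp),
      fun k ρ => (sy ..).trans (hl.B_eq ?_),
      fun k ρ => (sy ..).trans (hl.B_eq (by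
        rw [ci k _ _ _ al_CF a1 ρ.2.1 ρ.2.2, al0 _ _ hE.osa]; norm_num)),
      fun k ρ => (sy ..).trans (hl.B_eq (by
        rw [ci k _ _ _ al_CF a2 ρ.2.1 ρ.2.2, al0 _ _ hE.osb]; norm_num)),
      fun k ρ => (sy ..).trans (hl.B_eq (by
        rw [ci k _ _ _ al_CF a3 ρ.2.1 ρ.2.2, al0 _ _ hE.ose]; norm_num)),
      fun ρ => (sy ..).trans (hl.B_eq (by
        rw [c0 _ _ _ al_CF a1 ρ.2.1 ρ.2.2, al0 _ _ hE.osa]; norm_num)),
      fun ρ => (sy ..).trans (hl.B_eq (by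
        rw [c0 _ _ _ al_CF a2 ρ.2.1 ρ.2.2, al0 _ _ hE.osb]; norm_num)),
      fun ρ => (sy ..).trans (hl.B_eq (by
        rw [c0 _ _ _ al_CF a3 ρ.2.1 ρ.2.2, al0 _ _ hE.ose]; norm_num)),
      fun ξ hξ k ρ => ?_, fun ξ k hξ hk => ?_,
      fun τ => hl.B_eq (by
        rw [h.al_al (h.ze_os hE τ.2.1) (h.ze_os hE τ.2.1), (h.cfdot_ze hE τ.2.1 τ.2.2).2.2.2]; simp),
      fun τ k ρ => hl.B_eq (by
        rw [ci k _ 0 _ al_CF (fun x hx h1 => by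
          rw [alt _ _ (h.ze_os hE τ.2.1) hx, h.ze_R hE hx h1, mul_zero]) ρ.2.1 ρ.2.2,
          al0 _ _ (h.ze_os hE τ.2.1)]; simp),
      fun τ ξ hξ => (sy ..).trans (hl.B_eq ?_), fun F f0 f1 f2 f3 f4 f5 => hl.n_eq ?_⟩
    h.toPar h7 ⟨ρ0, k1, k2⟩
  · by_cases e : ∃ z ∈ 𝐍(V c.t c.u), cfConjg z (m k) = m k' ∧ cfConjg z ρ.1 = ρ'.1
    · obtain ⟨z, hz, e1, e2⟩ := e
      exact Or.inr (Subtype.ext (by simp only [← e1, ← e2, h.be_conj hz]))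
    · exact Or.inl (hl.B_eq (by rw [bb _ _ _ _ ρ.2.1 ρ'.2.1 ρ.2.2 ρ'.2.2, if_neg e]; simp))
  · rw [bb _ _ _ _ ρ.2.1 ρ.2.1 ρ.2.2 ρ.2.2, if_neg]
    · simp
    rintro ⟨z, hz, e1, e2⟩
    rw [cent_inertia (m1 k).mem_CF (h.W_le_cv (h.inertia_R ρ.2.1 ρ.2.2 hz e2))] at e1
    exact hk (mne _ _ e1)
  · rw [h.be_be i i ρ.2.1 ρ.2.1 ρ.2.2 ρ.2.2, if_pos ⟨1, one_mem _, by simp⟩,
      if_pos ⟨1, one_mem _, by simp, by simp⟩, cfProd_cf1 h.dprodW.compl,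
      inf_eq_left.2 fun z hz => mem_inertia_cf1 (h.nv_W hz),
      ← relIndex_mul_relIndex _ _ _ h.W_le_cv (U4.cent_le_norm _), h.idxW, h.idx_cv hw]
    norm_num
  · rw [ci k _ 1 _ cf1_mem_CF (fun _ _ _ => cf1_apply (mem_top _)) ρ.2.1 ρ.2.2,
      cfdot_const (ρ.2.1.isLin_of_comm h.commR) ρ.2.2 fun _ _ _ => cf1_apply (mem_top _)]
    simp
  · have k1 := c0 _ _ _ (ZIrr_mem_CF ξ.2) (pp ξ hξ) ρ.2.1 ρ.2.2
    have k2 := ci k _ _ _ (ZIrr_mem_CF ξ.2) (pp ξ hξ) ρ.2.1 ρ.2.2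
    rw [sy, sy _ ξ]
    refine hl.B_eq ?_
    rw [Int.cast_add, ← hl.B, k1, k2]; ring
  · have k0 := pp ξ hξ
    generalize (_ + _ - _ : ℤ) = κ at k0 ⊢
    have k1 := (apply_of_cfdot h.commR (φ := ξ) (κ := (4 * k + κ : ℤ)) (fun ρ h1 h2 => by
      have k2 := ci 0 _ _ _ (ZIrr_mem_CF ξ.2) k0 h1 h2
      have k3 := hl.B ξ ⟨_, h.be_mem (m1 0).isIrr h1⟩
      rw [sy, hk ⟨ρ, h1, h2⟩, k2] at k3
      rw [Int.cast_add, Int.cast_mul, ← k3, Int.cast_ofNat]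
      ring) c.R.one_mem).2 rfl
    obtain ⟨n, hn⟩ := ZIrr_cfdot_int (ZIrr_cfRes le_top ξ.2) (cf1_mem_ZIrr (L := c.R))
    rw [cfdot_cfRes_left] at hn
    rw [hl.z, hn, h.cardR] at k1
    exact Int.natAbs_dvd.1 ⟨n - (4 * k + κ), Int.cast_injective (α := ℂ) (by
      rw [Int.cast_sub, k1, Int.cast_mul, Int.cast_natCast, Int.cast_sub]; ring)⟩
  · obtain ⟨k1, k2, k3, -⟩ := h.cfdot_ze hE τ.2.1 τ.2.2
    rw [h.cfdot_al (ZIrr_mem_CF ξ.2) (h.ze_os hE τ.2.1), (h.ze_os hE τ.2.1).congr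
      (φ := tr c.t ξ) (χ := -(cfdot ⊤ ξ (al c (cf1 c.L - a)) • a + cfdot ⊤ ξ (al c (cf1 c.L - b)) • b +
        cfdot ⊤ ξ (al c (cf1 c.L - e)) • e)) hξ]
    simp [cfdot_neg_left, cfdot_add_left, cfdot_smul_left, k1, k2, k3]
  · have hF := ZIrr_mem_CF F.2
    refine (h.fin hE hF (fun ρ h1 h2 => ?_) (by rw [← Int.cast_zero, ← f2, ← hl.B])
      (by rw [← Int.cast_zero, ← f3, ← hl.B]) (by rw [← Int.cast_zero, ← f4, ← hl.B])
      fun τ h1 h2 => by rw [← Int.cast_zero, ← f5 ⟨τ, h1, h2⟩, sy, ← hl.B]).trans Int.cast_zero.symm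
    have k0 := hl.B F ⟨_, h.be_mem i h1⟩
    have k := fun k => hl.B F ⟨_, h.be_mem (m1 k).isIrr h1⟩
    rw [sy, f0 ⟨ρ, h1, h2⟩, h.cfdot_be hF, v1, cf1_apply (t_mem_V _ _), cf1_apply (s_mem_V _ _),
      cf1_apply (mul_mem (t_mem_V _ _) (s_mem_V _ _))] at k0
    simp only [sy F, f1 _ ⟨ρ, h1, h2⟩, h.cfdot_be hF, (m1 _).one] at k
    have k1 := k 0
    have k2 := k 1
    have k3 := k 2
    simp only [m3, m4, m5, map_neg, map_one] at k0 k1 k2 k3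
    linear_combination k0 + k1 - k2 - k3

end GD

end CfsgLib.JR
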