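import Cfsg.Agent.Lib.JR.Lat
import Cfsg.Agent.Lib.JR.Num

/-!
# The analysis of the principal block, in lattice form
-/

set_option autoImplicit false
set_option linter.unusedSimpArgs false
set_option linter.unusedSectionVars false

namespace CfsgLib.JR

namespace Lat

variable {Λ : Type*} [AddCommGroup Λ] {l : Lat Λ} {v w e f g o a1 a2 a3 : Λ}

theorem X.orth {x1 x2 x3 y1 y2 y3 : ℤ} (h : l.X a1 a2 a3 e x1 x2 x3) (h' : l.X a1 a2 a3 f y1 y2 y3)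
    (h1 : ¬ (x1 = y1 ∧ x2 = y2 ∧ x3 = y3) := by omega)
    (h2 : ¬ (x1 = -y1 ∧ x2 = -y2 ∧ x3 = -y3) := by omega) : l.B e f = 0 := by
  obtain ⟨a, b, c, d⟩ := h
  obtain ⟨a', b', c', d'⟩ := h'
  rcases l.cases a a' with rfl | rfl | h
  · omega
  · simp only [map_add, map_sub, map_neg, AddMonoidHom.add_apply, AddMonoidHom.sub_apply, AddMonoidHom.neg_apply] at b c d; omega
  · exact h

theorem X.neg {x1 x2 x3 : ℤ} (h : l.X a1 a2 a3 e x1 x2 x3) :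
    l.X a1 a2 a3 (-e) (-x1) (-x2) (-x3) :=
  ⟨l.neg_unit h.u, by simp [h.x1], by simp [h.x2], by simp [h.x3]⟩

theorem Al.xo (h : l.Al o a1 a2 a3) : l.X a1 a2 a3 o 1 1 1 := ⟨h.oo, h.o1, h.o2, h.o3⟩

theorem eq_add (he : l.B e e = 1) (hf : l.B f f = 1) (h : l.B e f = 0) (hv : l.B v v = 2)
    (h1 : l.B v e = 1) (h2 : l.B v f = 1) : v = e + f :=
  sub_eq_zero.1 (l.eq_zero (by simp only [map_add, map_sub, map_neg, AddMonoidHom.add_apply, AddMonoidHom.sub_apply, AddMonoidHom.neg_apply, l.symm e v, l.symm f v, l.symm f e]; omega))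

/-- Four vectors of norm `2` with inner products `1` have a common constituent. -/
theorem four_two {u1 u2 u3 u4 : Λ} (n1 : l.B u1 u1 = 2) (n2 : l.B u2 u2 = 2) (n3 : l.B u3 u3 = 2)
    (n4 : l.B u4 u4 = 2) (h12 : l.B u2 u1 = 1) (h13 : l.B u3 u1 = 1) (h14 : l.B u4 u1 = 1)
    (h23 : l.B u2 u3 = 1) (h24 : l.B u2 u4 = 1) (h34 : l.B u3 u4 = 1) :
    ∃ F, l.B F F = 1 ∧ l.B u1 F = 1 ∧ l.B u2 F = 1 ∧ l.B u3 F = 1 ∧ l.B u4 F = 1 := by
  have s := l.symm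
  have key : ∀ e f u u' u'', l.B e e = 1 → l.B f f = 1 → l.B e f = 0 → l.B u u = 2 →
      l.B u' u' = 2 → l.B u'' u'' = 2 → l.B u u' = 1 → l.B u u'' = 1 → l.B u' u'' = 1 →
      ¬ (l.B u e = 1 ∧ l.B u f = 0 ∧ l.B u' e = 1 ∧ l.B u' f = 0 ∧ l.B u'' e = 0 ∧
        l.B u'' f = 1) := by
    rintro e f u u' u'' he hf hef m1 m2 m3 k1 k2 k3 ⟨j1, j2, j3, j4, j5, j6⟩
    have p1 := l.sub_unit he j1
    have p2 := l.sub_unit he j3
    have p3 := l.sub_unit hf j6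
    have q1 := l.eq_of_one (e := u - e) (f := u'' - f) (by omega) (by omega) (by
      simp only [map_add, map_sub, map_neg, AddMonoidHom.add_apply, AddMonoidHom.sub_apply, AddMonoidHom.neg_apply, s e u'']; omega)
    have q2 := l.eq_of_one (e := u' - e) (f := u'' - f) (by omega) (by omega) (by
      simp only [map_add, map_sub, map_neg, AddMonoidHom.add_apply, AddMonoidHom.sub_apply, AddMonoidHom.neg_apply, s e u'']; omega)
    have : u = u' := by simpa using q1.trans q2.symm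
    subst this; omega
  obtain ⟨e, f, he, hf, hef, rfl⟩ := l.two n1
  have k1 := key e f _ _ _ he hf hef n2 n3 n4 h23 h24 h34
  have k2 := key e f _ _ _ he hf hef n2 n4 n3 h24 h23 (s .. ▸ h34)
  have k3 := key e f _ _ _ he hf hef n3 n4 n2 h34 (s .. ▸ h23) (s .. ▸ h24)
  have k4 := key f e _ _ _ hf he (s .. ▸ hef) n2 n3 n4 h23 h24 h34
  have k5 := key f e _ _ _ hf he (s .. ▸ hef) n2 n4 n3 h24 h23 (s .. ▸ h34)
  have k6 := key f e _ _ _ hf he (s .. ▸ hef) n3 n4 n2 h34 (s .. ▸ h23) (s .. ▸ h24)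
  have b1 := l.abs_le he (v := u2) (by omega)
  have b2 := l.abs_le he (v := u3) (by omega)
  have b3 := l.abs_le he (v := u4) (by omega)
  have b4 := l.abs_le hf (v := u2) (by omega)
  have b5 := l.abs_le hf (v := u3) (by omega)
  have b6 := l.abs_le hf (v := u4) (by omega)
  rw [map_add] at h12 h13 h14
  by_cases h : l.B u2 e = 1
  · exact ⟨e, he, by simp only [map_add, map_sub, map_neg, AddMonoidHom.add_apply, AddMonoidHom.sub_apply, AddMonoidHom.neg_apply, s f e]; omega, h, by omega, by omega⟩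
  · exact ⟨f, hf, by simp only [map_add, map_sub, map_neg, AddMonoidHom.add_apply, AddMonoidHom.sub_apply, AddMonoidHom.neg_apply]; omega, by omega, by omega, by omega⟩

/-- The data coming from the section of the involution. -/
structure Sec (l : Lat Λ) (q r s N : ℤ) (o a1 a2 a3 : Λ) (P : Λ → Prop) : Prop
    extends l.Al o a1 a2 a3 where
  Npos : 0 < N
  dich : ∀ e, l.B e e = 1 → P e ∨ (l.B e a1 = 0 ∧ l.B e a2 = 0 ∧ l.B e a3 = 0)
  nP : ∀ e, P e → l.n e = s * (l.B e a1 + l.B e a2) - q * l.B e a3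
  na1 : l.n a1 = 2 * (1 + s)
  na2 : l.n a2 = 2 * (1 + s)
  na3 : l.n a3 = 2 * (1 - q)
  t1 : l.Θ a1 = 4 * q ^ 2 * s * (s + 1) / N
  t2 : l.Θ a2 = 4 * q ^ 2 * s * (s + 1) / N
  t3 : l.Θ a3 = 16 * q * s ^ 2 * r / N
  m8 : ∀ v, 8 ∣ l.z v - l.n v
  dv : ∀ e, l.B e e = 1 → l.z e ∣ N * l.n e

variable {q r s N : ℤ} {P : Λ → Prop} {p : ℕ}

theorem Sec.P_of {x1 x2 x3 : ℤ} (h : l.Sec q r s N o a1 a2 a3 P) (hx : l.X a1 a2 a3 e x1 x2 x3)
    (h0 : ¬ (x1 = 0 ∧ x2 = 0 ∧ x3 = 0) := by omega) : P e :=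
  (h.dich e hx.u).resolve_right (by rw [hx.x1, hx.x2, hx.x3]; exact h0)

theorem Sec.n_eq {x1 x2 x3 : ℤ} (h : l.Sec q r s N o a1 a2 a3 P) (hx : l.X a1 a2 a3 e x1 x2 x3)
    (h0 : ¬ (x1 = 0 ∧ x2 = 0 ∧ x3 = 0) := by omega) : l.n e = s * (x1 + x2) - q * x3 := by
  rw [h.nP e (h.P_of hx h0), hx.x1, hx.x2, hx.x3]

theorem Al.Θo (h : l.Al o a1 a2 a3) : l.Θ o = 1 := by rw [l.th o h.oo, h.zo, h.no]; simp

/-- The data coming from the torus `R` (and the torus `T`). -/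
structure RD (l : Lat Λ) (q r s N : ℤ) (o a1 a2 a3 : Λ) (P : Λ → Prop) {I J : Type*} (b0 : I → Λ)
    (b : Fin 3 → I → Λ) (ζ : J → Λ) : Prop extends l.Sec q r s N o a1 a2 a3 P where
  z0 : ∀ ρ, l.z (b0 ρ) = 0
  zb : ∀ i ρ, l.z (b i ρ) = 0
  n0 : ∀ ρ, l.n (b0 ρ) = 0
  nb : ∀ i ρ, l.n (b i ρ) = 0
  t0 : ∀ ρ, l.Θ (b0 ρ) = 32 * q * s * r ^ 2 / N
  tb : ∀ i ρ, l.Θ (b i ρ) = 0
  bb : ∀ i ρ, l.B (b i ρ) (b i ρ) = 3
  bb' : ∀ i j ρ ρ', l.B (b i ρ) (b j ρ') = 2 ∨ b i ρ = b j ρ'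
  bne : ∀ i j ρ, i ≠ j → l.B (b i ρ) (b j ρ) = 2
  b00 : ∀ ρ, l.B (b0 ρ) (b0 ρ) = 7
  b0b : ∀ i ρ ρ', l.B (b0 ρ) (b i ρ') = 0
  ob : ∀ i ρ, l.B (b i ρ) o = 0
  ba1 : ∀ i ρ, l.B (b i ρ) a1 = -1
  ba2 : ∀ i ρ, l.B (b i ρ) a2 = -1
  ba3 : ∀ i ρ, l.B (b i ρ) a3 = 0
  b0a1 : ∀ ρ, l.B (b0 ρ) a1 = 3
  b0a2 : ∀ ρ, l.B (b0 ρ) a2 = 3
  b0a3 : ∀ ρ, l.B (b0 ρ) a3 = 0
  kP : ∀ e, P e → ∀ i ρ, l.B (b0 ρ) e = l.B (b i ρ) e + (l.B e a1 + l.B e a2 - l.B e a3)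
  cong : ∀ e k, P e → (∀ ρ, l.B (b 0 ρ) e = k) →
    r ∣ l.z e - (4 * k + (l.B e a1 + l.B e a2 - l.B e a3))
  ζζ : ∀ τ, l.B (ζ τ) (ζ τ) = 2
  ζb : ∀ τ i ρ, l.B (ζ τ) (b i ρ) = 0
  ζP : ∀ τ e, P e → l.B (ζ τ) e = 0
  fin : ∀ F, (∀ ρ, l.B (b0 ρ) F = 1) → (∀ i ρ, l.B (b i ρ) F = 1) → l.B F a1 = 0 → l.B F a2 = 0 →
    l.B F a3 = 0 → (∀ τ, l.B (ζ τ) F = 0) → l.n F = 0

variable {I J : Type*} {b0 : I → Λ} {b : Fin 3 → I → Λ} {ζ : J → Λ}

namespace RD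

variable (h : l.RD q r s N o a1 a2 a3 P b0 b ζ)
include h

theorem gam (ρ : I) : l.B (b0 ρ - (a1 + a2 - a3)) (b0 ρ - (a1 + a2 - a3)) = 3 := by
  have s := l.symm
  simp only [map_add, map_sub, map_neg, AddMonoidHom.add_apply, AddMonoidHom.sub_apply, AddMonoidHom.neg_apply, s a1 (b0 ρ), s a2 (b0 ρ), s a3 (b0 ρ), s a2 a1, s a3 a1, s a3 a2, h.b00, h.b0a1, h.b0a2,
    h.b0a3, h.n1, h.n2, h.n3, h.i12, h.i13, h.i23]
  rfl

theorem gamb (i : Fin 3) (ρ ρ' : I) : l.B (b0 ρ - (a1 + a2 - a3)) (b i ρ') = 2 := by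
  have s := l.symm
  simp only [map_add, map_sub, map_neg, AddMonoidHom.add_apply, AddMonoidHom.sub_apply, AddMonoidHom.neg_apply, s a1 (b i ρ'), s a2 (b i ρ'), s a3 (b i ρ'), h.b0b, h.ba1, h.ba2, h.ba3]; rfl

theorem gamP (hP : P e) (i : Fin 3) (ρ : I) : l.B (b0 ρ - (a1 + a2 - a3)) e = l.B (b i ρ) e := by
  have s := l.symm
  simp only [map_add, map_sub, map_neg, AddMonoidHom.add_apply, AddMonoidHom.sub_apply, AddMonoidHom.neg_apply, s a1 e, s a2 e, s a3 e, h.kP e hP i]; ring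

theorem exists_theta (ρ : I) : ∃ θ, l.X a1 a2 a3 θ 0 0 0 ∧ l.B (b 0 ρ) θ = 1 := by
  have s := l.symm
  have h1 := h.bb 0 ρ
  have h2 := h.bb 1 ρ
  have h3 := h.bne 0 1 ρ (by decide)
  obtain ⟨e, f, he, hf, hef, d⟩ := l.two (v := b 0 ρ - b 1 ρ) (by simp only [map_add, map_sub, map_neg, AddMonoidHom.add_apply, AddMonoidHom.sub_apply, AddMonoidHom.neg_apply, s (b 1 ρ) (b 0 ρ)]; omega)
  have key : ∀ e, l.B e e = 1 → l.B (b 0 ρ - b 1 ρ) e = 1 → l.X a1 a2 a3 e 0 0 0 := fun e he h4 => by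
    rcases h.dich e he with hP | h5
    · have := h.kP e hP 0 ρ
      have := h.kP e hP 1 ρ
      simp only [map_add, map_sub, map_neg, AddMonoidHom.add_apply, AddMonoidHom.sub_apply, AddMonoidHom.neg_apply] at h4; omega
    · exact ⟨he, h5.1, h5.2.1, h5.2.2⟩
  have h4 : l.B (b 0 ρ) (e + f) = 1 := by rw [← d]; simp only [map_add, map_sub, map_neg, AddMonoidHom.add_apply, AddMonoidHom.sub_apply, AddMonoidHom.neg_apply]; omega
  have b1 := l.abs_le he h1.le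
  have b2 := l.abs_le hf h1.le
  rw [map_add] at h4
  by_cases h5 : l.B (b 0 ρ) e = 1
  · exact ⟨e, key e he (by rw [d]; simp only [map_add, map_sub, map_neg, AddMonoidHom.add_apply, AddMonoidHom.sub_apply, AddMonoidHom.neg_apply, s f e]; omega), h5⟩
  · exact ⟨f, key f hf (by rw [d]; simp only [map_add, map_sub, map_neg, AddMonoidHom.add_apply, AddMonoidHom.sub_apply, AddMonoidHom.neg_apply]; omega), by omega⟩

theorem delta (hp : Par q r s p) (ρ : I) (he : l.B e e = 1) (hf : l.B f f = 1) (hef : l.B e f = 0)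
    (Pe : P e) (Pf : P f) (h1 : l.B (b 0 ρ) e = 1) (h2 : l.B (b 0 ρ) f = 1)
    (hn : l.n e + l.n f = -2 * s) :
    2 * s * N = q ^ 2 * (l.z e + l.z f) ∧ l.n e * l.z f = l.n f * l.z e := by
  have key : ∀ v, l.B v v = 3 → l.B v e = 1 → l.B v f = 1 → l.z v = 0 →
      l.z e + l.z f ≠ 0 ∧
      l.Θ v = l.Θ e + l.Θ f - ((l.n e + l.n f - l.n v : ℤ) : ℚ) ^ 2 / (l.z e + l.z f : ℤ) := by
    intro v h1 h2 h3 h4
    have h5 : l.B (v - e - f) (v - e - f) = 1 := by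
      simp only [map_add, map_sub, map_neg, AddMonoidHom.add_apply, AddMonoidHom.sub_apply, AddMonoidHom.neg_apply, l.symm e v, l.symm f v, l.symm f e]; omega
    have h6 := l.zne _ h5
    have h7 := l.th _ h5
    simp only [map_add, map_sub, map_neg, AddMonoidHom.add_apply, AddMonoidHom.sub_apply, AddMonoidHom.neg_apply, h4] at h6 h7
    refine ⟨by omega, ?_⟩
    rw [show (0 : ℤ) - l.z e - l.z f = -(l.z e + l.z f) by ring, Int.cast_neg, div_neg] at h7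
    push_cast at h7 ⊢
    linear_combination h7
  obtain ⟨k1, k2⟩ := key _ (h.bb 0 ρ) h1 h2 (h.zb 0 ρ)
  obtain ⟨-, k3⟩ := key _ (h.gam ρ) (h.gamP Pe 0 ρ ▸ h1) (h.gamP Pf 0 ρ ▸ h2)
    (by simp only [map_add, map_sub, map_neg, AddMonoidHom.add_apply, AddMonoidHom.sub_apply, AddMonoidHom.neg_apply, h.z0, h.z1, h.z2, h.z3]; rfl)
  rw [h.tb, h.nb, sub_zero] at k2
  refine ⟨?_, three_term (l.zne e he) (l.zne f hf) k1 (by
    rw [← l.th e he, ← l.th f hf]; linear_combination k2)⟩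
  simp only [map_add, map_sub, map_neg, AddMonoidHom.add_apply, AddMonoidHom.sub_apply, AddMonoidHom.neg_apply, h.t0, h.t1, h.t2, h.t3, h.n0, h.na1, h.na2, h.na3] at k3
  rw [hn] at k2 k3
  have k4 : ((l.z e + l.z f : ℤ) : ℚ) ≠ 0 := by exact_mod_cast k1
  have k5 : (N : ℚ) ≠ 0 := by exact_mod_cast h.Npos.ne'
  generalize l.z e + l.z f = Z at *
  have k6 := sub_eq_sub_iff_sub_eq_sub.1 (congrArg₂ (· - ·) k3 k2)
  have hq := hp.hq
  have hs := hp.hs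
  have k7 : ((16 * s * (2 * s * N) : ℤ) : ℚ) = (16 * s * (q ^ 2 * Z) : ℤ) := by
    subst q s
    push_cast at k6 ⊢
    field_simp at k6
    linear_combination k6
  exact mul_left_cancel₀ (mul_ne_zero (by norm_num) hp.s_ne) (Int.cast_injective k7)

theorem starI (hp : Par q r s p) {e0 e1 f1 e2 f2 e3 f3 : Λ}
    (hS : l.Star o a1 a2 a3 e0 e1 f1 e2 f2 e3 f3) (ρ : I) (h1 : l.B (b 0 ρ) e0 = -1)
    (h2 : l.B (b 0 ρ) f3 = -1) : (∃ n : ℕ, 1 ≤ n ∧ q = -3 ^ (2 * n + 1)) ∧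
      N = q ^ 2 * (q ^ 2 + q + 1) := by
  have n0 := h.n_eq hS.x0
  have n1 := h.n_eq hS.x1
  have n1' := h.n_eq hS.y1
  have n3 := h.n_eq hS.x3
  have n3' := h.n_eq hS.y3
  have hq := hp.hq
  have hs := hp.hs
  obtain ⟨k1, k2⟩ := h.delta hp ρ hS.x0.neg.u hS.y3.neg.u (hS.x0.neg.orth hS.y3.neg)
    (h.P_of hS.x0.neg) (h.P_of hS.y3.neg) (by simp [h1]) (by simp [h2]) (by simp only [map_add, map_sub, map_neg, AddMonoidHom.add_apply, AddMonoidHom.sub_apply, AddMonoidHom.neg_apply]; omega)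
  simp only [map_add, map_sub, map_neg, AddMonoidHom.add_apply, AddMonoidHom.sub_apply, AddMonoidHom.neg_apply, n0, n3'] at k1 k2
  have k3 : l.z f3 = q * l.z e0 := by subst q s; linarith
  have k4 : N = -q ^ 2 * l.z e0 := by
    refine mul_left_cancel₀ (mul_ne_zero two_ne_zero hp.s_ne) ?_
    rw [k1, k3]; subst q s; ring
  have z1 := h.z1
  have z3 := h.z3
  have t1 := h.t1
  have t3 := h.t3
  rw [hS.d1] at z1 t1
  rw [hS.d3] at z3 t3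
  simp only [map_add, map_sub, map_neg, AddMonoidHom.add_apply, AddMonoidHom.sub_apply, AddMonoidHom.neg_apply, h.zo, h.Θo, l.th _ hS.x0.u, l.th _ hS.x1.u, l.th _ hS.y1.u, l.th _ hS.x3.u, l.th _ hS.y3.u,
    n0, n1, n1', n3, n3'] at z1 z3 t1 t3
  have k5 := hp.numI (l.zne _ hS.x0.u) (l.zne _ hS.x3.u) (by omega) (by
    rw [← k3, ← k4, ← t3]; subst q s; push_cast; ring)
  have k6 : N = q ^ 2 * (q ^ 2 + q + 1) := by rw [k4, k5]; ring
  refine ⟨hp.numI' (l.zne _ hS.x1.u) (l.zne _ hS.y1.u) (by omega) ?_, k6⟩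
  rw [← k5, ← k6, ← t1]; subst q s; push_cast; ring

theorem two_neg (hp : Par q r s p) (ρ : I) (h1 : l.X a1 a2 a3 e (-1) 0 0)
    (h2 : l.X a1 a2 a3 f 0 (-1) 0) (k1 : l.B (b 0 ρ) e = 1) (k2 : l.B (b 0 ρ) f = 1) :
    s * N = q ^ 2 * l.z e ∧ l.z f = l.z e := by
  have n1 := h.n_eq h1
  have n2 := h.n_eq h2
  obtain ⟨k3, k4⟩ := h.delta hp ρ h1.u h2.u (h1.orth h2) (h.P_of h1) (h.P_of h2) k1 k2 (by omega)
  have k5 : l.z f = l.z e := mul_left_cancel₀ hp.s_ne (by rw [n1, n2] at k4; linarith)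
  exact ⟨by rw [k5] at k3; linarith, k5⟩

theorem star_step (hp : Par q r s p) {e0 e1 f1 e2 f2 e3 f3 : Λ}
    (hS : l.Star o a1 a2 a3 e0 e1 f1 e2 f2 e3 f3) (ρ : I) :
    ((∃ n : ℕ, 1 ≤ n ∧ q = -3 ^ (2 * n + 1)) ∧ N = q ^ 2 * (q ^ 2 + q + 1)) ∨
      (l.B (b 0 ρ) e0 = 0 ∧ ((l.B (b 0 ρ) e1 = 1 ∧ s * N = q ^ 2 * l.z e1) ∨
        s * N = q ^ 2 * l.z f1)) := by
  have m := (h.bb 0 ρ).le
  have c0 := l.abs_le hS.x0.u m
  have c1 := l.abs_le hS.x1.u m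
  have c2 := l.abs_le hS.y1.u m
  have c3 := l.abs_le hS.x2.u m
  have c4 := l.abs_le hS.y2.u m
  have c5 := l.abs_le hS.x3.u m
  have c6 := l.abs_le hS.y3.u m
  have k1 := h.ba1 0 ρ
  have k2 := h.ba2 0 ρ
  have k3 := h.ba3 0 ρ
  have k3' := k3
  rw [hS.d1] at k1
  rw [hS.d2] at k2
  rw [hS.d3] at k3
  simp only [map_add, map_sub, map_neg, AddMonoidHom.add_apply, AddMonoidHom.sub_apply, AddMonoidHom.neg_apply, h.ob] at k1 k2 k3
  rcases (by omega : l.B (b 0 ρ) e0 = -1 ∨ l.B (b 0 ρ) e0 = 0 ∨ l.B (b 0 ρ) e0 = 1) with k | k | k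
  · by_cases k4 : l.B (b 0 ρ) f3 = -1
    · exact Or.inl (h.starI hp hS ρ k k4)
    · exact Or.inl (h.starI hp ⟨hS.d1, hS.d2, by rw [hS.d3]; abel, hS.o0, hS.x0, hS.x1, hS.y1,
        hS.x2, hS.y2, hS.y3, hS.x3⟩ ρ k (by omega))
  · obtain ⟨f, hf, k5⟩ : ∃ f, l.X a1 a2 a3 f 0 (-1) 0 ∧ l.B (b 0 ρ) f = 1 := by
      by_cases k4 : l.B (b 0 ρ) e2 = 1
      · exact ⟨_, hS.x2, k4⟩
      · exact ⟨_, hS.y2, by omega⟩
    refine Or.inr ⟨k, ?_⟩
    by_cases k4 : l.B (b 0 ρ) e1 = 1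
    · exact Or.inl ⟨k4, (h.two_neg hp ρ hS.x1 hf k4 k5).1⟩
    · exact Or.inr (h.two_neg hp ρ hS.y1 hf (by omega) k5).1
  · have s := l.symm
    have o1 := hS.x0.orth hS.x1
    have o2 := hS.x0.orth hS.x2
    have o3 := hS.x1.orth hS.x2
    have h9 : b 0 ρ - e0 - e1 - e2 = 0 := l.eq_zero (by
      simp only [map_add, map_sub, map_neg, AddMonoidHom.add_apply, AddMonoidHom.sub_apply, AddMonoidHom.neg_apply, s e0 (b 0 ρ), s e1 (b 0 ρ), s e2 (b 0 ρ), s e1 e0, s e2 e0, s e2 e1, hS.x0.u, hS.x1.u,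
        hS.x2.u, h.bb]; omega)
    have h10 := congrArg (l.B · a3) h9
    simp only [map_add, map_sub, map_neg, AddMonoidHom.add_apply, AddMonoidHom.sub_apply, AddMonoidHom.neg_apply, map_zero, AddMonoidHom.zero_apply, hS.x0.x3, hS.x1.x3, hS.x2.x3] at h10
    omega

theorem starII (hp : Par q r s p) (h7 : 7 ≤ |r|) {e0 e1 f1 e2 f2 e3 f3 : Λ}
    (hS : l.Star o a1 a2 a3 e0 e1 f1 e2 f2 e3 f3) (h0 : ∀ ρ, l.B (b 0 ρ) e0 = 0)
    (h1 : s * N = q ^ 2 * l.z e1) (h2 : (∀ ρ, l.B (b 0 ρ) e1 = 1) ∨ s * N = q ^ 2 * l.z f1) :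
    False := by
  have n0 := h.n_eq hS.x0
  have n1 := h.n_eq hS.x1
  have n1' := h.n_eq hS.y1
  have n3 := h.n_eq hS.x3
  have n3' := h.n_eq hS.y3
  have hq := hp.hq
  have hs := hp.hs
  obtain ⟨a, ha⟩ : q ^ 2 ∣ N := (hp.cop_q hp.ps).pow_left.dvd_of_dvd_mul_left ⟨_, h1⟩
  have q2 : q ^ 2 ≠ 0 := pow_ne_zero 2 hp.q_ne
  have k1 : l.z e1 = s * a := mul_left_cancel₀ q2 (by rw [← h1, ha]; ring)
  have z1 := h.z1
  have z3 := h.z3
  have t1 := h.t1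
  have t3 := h.t3
  rw [hS.d1] at z1 t1
  rw [hS.d3] at z3 t3
  simp only [map_add, map_sub, map_neg, AddMonoidHom.add_apply, AddMonoidHom.sub_apply, AddMonoidHom.neg_apply, h.zo, h.Θo, l.th _ hS.x0.u, l.th _ hS.x1.u, l.th _ hS.y1.u, l.th _ hS.x3.u, l.th _ hS.y3.u,
    n0, n1, n1', n3, n3'] at z1 z3 t1 t3
  have d0 := h.dv _ hS.x0.u
  have d3 := h.dv _ hS.x3.u
  have d3' := h.dv _ hS.y3.u
  have m0 := h.m8 e0
  have m1 := h.m8 e1
  have c0 := h.cong e0 0 (h.P_of hS.x0) h0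
  refine hp.numII (a := a) (b := l.z f1) (M := l.z e0) (z := l.z e3) (z' := l.z f3) h7
    ((mul_pos_iff_of_pos_left (sq_pos_of_ne_zero hp.q_ne)).1 (ha ▸ h.Npos)) (by omega) (by omega)
    (l.zne _ hS.x0.u) (l.zne _ hS.y1.u) (l.zne _ hS.x3.u) (l.zne _ hS.y3.u) ?_ ?_ ?_ ?_ ?_
    (by omega) ?_ ?_ ?_
  · rw [← k1, ← ha, ← t1]; subst q s; push_cast; ring
  · rw [← ha, ← t3]; subst q s; push_cast; ring
  · rwa [n0, show s * (1 + 1) - q * 1 = 1 by omega, mul_one, ha] at d0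
  · rwa [n3, show s * (0 + 0) - q * -1 = q by ring, ha] at d3
  · rwa [n3', show s * (0 + 0) - q * -1 = q by ring, ha] at d3'
  · refine ((Int.isCoprime_two_left.2 hp.odd_s).pow_left (m := 3)).dvd_of_dvd_mul_left ?_
    rwa [n1, k1, show s * a - (s * (-1 + 0) - q * 0) = s * (a + 1) by ring] at m1
  · simpa [hS.x0.x1, hS.x0.x2, hS.x0.x3] using c0
  · refine h2.imp (fun h2 => ?_) fun h2 => mul_left_cancel₀ q2 (by rw [← h2, ha]; ring)
    have := h.cong e1 1 (h.P_of hS.x1) h2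
    rw [hS.x1.x1, hS.x1.x2, hS.x1.x3, k1] at this
    rw [show a - 3 = s * a - (4 * 1 + (-1 + 0 - 0)) - r * (2 * a) by rw [hs]; ring]
    exact dvd_sub this (Dvd.intro _ rfl)

theorem tri_two (ρ : I) (hf : l.X a1 a2 a3 f 1 1 0) (h1 : l.B (b 0 ρ) f = -1) (hs : s ≠ 0) :
    False := by
  have s := l.symm
  have Pf := h.P_of hf
  have k0 : ∀ i, l.B (b i ρ) f = -1 := fun i => by
    have := h.kP f Pf 0 ρ; have := h.kP f Pf i ρ; omega
  have k1 : ∀ i, l.B (b i ρ + f) (b i ρ + f) = 2 := fun i => by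
    simp only [map_add, map_sub, map_neg, AddMonoidHom.add_apply, AddMonoidHom.sub_apply, AddMonoidHom.neg_apply, s f (b i ρ), k0, h.bb, hf.u]; rfl
  have k2 : ∀ i j, i ≠ j → l.B (b i ρ + f) (b j ρ + f) = 1 := fun i j hij => by
    simp only [map_add, map_sub, map_neg, AddMonoidHom.add_apply, AddMonoidHom.sub_apply, AddMonoidHom.neg_apply, s f (b j ρ), k0, h.bne i j ρ hij, hf.u]; rfl
  have g1 := h.gam ρ
  have g2 := fun i => h.gamb i ρ ρ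
  have g3 := h.gamP Pf 0 ρ
  generalize b0 ρ - (a1 + a2 - a3) = γ at g1 g2 g3
  have k3 : ∀ i, l.B (b i ρ + f) (γ + f) = 1 := fun i => by
    simp only [map_add, map_sub, map_neg, AddMonoidHom.add_apply, AddMonoidHom.sub_apply, AddMonoidHom.neg_apply, s f γ, s (b i ρ) γ, k0, g2, g3, hf.u]; rfl
  obtain ⟨F, hF, -, j0, j1, j2⟩ := four_two (u1 := γ + f) (by simp only [map_add, map_sub, map_neg, AddMonoidHom.add_apply, AddMonoidHom.sub_apply, AddMonoidHom.neg_apply, s f γ, g1, g3, k0, hf.u]; rfl)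
    (k1 0) (k1 1) (k1 2) (k3 0) (k3 1) (k3 2) (k2 0 1 (by decide)) (k2 0 2 (by decide))
    (k2 1 2 (by decide))
  have j : ∀ i, l.B (b i ρ + f) F = 1 := fun i => by fin_cases i <;> assumption
  obtain ⟨θ, hθ⟩ : ∃ θ : Fin 3 → Λ, ∀ i, θ i = b i ρ + f - F := ⟨_, fun _ => rfl⟩
  have d : ∀ i, b i ρ = F + θ i - f := fun i => by rw [hθ]; abel
  have u : ∀ i, l.B (θ i) (θ i) = 1 := fun i => by rw [hθ, l.sub_unit hF (j i), k1]; rfl
  have uF : ∀ i, l.B (θ i) F = 0 := fun i => by rw [hθ, map_sub, AddMonoidHom.sub_apply, j, hF]; rfl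
  have uu : ∀ i k, i ≠ k → l.B (θ i) (θ k) = 0 := fun i k hik => by
    rw [hθ k, map_sub, uF, hθ, map_sub, AddMonoidHom.sub_apply, k2 i k hik, s F, j]; rfl
  have fo := fun i => l.orth_two hF (u i) (s .. ▸ uF i) hf.u (by
    rw [hθ, add_sub_cancel]; simp only [map_add, map_sub, map_neg, AddMonoidHom.add_apply, AddMonoidHom.sub_apply, AddMonoidHom.neg_apply, k0, hf.u]; rfl)
  have u01 := uu 0 1 (by decide)
  have u02 := uu 0 2 (by decide)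
  have u12 := uu 1 2 (by decide)
  have three : ∀ (v : Λ) (k : ℤ), (∀ i, l.B v (θ i) = k) → k = 0 ∨ 3 ≤ l.B v v ∧
      (l.B v v = 3 → l.B v F = 0 ∧ l.B v f = 0) := fun v k hk => by
    have h2 : l.B (v - k • (θ 0 + θ 1 + θ 2)) (v - k • (θ 0 + θ 1 + θ 2)) = l.B v v - 3 * k ^ 2 := by
      simp only [map_add, map_sub, map_neg, AddMonoidHom.add_apply, AddMonoidHom.sub_apply, AddMonoidHom.neg_apply, map_zsmul, AddMonoidHom.zsmul_apply, smul_eq_mul, s (θ _) v, hk, u, u01, u02, u12,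
        s (θ 1) (θ 0), s (θ 2) (θ 0), s (θ 2) (θ 1)]; ring
    have h3 := l.nonneg (v - k • (θ 0 + θ 1 + θ 2))
    refine or_iff_not_imp_left.2 fun h4 => ?_
    have h5 : 1 ≤ k ^ 2 := by have := sq_pos_of_ne_zero h4; omega
    refine ⟨by omega, fun h6 => ?_⟩
    rw [sub_eq_zero.1 (l.eq_zero (by omega) : v - k • (θ 0 + θ 1 + θ 2) = 0)]
    simp only [map_add, map_sub, map_neg, AddMonoidHom.add_apply, AddMonoidHom.sub_apply, AddMonoidHom.neg_apply, map_zsmul, AddMonoidHom.zsmul_apply, smul_eq_mul, uF, (fo _).2]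
    simp
  have big : ∀ v, l.B v v = 3 → (∀ i, l.B v (b i ρ) = 2) → l.B v F = 1 := fun v h2 h3 => by
    have c1 := l.abs_le hF h2.le
    have c2 := l.abs_le hf.u h2.le
    have h4 : ∀ i, l.B v (θ i) = 2 + l.B v f - l.B v F := fun i => by rw [hθ]; simp only [map_add, map_sub, map_neg, AddMonoidHom.add_apply, AddMonoidHom.sub_apply, AddMonoidHom.neg_apply, h3]
    have c3 := l.abs_le (u 0) h2.le
    have := h4 0
    rcases three v _ h4 with h5 | h5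
    · omega
    · have := h5.2 h2; omega
  have fF := (fo 0).1
  have bF : ∀ i, l.B (b i ρ) F = 1 := fun i => by have := j i; simp only [map_add, map_sub, map_neg, AddMonoidHom.add_apply, AddMonoidHom.sub_apply, AddMonoidHom.neg_apply, s f F] at this; omega
  obtain ⟨x1, x2, x3⟩ : l.B F a1 = 0 ∧ l.B F a2 = 0 ∧ l.B F a3 = 0 := by
    rcases h.dich _ (u 0) with hP | h5
    · have c0 := h.kP _ hP 0 ρ
      have c1 := h.kP _ hP 1 ρ
      rw [d 0] at c0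
      rw [d 1] at c1
      simp only [map_add, map_sub, map_neg, AddMonoidHom.add_apply, AddMonoidHom.sub_apply, AddMonoidHom.neg_apply, s F (θ 0), s f (θ 0), s (θ 1) (θ 0), u, u01] at c0 c1
      omega
    · rw [hθ] at h5
      simp only [map_add, map_sub, map_neg, AddMonoidHom.add_apply, AddMonoidHom.sub_apply, AddMonoidHom.neg_apply, h.ba1, h.ba2, h.ba3, hf.x1, hf.x2, hf.x3] at h5
      omega
  have nF := h.fin F (fun ρ' => by
      have := big _ (h.gam ρ') fun i => h.gamb i ρ' ρ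
      simp only [map_add, map_sub, map_neg, AddMonoidHom.add_apply, AddMonoidHom.sub_apply, AddMonoidHom.neg_apply, s a1 F, s a2 F, s a3 F] at this; omega)
    (fun i ρ' => by
      by_cases e : ∃ j, b i ρ' = b j ρ
      · obtain ⟨j, e⟩ := e
        rw [e, bF]
      · exact big _ (h.bb i ρ') fun j => (h.bb' i j ρ' ρ).resolve_right fun e' => e ⟨j, e'⟩)
    x1 x2 x3 fun τ => by
      have := h.ζζ τ
      have := three (ζ τ) (-l.B (ζ τ) F) fun i => by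
        rw [hθ]; simp only [map_add, map_sub, map_neg, AddMonoidHom.add_apply, AddMonoidHom.sub_apply, AddMonoidHom.neg_apply, h.ζb, h.ζP τ f Pf]; ring
      omega
  have c1 := h.zb 0 ρ
  have c2 := h.nb 0 ρ
  have c3 := h.tb 0 ρ
  rw [d 0] at c1 c2 c3
  simp only [map_add, map_sub, map_neg, AddMonoidHom.add_apply, AddMonoidHom.sub_apply, AddMonoidHom.neg_apply, l.th _ hF, l.th _ (u 0), l.th _ hf.u, nF] at c1 c2 c3
  have c7 : (l.n f : ℚ) ≠ 0 := by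
    rw [h.n_eq hf]; exact_mod_cast (by omega)
  rw [show l.n (θ 0) = l.n f by omega] at c3
  have c4 : (l.z (θ 0) : ℚ) ≠ 0 := by exact_mod_cast l.zne _ (u 0)
  have c5 : (l.z f : ℚ) ≠ 0 := by exact_mod_cast l.zne _ hf.u
  have c6 := l.zne _ hF
  have c8 : (l.z (θ 0) : ℚ) = l.z f := by
    simp only [Int.cast_zero, ne_eq, OfNat.ofNat_ne_zero, not_false_eq_true, zero_pow, zero_div,
      zero_add, sub_eq_zero] at c3
    field_simp at c3
    exact c3.symm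
  have : l.z (θ 0) = l.z f := by exact_mod_cast c8
  omega

theorem tri (hp : Par q r s p) {e1 e2 e3 f1 f2 f3 : Λ} (ρ : I)
    (hT : l.Tri o a1 a2 a3 e1 e2 e3 f1 f2 f3) : False := by
  have key : ∀ ρ, l.B (b 0 ρ) e1 = 1 ∧ l.B (b 0 ρ) e2 = 1 ∧ l.B (b 0 ρ) f1 = 0 := fun ρ => by
    have s := l.symm
    have m := (h.bb 0 ρ).le
    have c0 := l.abs_le hT.x1.u m
    have c1 := l.abs_le hT.x2.u m
    have c2 := l.abs_le hT.x3.u m
    have c3 := l.abs_le hT.y1.u m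
    have c4 := l.abs_le hT.y2.u m
    have c5 := l.abs_le hT.y3.u m
    have c6 : l.B (b 0 ρ) f3 ≠ -1 := fun e => h.tri_two ρ hT.y3 e hp.s_ne
    obtain ⟨θ, hθ, c7⟩ := h.exists_theta ρ
    have k1 := h.ba1 0 ρ
    have k2 := h.ba2 0 ρ
    have k3 := h.ba3 0 ρ
    rw [hT.d1] at k1
    rw [hT.d2] at k2
    rw [hT.d3] at k3
    simp only [map_add, map_sub, map_neg, AddMonoidHom.add_apply, AddMonoidHom.sub_apply, AddMonoidHom.neg_apply, h.ob] at k1 k2 k3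
    have := l.nonneg (b 0 ρ - θ - l.B (b 0 ρ) e1 • e1 - l.B (b 0 ρ) e2 • e2 - l.B (b 0 ρ) e3 • e3 -
      l.B (b 0 ρ) f1 • f1 - l.B (b 0 ρ) f2 • f2 - l.B (b 0 ρ) f3 • f3)
    simp only [map_add, map_sub, map_neg, AddMonoidHom.add_apply, AddMonoidHom.sub_apply, AddMonoidHom.neg_apply, map_zsmul, AddMonoidHom.zsmul_apply, smul_eq_mul, s _ (b 0 ρ), h.bb, c7, hθ.u, hT.x1.u,
      hT.x2.u, hT.x3.u, hT.y1.u, hT.y2.u, hT.y3.u,
      hθ.orth hT.x1, hθ.orth hT.x2, hθ.orth hT.x3, hθ.orth hT.y1, hθ.orth hT.y2, hθ.orth hT.y3,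
      hT.x1.orth hθ, hT.x1.orth hT.x2, hT.x1.orth hT.x3, hT.x1.orth hT.y1, hT.x1.orth hT.y2,
      hT.x1.orth hT.y3, hT.x2.orth hθ, hT.x2.orth hT.x1, hT.x2.orth hT.x3, hT.x2.orth hT.y1,
      hT.x2.orth hT.y2, hT.x2.orth hT.y3, hT.x3.orth hθ, hT.x3.orth hT.x1, hT.x3.orth hT.x2,
      hT.x3.orth hT.y1, hT.x3.orth hT.y2, hT.x3.orth hT.y3, hT.y1.orth hθ, hT.y1.orth hT.x1,
      hT.y1.orth hT.x2, hT.y1.orth hT.x3, hT.y1.orth hT.y2, hT.y1.orth hT.y3, hT.y2.orth hθ,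
      hT.y2.orth hT.x1, hT.y2.orth hT.x2, hT.y2.orth hT.x3, hT.y2.orth hT.y1, hT.y2.orth hT.y3,
      hT.y3.orth hθ, hT.y3.orth hT.x1, hT.y3.orth hT.x2, hT.y3.orth hT.x3, hT.y3.orth hT.y1,
      hT.y3.orth hT.y2] at this
    generalize l.B (b 0 ρ) e1 = y1 at *
    generalize l.B (b 0 ρ) e2 = y2 at *
    generalize l.B (b 0 ρ) e3 = y3 at *
    generalize l.B (b 0 ρ) f1 = y4 at *
    generalize l.B (b 0 ρ) f2 = y5 at *
    generalize l.B (b 0 ρ) f3 = y6 at *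
    obtain ⟨_, _⟩ := c0
    obtain ⟨_, _⟩ := c1
    obtain ⟨_, _⟩ := c2
    obtain rfl : y5 = y1 - y6 - 1 := by omega
    obtain rfl : y4 = y2 - y6 - 1 := by omega
    obtain rfl : y3 = y1 + y2 - 2 * y6 - 2 := by omega
    obtain ⟨_, _⟩ := c5
    interval_cases y1 <;> interval_cases y2 <;> interval_cases y6 <;> omega
  have n1 := h.n_eq hT.x1
  have n3 := h.n_eq hT.x3
  have n4 := h.n_eq hT.y1
  have n5 := h.n_eq hT.y2
  have n6 := h.n_eq hT.y3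
  have hq := hp.hq
  have hs := hp.hs
  obtain ⟨h1, h2⟩ := h.two_neg hp ρ hT.x1 hT.x2 (key ρ).1 (key ρ).2.1
  obtain ⟨a, ha⟩ : q ^ 2 ∣ N := (hp.cop_q hp.ps).pow_left.dvd_of_dvd_mul_left ⟨_, h1⟩
  have k1 : l.z e1 = s * a := mul_left_cancel₀ (pow_ne_zero 2 hp.q_ne) (by rw [← h1, ha]; ring)
  have z1 := h.z1
  have z2 := h.z2
  have z3 := h.z3
  have t1 := h.t1
  have t3 := h.t3
  rw [hT.d1] at z1 t1
  rw [hT.d2] at z2
  rw [hT.d3] at z3 t3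
  simp only [map_add, map_sub, map_neg, AddMonoidHom.add_apply, AddMonoidHom.sub_apply, AddMonoidHom.neg_apply, h.zo, h.Θo, l.th _ hT.x1.u, l.th _ hT.x3.u, l.th _ hT.y1.u, l.th _ hT.y2.u, l.th _ hT.y3.u,
    n1, n3, n4, n5, n6] at z1 z2 z3 t1 t3
  have k2 : l.z f2 = l.z f1 := by omega
  have m := h.m8 f1
  have c0 := h.cong f1 0 (h.P_of hT.y1) fun ρ => (key ρ).2.2
  refine hp.numT (a := a) (w := l.z f1) (w3 := l.z f3) (by omega)
    (by rintro rfl; have := h.Npos; omega) (l.zne _ hT.y1.u) (l.zne _ hT.y3.u) ?_ ?_ (by omega) ?_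
  · rw [← k1, ← ha, ← t1, k2]; subst q s; push_cast; ring
  · rw [← ha, ← t3, k2, show 1 + 2 * l.z f1 = l.z e3 by omega]; subst q s; push_cast; ring
  · simpa [hT.y1.x1, hT.y1.x2, hT.y1.x3] using c0

theorem main (hp : Par q r s p) (h7 : 7 ≤ |r|) (ρ : I) :
    (∃ n : ℕ, 1 ≤ n ∧ q = -3 ^ (2 * n + 1)) ∧ N = q ^ 2 * (q ^ 2 + q + 1) := by
  rcases h.pattern with ⟨e0, e1, f1, e2, f2, e3, f3, hS⟩ | ⟨e1, e2, e3, f1, f2, f3, hT⟩
  · by_contra h0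
    have key := fun ρ => (h.star_step hp hS ρ).resolve_left h0
    by_cases h1 : s * N = q ^ 2 * l.z f1
    · have hS' : l.Star o a1 a2 a3 e0 f1 e1 e2 f2 e3 f3 := ⟨by rw [hS.d1]; abel, hS.d2, hS.d3,
        hS.o0, hS.x0, hS.y1, hS.x1, hS.x2, hS.y2, hS.x3, hS.y3⟩
      refine h.starII hp h7 hS' (fun ρ => (key ρ).1) h1 (or_iff_not_imp_right.2 fun h2 ρ => ?_)
      exact (((h.star_step hp hS' ρ).resolve_left h0).2.resolve_right h2).1
    · exact h.starII hp h7 hS (fun ρ => (key ρ).1) ((key ρ).2.resolve_right h1).2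
        (Or.inl fun ρ => ((key ρ).2.resolve_right h1).1)
  · exact (h.tri hp ρ hT).elim

end RD

end Lat

end CfsgLib.JR
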