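import Cfsg.Agent.Lib.JR.LChar
import Cfsg.Agent.Lib.JR.RLat
import Cfsg.Agent.Lib.JR.Fusion

/-!
# The section of the involution
-/

set_option autoImplicit false
set_option linter.unusedSimpArgs false
set_option linter.unusedSectionVars false

namespace CfsgLib.JR

open Subgroup Cfsg CfsgLib.FT CfsgLib.FT.BGN CfsgLib.FT.U4 CfsgLib.GW CfsgLib.Blk
open scoped ComplexConjugate

variable {G : Type*} [Group G] [Fintype G] {q r s : ℤ} {p : ℕ} {c : Cfg G} {g y u : G}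
  {X : Subgroup G} {a b e φ ψ χ θ : G → ℂ} {x1 x2 x3 : ℤ}

/-- Virtual characters vanishing on the elements of even order. -/
structure OS (X : Subgroup G) (ψ : G → ℂ) : Prop where
  mem : ψ ∈ ZIrr X
  ev : ∀ g, 2 ∣ orderOf g → ψ g = 0

/-- The lift of `ψ` to the section of `t`. -/
noncomputable def al (c : Cfg G) (ψ : G → ℂ) : G → ℂ := cfInd 𝐂[c.t] ⊤ (tr c.t ((2 : ℂ) • ψ))

/-- The characters given on the section of `t` by their inner products with the `α`'s. -/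
def PP (c : Cfg G) (a b e ξ : G → ℂ) : Prop := ∀ y ∈ c.L, Odd (orderOf y) →
  ξ (c.t * y) = -(cfdot ⊤ ξ (al c (cf1 c.L - a)) * a y + cfdot ⊤ ξ (al c (cf1 c.L - b)) * b y +
    cfdot ⊤ ξ (al c (cf1 c.L - e)) * e y)

theorem os_sub (ha : IsDirr X a) (h : ∀ g ∈ X, 2 ∣ orderOf g → a g = 1) : OS X (cf1 X - a) := by
  refine ⟨sub_mem cf1_mem_ZIrr ha.mem_ZIrr, fun g hg => ?_⟩
  by_cases e : g ∈ X
  · simp [cf1_apply e, h g e hg]
  · exact CF_zero (sub_mem cf1_mem_CF ha.mem_CF) e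

theorem Eta.osa (h : Eta X a b e x1 x2 x3) : OS X (cf1 X - a) :=
  os_sub h.da fun g hg k => (h.even g hg k).1
theorem Eta.osb (h : Eta X a b e x1 x2 x3) : OS X (cf1 X - b) := h.swap.osa
theorem Eta.ose (h : Eta X a b e x1 x2 x3) : OS X (cf1 X - e) := h.swap'.osb

theorem orth_of_notMem {θ : Irr X} (hθ : θ ∉ B0 2 X) (ha : IsDirr X a)
    (h1 : cfdot X a (cf1 X) = 0) (h : ∀ g ∈ X, 2 ∣ orderOf g → a g = 1) (hu : u ∈ X)
    (ho : orderOf u = 2) : cfdot X θ (cf1 X - a) = 0 := by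
  classical
  rw [cfdot_sub_right, θ.irr.cfdot_ne (isIrr_cf1 X) fun e =>
    hθ (Irr.ext (ψ := 1) e ▸ one_mem_B0 Nat.prime_two), zero_sub, neg_eq_zero]
  by_contra h2
  have h3 : ∑ x ∈ elems (regSet 2 X), a x = 0 := by
    have := not_not.1 (mt mem_B0.2 hθ)
    rcases θ.irr.isDirr.eq_or_neg_of_cfdot_ne ha h2 with e | e <;> rw [e] at this
    · exact this
    · simpa using this
  rw [cfdot_cf1_right, mul_eq_zero, inv_eq_zero, or_iff_right (card_ne_zero X),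
    ← Finset.sum_sdiff (s₁ := elems (regSet 2 X)) fun x hx => mem_elems.2 (mem_elems.1 hx).1, h3,
    add_zero, Finset.sum_congr rfl (g := fun _ => 1) fun x hx => ?_, Finset.sum_const,
    nsmul_eq_mul, mul_one, Nat.cast_eq_zero, Finset.card_eq_zero] at h1
  · refine Finset.notMem_empty u (h1 ▸ Finset.mem_sdiff.2 ⟨mem_elems.2 hu, fun e => ?_⟩)
    exact not_odd_of_inv ho (Nat.coprime_two_right.1 (mem_elems.1 e).2)
  · obtain ⟨k1, k2⟩ := Finset.mem_sdiff.1 hx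
    exact h x (mem_elems.1 k1) ((odd_or_two_dvd x).resolve_left fun e =>
      k2 (mem_elems.2 ⟨mem_elems.1 k1, Nat.coprime_two_right.2 e⟩))

theorem OS.congr (hψ : OS X ψ) (h : ∀ y ∈ X, Odd (orderOf y) → φ y = χ y) :
    cfdot X φ ψ = cfdot X χ ψ := by
  simp only [cfdot]
  congr 1
  refine Finset.sum_congr rfl fun y hy => ?_
  rcases odd_or_two_dvd y with e | e
  · rw [h y (mem_elems.1 hy) e]
  · simp [hψ.ev y e]

theorem dvd_index_mul (he : IsDirr ⊤ χ) {z n : ℤ} (hz : χ 1 = z) (hn : χ g = n) :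
    z ∣ ((𝐂[g]).index : ℤ) * n := by
  have key : ∀ χ : G → ℂ, IsIrr ⊤ χ → ∀ z n : ℤ, χ 1 = z → χ g = n →
      z ∣ ((𝐂[g]).index : ℤ) * n := fun χ h z n hz hn => by
    have h1 := (isIrr_top.1 h).isIntegral_index_mul_div g
    have h0 : (z : ℂ) ≠ 0 := hz ▸ h.one_ne_zero
    rw [hz, hn, show ((𝐂[g]).index * n / z : ℂ) = algebraMap ℚ ℂ ((𝐂[g]).index * n / z) by simp,
      isIntegral_algebraMap_iff (algebraMap ℚ ℂ).injective] at h1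
    obtain ⟨k, hk⟩ := IsIntegrallyClosed.isIntegral_iff.1 h1
    have h2 : (z : ℚ) ≠ 0 := by exact_mod_cast h0
    refine ⟨k, ?_⟩
    rw [eq_intCast, eq_div_iff h2] at hk
    exact_mod_cast (hk.symm.trans (mul_comm _ _))
  rcases he with h | h
  · exact key χ h z n hz hn
  · simpa using key _ h (-z) (-n) (by simp [hz]) (by simp [hn])

namespace GD

variable (h : GD q r s p c)
include h

theorem two_smul_mem (hψ : ψ ∈ ZIrr c.L) : (2 : ℂ) • ψ ∈ ZIrr 𝐂[c.t] := by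
  have h1 := ZIrr_cfInd h.L_le hψ
  have h2 := ZIrr_mem_CF hψ
  have h3 : c.t ∈ inertia ψ := mem_inertia.2 fun g => by
    by_cases e : g ∈ c.L
    · rw [← h.comm g e, mul_inv_cancel_right]
    · rw [CF_zero h2 e, CF_zero h2 (mt (norm_conj_mem (h.t_norm le_rfl)).1 e)]
  rwa [cfInd_of_invariant h.L_le h.ct_norm h2 fun g hg => (h.mem_ct.1 hg).elim
    (fun e => le_inertia h2 e) fun e => (mul_mem_cancel_left h3).1 (le_inertia h2 e), h.idxL,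
    Nat.cast_ofNat] at h1

theorem tr_tr : tr c.t (tr c.t φ) = φ := by
  ext g; simp only [tr, ← mul_assoc, h.tt, one_mul]

theorem cfdot_tr2 (hψ : ψ ∈ CF c.L) :
    cfdot 𝐂[c.t] φ (tr c.t ((2 : ℂ) • ψ)) = cfdot c.L (tr c.t φ) ψ := by
  conv_lhs => rw [← h.tr_tr (φ := φ)]
  rw [cfdot_tr (self_mem_cent1 _), cfdot_smul_right, ← cfdot_conj, ← cfdot_conj (L := c.L),
    cfdot_of_supp_subgroup h.L_le fun x => CF_zero hψ, h.idxL]
  simp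

theorem mem_secT (hy : y ∈ c.L) (ho : Odd (orderOf y)) : c.t * y ∈ secT c.t :=
  (mul_mem_secT_iff h.ot (h.comm y hy)).2 (Nat.coprime_two_right.2 ho)

theorem tr_CFon (hψ : OS c.L ψ) : tr c.t ((2 : ℂ) • ψ) ∈ CFon 𝐂[c.t] (secT c.t) := by
  refine mem_CFon.2 ⟨ZIrr_mem_CF (tr_mem_ZIrr h.ot (h.two_smul_mem hψ.mem)), fun g hg => ?_⟩
  by_contra e
  have e' : ψ (c.t * g) ≠ 0 := fun e' => e (by simp [tr, e'])
  have := h.mem_secT (not_not.1 (mt (CF_zero (ZIrr_mem_CF hψ.mem)) e'))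
    ((odd_or_two_dvd _).resolve_right (mt (hψ.ev _) e'))
  rw [← mul_assoc, h.tt, one_mul] at this
  exact hg this

theorem al_mem (hψ : OS c.L ψ) : al c ψ ∈ ZIrr ⊤ :=
  ZIrr_cfInd le_top (tr_mem_ZIrr h.ot (h.two_smul_mem hψ.mem))

omit h in
theorem al_CF : al c ψ ∈ CF ⊤ := cfInd_mem_CF

theorem cfdot_al (hφ : φ ∈ CF ⊤) (hψ : OS c.L ψ) :
    cfdot ⊤ φ (al c ψ) = cfdot c.L (tr c.t φ) ψ := by
  rw [al, cfdot_cfInd_right le_top hφ, h.cfdot_tr2 (ZIrr_mem_CF hψ.mem)]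

theorem al_t (hψ : OS c.L ψ) (hy : y ∈ c.L) (ho : Odd (orderOf y)) :
    al c ψ (c.t * y) = 2 * ψ y := by
  rw [al, normedTI_Ind_id (normedTI_secT h.ot) (h.tr_CFon hψ) (h.mem_secT hy ho) (mem_top _)]
  simp only [tr, ← mul_assoc, h.tt, one_mul, Pi.smul_apply, smul_eq_mul]

theorem al_odd (hψ : OS c.L ψ) (ho : Odd (orderOf g)) : al c ψ g = 0 :=
  cfInd_eq_zero fun x _ _ => CFon_zero (h.tr_CFon hψ) fun e => not_odd_of_mem_secT h.ot e (by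
    rw [U4.orderOf_conj]; exact Nat.coprime_two_right.2 ho)

theorem al_al (hφ : OS c.L φ) (hψ : OS c.L ψ) :
    cfdot ⊤ (al c φ) (al c ψ) = 2 * cfdot c.L φ ψ := by
  rw [h.cfdot_al al_CF hψ, hψ.congr (φ := tr c.t (al c φ)) (χ := (2 : ℂ) • φ) fun y hy ho => h.al_t hφ hy ho,
    cfdot_smul_left]

theorem th_sec (hy : y ∈ c.L) (ho : Odd (orderOf y)) : th ⊤ (c.t * y) = 2 * th c.L y := by
  have k1 : ∀ a ∈ c.L, orderOf a = 2 → orderOf (c.t * a) = 2 := fun a ha h2 =>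
    Four.ots ⟨h.ot, h2, (h.comm a ha).symm, fun e => h.tL (e ▸ ha)⟩
  have k2 : ∀ a ∈ c.L, orderOf (c.t * a) = 2 → a ≠ 1 → orderOf a = 2 := fun a ha h2 h3 => by
    have := mul_self_of_inv h2
    rw [mul_assoc, ← mul_assoc a, h.comm a ha, ← mul_assoc, ← mul_assoc, h.tt, one_mul] at this
    exact inv_of_mul_self this h3
  have k3 : ∀ a ∈ c.L, a * (c.t * y) = c.t * (a * y) := fun a ha => by
    rw [← mul_assoc, h.comm a ha, mul_assoc]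
  have k4 : ∀ a ∈ c.L, c.t * a * (c.t * y) = a * y := fun a ha => by
    rw [mul_assoc, k3 a ha, ← mul_assoc, h.tt, one_mul]
  have : invs ⊤ (c.t * y) = invs c.L y ∪ (c.t * ·) '' invs c.L y := by
    ext a
    refine ⟨fun ha => ?_, ?_⟩
    · have hi := inverts_of_mem_invs ha
      have hc := (Commute.inv_left (h.comm y hy)).eq
      rw [mul_inv_rev, h.four_tu.ti, hc] at hi
      rcases h.mem_ct.1 (mem_cent1_of_conj_eq (conj_eq_of_odd h.ot h.ot ho (by rwa [orderOf_inv])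
        (h.comm y hy) hc hi).1) with e | e
      · refine Or.inl ⟨⟨e, ha.1.2⟩, mul_mem e hy, k2 _ (mul_mem e hy) (k3 a e ▸ ha.2.2) fun e' => ?_⟩
        exact not_odd_of_inv ha.1.2 (by rwa [eq_inv_of_mul_eq_one_left e', orderOf_inv])
      · have e1 : c.t * (c.t * a) = a := by rw [← mul_assoc, h.tt, one_mul]
        have e2 : orderOf (c.t * a * y) = 2 := by rw [← k4 _ e, e1]; exact ha.2.2
        exact Or.inr ⟨c.t * a, ⟨⟨e, k2 _ e (e1.symm ▸ ha.1.2) fun e' =>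
          not_odd_of_inv e2 (by rwa [e', one_mul])⟩, mul_mem e hy, e2⟩, e1⟩
    · rintro (ha | ⟨a, ha, rfl⟩)
      · exact ⟨⟨mem_top _, ha.1.2⟩, mem_top _, k3 a ha.1.1 ▸ k1 _ ha.2.1 ha.2.2⟩
      · exact ⟨⟨mem_top _, k1 a ha.1.1 ha.1.2⟩, mem_top _, (k4 a ha.1.1).symm ▸ ha.2.2⟩
  rw [th, th, this, Set.ncard_union_eq, Set.ncard_image_of_injective _ (mul_right_injective _)]
  · push_cast; ring
  · rw [Set.disjoint_right]
    rintro _ ⟨a, ha, rfl⟩ e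
    exact h.tL ((mul_mem_cancel_right ha.1.1).1 e.1.1)

theorem idx_ne : ((𝐂[c.t]).index : ℂ) ≠ 0 := Nat.cast_ne_zero.2 index_ne_zero_of_finite

theorem Th_top (hφ : φ ∈ CF ⊤) :
    Th ⊤ c.t φ = 8 * (q * s) * r.natAbs / (𝐂[c.t]).index * cfdot ⊤ φ (th ⊤) := by
  have h1 := card_mul_index 𝐂[c.t]
  have := h.idx_ne
  have := card_ne_zero 𝐂[c.t]
  rw [Th_eq h.ot (mem_top _) h.oneCl hφ, top_inf_eq, card_top, ← h1, ← h.natAbs_qs]
  rw [h.card_ct] at *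
  push_cast at *
  field_simp

theorem Th_al (hψ : OS c.L ψ) :
    Th ⊤ c.t (al c ψ) = 4 * (q * s) ^ 2 / (𝐂[c.t]).index * Th c.L c.u ψ := by
  rw [h.Th_top al_CF, ← cfdot_conj, h.cfdot_al th_mem_CF hψ,
    hψ.congr (φ := tr c.t (th ⊤)) (χ := (2 : ℂ) • th c.L) fun y hy ho => h.th_sec hy ho, cfdot_smul_left, map_mul,
    cfdot_conj, Th_eq h.ou h.uL h.one (ZIrr_mem_CF hψ.mem), h.card_cu, h.card, ← h.natAbs_qs]
  have := h.idx_ne
  have := h.qC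
  have := h.rC
  have := h.sC
  push_cast
  simp only [map_ofNat]
  field_simp
  ring

theorem irr_ct (ξ : Irr 𝐂[c.t]) : ∃ (θ : Irr c.L) (ε : ℂ), (∀ y ∈ c.L, ξ (c.t * y) = ε * θ y) ∧
    (ξ ∈ B0 2 _ ↔ θ ∈ B0 2 _) := by
  have hd : DProdIn (zpowers c.t) c.L 𝐂[c.t] := dprodIn_of_sup (le_antisymm (sup_le
    (zpowers_le_cent1 _) h.L_le) fun g hg => (h.mem_ct.1 hg).elim (fun e => mem_sup_right e)
      fun e => (mul_mem_cancel_left (mem_sup_left (mem_zpowers _))).1 (mem_sup_right e))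
    (eq_bot_of_forall fun _ hx => ((mem_zpowers_inv h.ot).1 hx.1).resolve_right
      fun e => h.tL (e ▸ hx.2))
    fun x hx y hy => mem_cent1'.1 (cent1_le_cent1 hx (h.L_le hy))
  obtain ⟨μ, θ, hμ, hθ, e⟩ := hd.exists_of_irr ξ.irr
  obtain ⟨θ, rfl⟩ : ∃ θ' : Irr c.L, (θ' : G → ℂ) = θ := ⟨⟨θ, hθ⟩, rfl⟩
  refine ⟨θ, μ c.t, fun y hy => by
    rw [e, cfProd_apply hd.compl.2.2.1 (mem_zpowers _) hy], ?_⟩
  rw [mem_B0, mem_B0, show regSet 2 𝐂[c.t] = regSet 2 c.L from Set.ext fun g =>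
    ⟨fun hg => ⟨h.mem_L_of_odd hg.1 (Nat.coprime_two_right.1 hg.2), hg.2⟩,
      fun hg => ⟨h.L_le hg.1, hg.2⟩⟩, Finset.sum_congr rfl fun y hy => ?_]
  rw [e, ← one_mul y, cfProd_apply hd.compl.2.2.1 (one_mem _) (mem_elems.1 hy).1,
    (hμ.isLin_of_isCyclic inferInstance).one, one_mul, one_mul]

variable (hE : Eta c.L a b e x1 x2 x3)
include hE

theorem al_notMem {χ : Irr (⊤ : Subgroup G)} (hχ : χ ∉ B0 2 ⊤) :
    cfdot ⊤ χ (al c (cf1 c.L - a)) = 0 := by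
  have h1 := h.tr_CFon hE.osa
  have h2 : projB (B0 2 𝐂[c.t]) (tr c.t ((2 : ℂ) • (cf1 c.L - a))) = _ :=
    CF_ext projB_mem_CF (CFon_CF h1) fun ξ hξ => by
      obtain ⟨ξ, rfl⟩ : ∃ ξ' : Irr 𝐂[c.t], (ξ' : G → ℂ) = ξ := ⟨⟨ξ, hξ⟩, rfl⟩
      rw [cfdot_projB]
      split_ifs with e
      · rfl
      obtain ⟨θ, ε, k1, k2⟩ := h.irr_ct ξ
      rw [eq_comm, cfdot_eq_zero_comm, h.cfdot_tr2 (ZIrr_mem_CF hE.osa.mem),
        cfdot_congr (φ := tr c.t ξ) (φ' := ε • (θ : G → ℂ)) k1 fun _ _ => rfl, cfdot_smul_left,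
        orth_of_notMem (mt k2.2 e) hE.da hE.a1 (fun g hg k => (hE.even g hg k).1) h.uL h.ou,
        mul_zero]
  rw [al, cfdot_cfInd_right le_top χ.mem_CF, ← h2, ← cfdot_projB_comm]
  refine cfdot_eq_zero_of_supp fun x _ => or_iff_not_imp_right.2 fun e => ?_
  rw [Q8Hyp.proj0_eq_on_secT h.ot χ.mem_CF (not_not.1 (mt (CFon_zero h1) e)), projB_irr,
    if_neg hχ]
  rfl

theorem pp_of (hφ : φ ∈ CF ⊤) {k1 k2 k3 : ℂ}
    (hk : ∀ y ∈ c.L, Odd (orderOf y) → φ (c.t * y) = k1 * a y + k2 * b y + k3 * e y) :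
    PP c a b e φ := by
  have key : ∀ ψ, OS c.L ψ → cfdot ⊤ φ (al c ψ) =
      k1 * cfdot c.L a ψ + k2 * cfdot c.L b ψ + k3 * cfdot c.L e ψ := fun ψ hψ => by
    rw [h.cfdot_al hφ hψ, hψ.congr (φ := tr c.t φ) (χ := k1 • a + k2 • b + k3 • e) hk]
    simp only [cfdot_add_left, cfdot_smul_left]
  intro y hy ho
  simp only [key _ hE.osa, key _ hE.osb, key _ hE.ose, cfdot_sub_right, hE.a1, hE.b1, hE.c1,
    hE.da.cfdot_self, hE.db.cfdot_self, hE.dc.cfdot_self, hE.ab, hE.ac, hE.bc,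
    cfdot_symm_zero hE.ab, cfdot_symm_zero hE.ac, cfdot_symm_zero hE.bc, hk y hy ho]
  ring

theorem pp_mem {χ : Irr (⊤ : Subgroup G)} (hχ : χ ∈ B0 2 ⊤) : PP c a b e χ := by
  have key : ∀ ξ ∈ B0 2 𝐂[c.t], ∃ k : ℂ × ℂ × ℂ, ∀ y ∈ c.L, Odd (orderOf y) →
      ξ (c.t * y) = k.1 * a y + k.2.1 * b y + k.2.2 * e y := fun ξ hξ => by
    obtain ⟨θ, ε, k1, k2⟩ := h.irr_ct ξ
    obtain ⟨δ, k | k | k | k⟩ := hE.b0 θ (k2.1 hξ)
    · exact ⟨(-ε * δ, -ε * δ, -ε * δ), fun y hy ho => by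
        rw [k1 y hy, k, Pi.smul_apply, cf1_apply hy, smul_eq_mul]
        linear_combination ε * δ * hE.odd y hy ho⟩
    · exact ⟨(ε * δ, 0, 0), fun y hy _ => by simp [k1 y hy, k, mul_assoc]⟩
    · exact ⟨(0, ε * δ, 0), fun y hy _ => by simp [k1 y hy, k, mul_assoc]⟩
    · exact ⟨(0, 0, ε * δ), fun y hy _ => by simp [k1 y hy, k, mul_assoc]⟩
  choose! k hk using key
  refine h.pp_of hE χ.mem_CF (k1 := ∑ ξ ∈ B0 2 𝐂[c.t], cfdot 𝐂[c.t] χ ξ * (k ξ).1)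
    (k2 := ∑ ξ ∈ B0 2 𝐂[c.t], cfdot 𝐂[c.t] χ ξ * (k ξ).2.1)
    (k3 := ∑ ξ ∈ B0 2 𝐂[c.t], cfdot 𝐂[c.t] χ ξ * (k ξ).2.2) fun y hy ho => ?_
  have := Q8Hyp.proj0_eq_on_secT h.ot χ.mem_CF (h.mem_secT hy ho)
  rw [projB_irr, if_pos hχ, projB_apply] at this
  rw [← this, Finset.sum_mul, Finset.sum_mul, Finset.sum_mul, ← Finset.sum_add_distrib,
    ← Finset.sum_add_distrib]
  exact Finset.sum_congr rfl fun ξ hξ => by rw [hk ξ hξ y hy ho]; ring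

theorem dich (hχ : IsDirr ⊤ χ) : PP c a b e χ ∨ (cfdot ⊤ χ (al c (cf1 c.L - a)) = 0 ∧
    cfdot ⊤ χ (al c (cf1 c.L - b)) = 0 ∧ cfdot ⊤ χ (al c (cf1 c.L - e)) = 0) := by
  obtain ⟨ε, χ, -, hχ', rfl⟩ := hχ.exists_sign
  obtain ⟨χ, rfl⟩ : ∃ χ' : Irr (⊤ : Subgroup G), (χ' : G → ℂ) = χ := ⟨⟨χ, hχ'⟩, rfl⟩
  by_cases k : χ ∈ B0 2 ⊤
  · refine Or.inl fun y hy ho => ?_
    simp only [cfdot_smul_left, Pi.smul_apply, smul_eq_mul]
    linear_combination ε * h.pp_mem hE k y hy ho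
  · have k1 := h.al_notMem hE k
    have k2 := h.al_notMem hE.swap k
    have k3 := h.al_notMem hE.swap'.swap k
    exact Or.inr (by simp only [cfdot_smul_left]; exact ⟨by rw [k1, mul_zero],
      by rw [k2, mul_zero], by rw [k3, mul_zero]⟩)

omit hE in
theorem mod_eight (hφ : φ ∈ ZIrr ⊤) {z n : ℤ} (hz : φ 1 = z) (hn : φ c.t = n) : 8 ∣ z - n := by
  have hc : ∀ x ∈ c.S, ∀ y ∈ c.S, x * y = y * x := fun x hx y hy => mem_cent1'.1 (h.S_comm hx hy)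
  have h1 := (apply_of_cfdot (φ := φ) (κ := n) hc (fun ρ hρ h1 => cfdot_const (hρ.isLin_of_comm hc)
    h1 fun x hx h2 => by
      obtain ⟨g, rfl⟩ := h.conj_t (inv_of_mul_self (h.sq_S hx) h2)
      rw [CF_conj (ZIrr_mem_CF hφ) (mem_top g), hn]) c.S.one_mem).2 rfl
  obtain ⟨k, hk⟩ := ZIrr_cfdot_int (ZIrr_cfRes le_top hφ) (cf1_mem_ZIrr (L := c.S))
  rw [cfdot_cfRes_left] at hk
  rw [hz, hk, h.card_S] at h1
  exact ⟨k - n, by exact_mod_cast (sub_eq_iff_eq_add'.2 h1)⟩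

theorem sec (hE : Eta c.L a b e (-s) (-s) q) {l : Lat (ZIrr (⊤ : Subgroup G))}
    (hl : IsLat ⊤ c.t l) : l.Sec q r s (𝐂[c.t]).index ⟨cf1 ⊤, cf1_mem_ZIrr⟩
      ⟨_, h.al_mem hE.osa⟩ ⟨_, h.al_mem hE.osb⟩ ⟨_, h.al_mem hE.ose⟩
      fun ξ => PP c a b e ξ := by
  have o1 : Odd (orderOf (1 : G)) := by simp
  have nn : ∀ {a b}, OS c.L (cf1 c.L - a) → OS c.L (cf1 c.L - b) → cfdot c.L a (cf1 c.L) = 0 →
      cfdot c.L b (cf1 c.L) = 0 → cfdot ⊤ (al c (cf1 c.L - a)) (al c (cf1 c.L - b)) =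
        2 * (1 + cfdot c.L a b) := fun h1 h2 h3 h4 => by
    rw [h.al_al h1 h2, cfdot_sub_left, cfdot_sub_right, cfdot_sub_right, cfdot_cf1, h3,
      cfdot_symm_zero h4]
    ring
  have oo : ∀ {a}, OS c.L (cf1 c.L - a) → cfdot c.L a (cf1 c.L) = 0 →
      cfdot ⊤ (cf1 ⊤) (al c (cf1 c.L - a)) = (1 : ℤ) := fun h1 h2 => by
    rw [h.cfdot_al cf1_mem_CF h1, cfdot_congr (φ' := cf1 c.L) (fun x hx => by
      rw [tr, cf1_apply hx, cf1_apply (mem_top _)]) fun _ _ => rfl, cfdot_sub_right, cfdot_cf1,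
      cfdot_symm_zero h2]
    simp
  have vv : ∀ {a} {x : ℤ}, OS c.L (cf1 c.L - a) → a 1 = x →
      al c (cf1 c.L - a) c.t = (2 * (1 - x) : ℤ) := fun h1 h2 => by
    have := h.al_t h1 (one_mem _) o1
    rw [mul_one] at this
    rw [this, Pi.sub_apply, cf1_apply (one_mem _), h2]; simp
  have tt : ∀ {a} {x : ℤ}, OS c.L (cf1 c.L - a) → IsDirr c.L a → a 1 = x → a c.u = 1 →
      Th ⊤ c.t (al c (cf1 c.L - a)) = 4 * (q * s) ^ 2 / (𝐂[c.t]).index * (1 - 1 / x) :=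
    fun h1 h2 h3 h4 => by rw [h.Th_al h1, Th_sub, Th_cf1 h.uL, Th_dirr h2 h.uL, h3, h4, one_pow]
  obtain ⟨v1, v2, v3⟩ := hE.even _ h.uL h.ou.symm.dvd
  have hs : (s : ℂ) ≠ 0 := by exact_mod_cast h.s_ne
  have hq : (q : ℂ) ≠ 0 := by exact_mod_cast h.q_ne
  have := h.idx_ne
  refine ⟨⟨hl.B_eq (by simp [cfdot_cf1]), hl.z_eq (by simp [cf1_apply]),
    hl.n_eq (by simp [cf1_apply]),
    hl.B_eq (by rw [nn hE.osa hE.osa hE.a1 hE.a1, hE.da.cfdot_self]; norm_num),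
    hl.B_eq (by rw [nn hE.osb hE.osb hE.b1 hE.b1, hE.db.cfdot_self]; norm_num),
    hl.B_eq (by rw [nn hE.ose hE.ose hE.c1 hE.c1, hE.dc.cfdot_self]; norm_num),
    hl.B_eq (by rw [nn hE.osa hE.osb hE.a1 hE.b1, hE.ab]; norm_num),
    hl.B_eq (by rw [nn hE.osa hE.ose hE.a1 hE.c1, hE.ac]; norm_num),
    hl.B_eq (by rw [nn hE.osb hE.ose hE.b1 hE.c1, hE.bc]; norm_num),
    hl.B_eq (oo hE.osa hE.a1), hl.B_eq (oo hE.osb hE.b1), hl.B_eq (oo hE.ose hE.c1),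
    hl.z_eq (by simp [h.al_odd hE.osa o1]), hl.z_eq (by simp [h.al_odd hE.osb o1]),
    hl.z_eq (by simp [h.al_odd hE.ose o1])⟩, by exact_mod_cast Nat.pos_of_ne_zero (by exact_mod_cast this),
    fun ξ hξ => (h.dich hE (hl.dirr hξ)).imp id fun k => ⟨hl.B_eq (by simp [k.1]),
      hl.B_eq (by simp [k.2.1]), hl.B_eq (by simp [k.2.2])⟩, fun ξ hξ => hl.n_eq ?_,
    by rw [hl.n_eq (vv hE.osa hE.xa)]; ring, by rw [hl.n_eq (vv hE.osb hE.yb)]; ring,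
    hl.n_eq (vv hE.ose hE.zc), hl.Θ_eq ?_, hl.Θ_eq ?_, hl.Θ_eq ?_,
    fun v => h.mod_eight v.2 (hl.z v) (hl.n v),
    fun ξ hξ => dvd_index_mul (hl.dirr hξ) (hl.z ξ) (hl.n ξ)⟩
  · have := hξ 1 (one_mem _) o1
    rw [mul_one, hE.xa, hE.yb, hE.zc] at this
    push_cast
    rw [this, ← hl.B, ← hl.B, ← hl.B]; push_cast; ring
  · rw [tt hE.osa hE.da hE.xa v1]; push_cast; field_simp; ring
  · rw [tt hE.osb hE.db hE.yb v2]; push_cast; field_simp; ring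
  · rw [tt hE.ose hE.dc hE.zc v3]; push_cast; field_simp
    rw [h.hq]; push_cast; ring

end GD

end CfsgLib.JR
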