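import Cfsg.Agent.Lib.JR.Defs
import Cfsg.Agent.Lib.GW.Order
import Cfsg.Agent.Lib.Blk.BSc

/-!
# The functional `Θ` and the principal `2`-block of a group with a Sylow four-group
-/

set_option autoImplicit false

namespace CfsgLib.JR

open Subgroup Cfsg CfsgLib.FT CfsgLib.FT.BGN CfsgLib.FT.U4 CfsgLib.GW CfsgLib.Blk
open scoped ComplexConjugate

variable {G : Type*} [Group G] [Fintype G] {X W O : Subgroup G} {u : G} {α β f : G → ℂ}

/-- `Θ(β) = ∑ ⟨β, χ⟩ χ(u)² / χ(1)`. -/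
noncomputable def Th (X : Subgroup G) (u : G) (β : G → ℂ) : ℂ :=
  (Nat.card X : ℂ)⁻¹ * ∑ z ∈ elems (X : Set G), β (u * (z * u * z⁻¹))

theorem Th_add : Th X u (α + β) = Th X u α + Th X u β := by
  simp only [Th, Pi.add_apply, Finset.sum_add_distrib, mul_add]

theorem Th_sub : Th X u (α - β) = Th X u α - Th X u β := by
  simp only [Th, Pi.sub_apply, Finset.sum_sub_distrib, mul_sub]

theorem Th_neg : Th X u (-α) = -Th X u α := by
  simp only [Th, Pi.neg_apply, Finset.sum_neg_distrib, mul_neg]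

theorem Th_smul (c : ℂ) : Th X u (c • α) = c * Th X u α := by
  simp only [Th, Pi.smul_apply, smul_eq_mul, ← Finset.mul_sum]; ring

theorem Th_sum {ι : Type*} (s : Finset ι) (F : ι → G → ℂ) :
    Th X u (∑ i ∈ s, F i) = ∑ i ∈ s, Th X u (F i) := by
  simp only [Th, Finset.sum_apply]
  rw [Finset.sum_comm, Finset.mul_sum]

theorem Th_dirr (h : IsDirr X α) (hu : u ∈ X) : Th X u α = α u ^ 2 / α 1 := by
  have key : ∀ χ : G → ℂ, IsIrr X χ → Th X u χ = χ u ^ 2 / χ 1 := fun χ hχ => by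
    have := card_ne_zero X
    rw [Th, sum_conj_mul hχ u hu]; field_simp
  rcases h with h | h
  · exact key α h
  · have := key _ h
    rw [Th_neg, neg_eq_iff_eq_neg] at this
    rw [this]; simp only [Pi.neg_apply]; ring

theorem Th_cf1 (hu : u ∈ X) : Th X u (cf1 X) = 1 := by
  rw [Th_dirr (isIrr_cf1 X).isDirr hu, cf1_apply hu, cf1_apply X.one_mem]; simp

/-- The involutions `a` of `X` such that `a g` is an involution of `X`. -/
def invs (X : Subgroup G) (g : G) : Set G :=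
  {a | (a ∈ X ∧ orderOf a = 2) ∧ a * g ∈ X ∧ orderOf (a * g) = 2}

/-- The number of ways to write `g` as a product of two involutions of `X`. -/
noncomputable def th (X : Subgroup G) : G → ℂ := fun g => ((invs X g).ncard : ℂ)

theorem th_mem_CF : th X ∈ CF X := by
  refine mem_CF.2 ⟨fun g hg => ?_, fun y hy g => ?_⟩
  · have : invs X g = ∅ := Set.eq_empty_of_forall_notMem fun a ha =>
      hg ((mul_mem_cancel_left ha.1.1).1 ha.2.1)
    simp [th, this]
  · simp only [th]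
    congr 1
    refine (Set.ncard_congr (fun a _ => y * a * y⁻¹) (fun a ha => ?_) (fun a b _ _ e => ?_)
      fun b hb => ⟨y⁻¹ * b * y, ?_, by group⟩).symm
    · have e : y * a * y⁻¹ * (y * g * y⁻¹) = y * (a * g) * y⁻¹ := by group
      refine ⟨⟨(conj_mem_iff hy).2 ha.1.1, by rw [U4.orderOf_conj, ha.1.2]⟩, ?_⟩
      rw [e, U4.orderOf_conj, conj_mem_iff hy]
      exact ha.2
    · simpa using e
    · have e : y⁻¹ * b * y * g = y⁻¹ * (b * (y * g * y⁻¹)) * y⁻¹⁻¹ := by group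
      refine ⟨⟨mul_mem (mul_mem (inv_mem hy) hb.1.1) hy, by rw [H5.orderOf_conj'', hb.1.2]⟩, ?_⟩
      rw [e, U4.orderOf_conj, conj_mem_iff (inv_mem hy)]
      exact hb.2

theorem sum_conj_inv' (ht : orderOf u = 2) (hu : u ∈ X) (h1 : OneCl X) (F : G → ℂ) :
    ∑ x ∈ elems (X : Set G), F (x * u * x⁻¹) =
      Nat.card ↥(X ⊓ 𝐂[u]) * ∑ a ∈ elems {a | a ∈ X ∧ orderOf a = 2}, F a := by
  classical
  rw [← Finset.sum_fiberwise_of_maps_to (g := fun x => x * u * x⁻¹)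
    (t := elems {a | a ∈ X ∧ orderOf a = 2}) (fun x hx => mem_elems.2 ⟨mul_mem (mul_mem
      (mem_elems.1 hx) hu) (inv_mem (mem_elems.1 hx)), by rw [U4.orderOf_conj, ht]⟩),
    Finset.mul_sum]
  refine Finset.sum_congr rfl fun a ha => ?_
  obtain ⟨z, hz, rfl⟩ := h1 u hu a (mem_elems.1 ha).1 ht (mem_elems.1 ha).2
  rw [Finset.sum_congr rfl (g := fun _ => F (z * u * z⁻¹))
    fun x hx => by rw [(Finset.mem_filter.1 hx).2], Finset.sum_const]
  rw [← card_filter_conj_eq (x := u) hz, nsmul_eq_mul]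

theorem Th_eq (ht : orderOf u = 2) (hu : u ∈ X) (h1 : OneCl X) (hβ : β ∈ CF X) :
    Th X u β = (Nat.card ↥(X ⊓ 𝐂[u]) : ℂ) ^ 2 / Nat.card X * cfdot X β (th X) := by
  classical
  set I := elems {a | a ∈ X ∧ orderOf a = 2} with hI
  have hX := card_ne_zero X
  have e1 : ∑ g ∈ elems (X : Set G), β g * conj (th X g) = ∑ a ∈ I, ∑ b ∈ I, β (a * b) := by
    have : ∀ a ∈ I, ∑ b ∈ I, β (a * b) =
        ∑ g ∈ elems (X : Set G), if a ∈ invs X g then β g else 0 := fun a ha => by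
      have ha' := mem_elems.1 ha
      have haa := mul_self_of_inv ha'.2
      rw [← Finset.sum_filter]
      refine Finset.sum_bij (fun b _ => a * b) (fun b hb => ?_) (fun b _ b' _ e => by simpa using e)
        (fun g hg => ⟨a * g, mem_elems.2 (Finset.mem_filter.1 hg).2.2, by
          rw [← mul_assoc, haa, one_mul]⟩) fun _ _ => rfl
      have hb' := mem_elems.1 hb
      refine Finset.mem_filter.2 ⟨mem_elems.2 (mul_mem ha'.1 hb'.1), ha', ?_⟩
      rwa [← mul_assoc, haa, one_mul]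
    rw [Finset.sum_congr rfl this, Finset.sum_comm]
    refine Finset.sum_congr rfl fun g _ => ?_
    rw [← Finset.sum_filter, Finset.sum_const, nsmul_eq_mul, mul_comm, th, map_natCast,
      ← card_elems_set]
    congr 3
    ext a
    simp only [hI, mem_elems, Finset.mem_filter]
    exact ⟨fun h => ⟨h.1, h⟩, fun h => h.2⟩
  have e2 := sum_conj_inv' ht hu h1 fun a => ∑ z ∈ elems (X : Set G), β (a * (z * u * z⁻¹))
  have e3 : ∀ x ∈ elems (X : Set G), ∑ z ∈ elems (X : Set G), β (x * u * x⁻¹ * (z * u * z⁻¹)) =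
      ∑ z ∈ elems (X : Set G), β (u * (z * u * z⁻¹)) := fun x hx => by
    have hx' := mem_elems.1 hx
    refine Finset.sum_bij (fun z _ => x⁻¹ * z) (fun z hz => mem_elems.2 (mul_mem (inv_mem hx')
      (mem_elems.1 hz))) (fun _ _ _ _ e => by simpa using e) (fun z hz => ⟨x * z, mem_elems.2
        (mul_mem hx' (mem_elems.1 hz)), by group⟩) fun z _ => ?_
    rw [← CF_conj hβ hx' (u * _)]; congr 1; group
  rw [Finset.sum_congr rfl e3, Finset.sum_const, card_elems, nsmul_eq_mul,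
    Finset.sum_congr rfl fun a _ => sum_conj_inv' ht hu h1 fun b => β (a * b),
    ← Finset.mul_sum, ← e1] at e2
  rw [Th, cfdot]
  field_simp
  linear_combination e2

theorem Th_ind (ht : orderOf u = 2) (hu : u ∈ X) (h1 : OneCl X) (hW : W ≤ X) :
    Th X u (cfInd W X f) = (Nat.card ↥(X ⊓ 𝐂[u]) : ℂ) ^ 2 / Nat.card X * cfdot W f (th X) := by
  rw [Th_eq ht hu h1 cfInd_mem_CF, cfdot_cfInd_left hW th_mem_CF]

omit [Fintype G] in
theorem inverts_of_mem_invs {a g : G} (h : a ∈ invs X g) : a * g * a⁻¹ = g⁻¹ := by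
  have h1 := mul_self_of_inv h.1.2
  have h2 := mul_self_of_inv h.2.2
  rw [inv_of_inv h.1.2, eq_inv_iff_mul_eq_one, ← h2]; group

omit [Fintype G] in
theorem mem_invs {a g : G} (ha : a ∈ X) (hg : g ∈ X) (ho : orderOf a = 2)
    (hi : a * g * a⁻¹ = g⁻¹) (hne : a * g ≠ 1) : a ∈ invs X g := by
  refine ⟨⟨ha, ho⟩, mul_mem ha hg, inv_of_mul_self ?_ hne⟩
  rw [inv_of_inv ho] at hi
  calc a * g * (a * g) = a * g * a * g := by group
    _ = 1 := by rw [hi, inv_mul_cancel]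

/-- A subgroup with a Sylow four-group, one class of involutions, and `C(u)` `2`-nilpotent. -/
structure V4 (X : Subgroup G) (u : G) (O : Subgroup G) : Prop where
  ou : orderOf u = 2
  uX : u ∈ X
  le : O ≤ X ⊓ 𝐂[u]
  norm : X ⊓ 𝐂[u] ≤ 𝐍(O)
  odd : Odd (Nat.card O)
  reg : ∀ g ∈ X, g * u = u * g → Odd (orderOf g) → g ∈ O
  idx : O.relIndex (X ⊓ 𝐂[u]) = 4
  even : ∀ g ∈ X, 2 ∣ orderOf g → ∃ z ∈ X, ∃ y ∈ O, z * g * z⁻¹ = u * y
  four : ∃ v ∈ X, Four u v

/-- The principal `2`-block `1, a, b, c` (with signs). -/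
structure Eta (X : Subgroup G) (a b c : G → ℂ) (x y z : ℤ) : Prop where
  da : IsDirr X a
  db : IsDirr X b
  dc : IsDirr X c
  a1 : cfdot X a (cf1 X) = 0
  b1 : cfdot X b (cf1 X) = 0
  c1 : cfdot X c (cf1 X) = 0
  ab : cfdot X a b = 0
  ac : cfdot X a c = 0
  bc : cfdot X b c = 0
  xa : a 1 = x
  yb : b 1 = y
  zc : c 1 = z
  even : ∀ g ∈ X, 2 ∣ orderOf g → a g = 1 ∧ b g = 1 ∧ c g = 1
  odd : ∀ g ∈ X, Odd (orderOf g) → 1 + a g + b g + c g = 0
  mx : x % 4 = 1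
  my : y % 4 = 1
  mz : z % 4 = 1
  b0 : ∀ χ ∈ B0 2 X, ∃ ε : ℂ, (χ : G → ℂ) = ε • cf1 X ∨ (χ : G → ℂ) = ε • a ∨
    (χ : G → ℂ) = ε • b ∨ (χ : G → ℂ) = ε • c

variable {a b c : G → ℂ} {x y z : ℤ}

theorem Eta.swap (h : Eta X a b c x y z) : Eta X b a c y x z :=
  ⟨h.db, h.da, h.dc, h.b1, h.a1, h.c1, cfdot_symm_zero h.ab, h.bc, h.ac, h.yb, h.xa, h.zc,
    fun g hg e => ⟨(h.even g hg e).2.1, (h.even g hg e).1, (h.even g hg e).2.2⟩,
    fun g hg e => by linear_combination h.odd g hg e, h.my, h.mx, h.mz,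
    fun χ hχ => (h.b0 χ hχ).imp fun _ => by tauto⟩

theorem Eta.swap' (h : Eta X a b c x y z) : Eta X a c b x z y :=
  ⟨h.da, h.dc, h.db, h.a1, h.c1, h.b1, h.ac, h.ab, cfdot_symm_zero h.bc, h.xa, h.zc, h.yb,
    fun g hg e => ⟨(h.even g hg e).1, (h.even g hg e).2.2, (h.even g hg e).2.1⟩,
    fun g hg e => by linear_combination h.odd g hg e, h.mx, h.mz, h.my,
    fun χ hχ => (h.b0 χ hχ).imp fun _ => by tauto⟩

theorem Eta.sum (h : Eta X a b c x y z) : 1 + x + y + z = 0 := by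
  have := h.odd 1 X.one_mem (by simp)
  rw [h.xa, h.yb, h.zc] at this
  exact_mod_cast this

theorem Eta.phi_mem (h : Eta X a b c x y z) : cf1 X + a + b + c ∈ CF X :=
  add_mem (add_mem (add_mem cf1_mem_CF h.da.mem_CF) h.db.mem_CF) h.dc.mem_CF

theorem Eta.phi_even (h : Eta X a b c x y z) {g : G} (hg : g ∈ X) (e : 2 ∣ orderOf g) :
    (cf1 X + a + b + c) g = 4 := by
  obtain ⟨h1, h2, h3⟩ := h.even g hg e
  simp only [Pi.add_apply, cf1_apply hg, h1, h2, h3]; norm_num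

theorem Eta.phi_odd (h : Eta X a b c x y z) {g : G} (e : Odd (orderOf g)) :
    (cf1 X + a + b + c) g = 0 := by
  by_cases hg : g ∈ X
  · simpa only [Pi.add_apply, cf1_apply hg] using h.odd g hg e
  · exact CF_zero h.phi_mem hg

theorem Eta.Th_phi (h : Eta X a b c x y z) (ht : orderOf u = 2) (hu : u ∈ X) :
    Th X u (cf1 X + a + b + c) = 1 + 1 / x + 1 / y + 1 / z := by
  obtain ⟨h1, h2, h3⟩ := h.even u hu ht.symm.dvd
  rw [Th_add, Th_add, Th_add, Th_cf1 hu, Th_dirr h.da hu, Th_dirr h.db hu, Th_dirr h.dc hu,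
    h1, h2, h3, h.xa, h.yb, h.zc, one_pow]

omit [Fintype G] in
theorem V4.oneCl (h : V4 X u O) : OneCl X := by
  have key : ∀ g ∈ X, orderOf g = 2 → ∃ z ∈ X, z * g * z⁻¹ = u := fun g hg ho => by
    obtain ⟨z, hz, y, hy, e⟩ := h.even g hg ho.symm.dvd
    have h1 : u * y * (u * y) = 1 := by rw [← e]; exact mul_self_of_inv (by rw [U4.orderOf_conj, ho])
    have h2 := mem_cent1.1 (h.le hy).2
    have h3 : y * y = 1 := by
      calc y * y = u * u * y * y := by rw [mul_self_of_inv h.ou, one_mul]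
        _ = u * (u * y) * y := by group
        _ = u * (y * u) * y := by rw [h2]
        _ = u * y * (u * y) := by group
        _ = 1 := h1
    exact ⟨z, hz, by rw [e, eq_one_of_odd_of_mul_self (odd_orderOf_of_mem h.odd hy) h3, mul_one]⟩
  intro a ha b hb h1 h2
  obtain ⟨z, hz, e⟩ := key a ha h1
  obtain ⟨w, hw, e'⟩ := key b hb h2
  refine ⟨w⁻¹ * z, mul_mem (inv_mem hw) hz, ?_⟩
  calc w⁻¹ * z * a * (w⁻¹ * z)⁻¹ = w⁻¹ * (z * a * z⁻¹) * w := by group
    _ = b := by rw [e, ← e']; group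

theorem int_of_inv {φ : G → ℂ} (hφ : φ ∈ ZIrr X) (ht : orderOf u = 2) : ∃ n : ℤ, φ u = n := by
  refine ZIrr_int_of_pow_eq hφ fun k hk => ?_
  rw [ht] at hk
  obtain ⟨j, rfl⟩ := Nat.odd_iff.2 (Nat.coprime_two_right.1 hk |> Nat.odd_iff.1)
  rw [pow_succ, pow_mul, sq_eq_one_of_orderOf ht, one_pow, one_mul]

theorem V4.exists_eta (h : V4 X u O) : ∃ a b c x y z, Eta X a b c x y z := by
  classical
  have hu1 : u ^ 2 ^ 1 = 1 := by rw [pow_one, sq_eq_one_of_orderOf h.ou]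
  have hcop : (Nat.card O).Coprime 2 := Nat.coprime_two_right.2 h.odd
  have hreg : regSet 2 (X ⊓ 𝐂[u]) = O := by
    ext g
    exact ⟨fun hg => h.reg g hg.1.1 (mem_cent1.1 hg.1.2) (Nat.coprime_two_right.1 hg.2),
      fun hg => ⟨h.le hg, Nat.coprime_two_right.2 (odd_orderOf_of_mem h.odd hg)⟩⟩
  have hK : kerB (B0 2 X) u u = 4 := by
    have := K0_cent (L := X) (y := 1) (y' := 1) Nat.prime_two hu1 h.uX X.one_mem (by simp)
      (by simp) X.one_mem (by simp) (by simp)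
    rw [mul_one] at this
    have h2 := sum_irr_ker_sq h.le h.norm
    rw [h.idx, Nat.cast_ofNat] at h2
    rw [this, kerB, ← h2]
    refine Finset.sum_congr ?_ fun χ _ => by rw [χ.isChar.conj_one, sq]
    ext χ
    simp [mem_B0_iff_of_regSet_eq h.norm hreg]
  have hev : ∀ χ ∈ B0 2 X, ∀ g ∈ X, 2 ∣ orderOf g → χ g = χ u := fun χ hχ g hg e => by
    obtain ⟨z, hz, y, hy, e⟩ := h.even g hg e
    rw [← CF_conj χ.mem_CF hz g, e,
      apply_mul_of_mem_B0 Nat.prime_two hu1 h.uX h.le h.norm hcop hy hχ]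
  choose d hd using fun χ : Irr X => int_of_inv χ.mem_ZIrr h.ou
  have h1 : d 1 = 1 := by
    have := hd 1
    rw [Irr.coe_one, cf1_apply h.uX] at this
    exact_mod_cast this.symm
  have hd0 : ∀ χ ∈ (B0 2 X).erase 1, d χ ≠ 0 := fun χ hχ e => by
    obtain ⟨hne, hχ⟩ := Finset.mem_erase.1 hχ
    refine mem_B0.1 hχ ?_
    have h2 := χ.irr.cfdot_ne (isIrr_cf1 X) fun e => hne (Irr.ext e)
    rw [cfdot_cf1_right, mul_eq_zero, inv_eq_zero] at h2
    rw [← h2.resolve_left (card_ne_zero X)]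
    refine Finset.sum_subset (fun g hg => mem_elems.2 (mem_elems.1 hg).1) fun g hg hn => ?_
    rw [hev χ hχ g (mem_elems.1 hg) ?_, hd, e, Int.cast_zero]
    by_contra h3
    exact hn (mem_elems.2 ⟨mem_elems.1 hg,
      ((Nat.Prime.coprime_iff_not_dvd Nat.prime_two).2 h3).symm⟩)
  have h4 : ∑ χ ∈ B0 2 X, d χ ^ 2 = 4 := by
    simp only [kerB, hd, map_intCast, ← sq] at hK
    exact_mod_cast hK
  rw [← Finset.add_sum_erase _ _ (one_mem_B0 Nat.prime_two), h1] at h4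
  have h3 : ∑ χ ∈ (B0 2 X).erase 1, d χ ^ 2 = 3 := by omega
  have hs : ∀ χ ∈ (B0 2 X).erase 1, d χ = 1 ∨ d χ = -1 := fun χ hχ => by
    have := Finset.single_le_sum (f := fun χ => d χ ^ 2) (fun _ _ => sq_nonneg _) hχ
    rw [h3] at this
    have h5 : -2 < d χ := by nlinarith
    have h6 : d χ < 2 := by nlinarith
    have := hd0 χ hχ
    omega
  have hsq : ∀ χ ∈ (B0 2 X).erase 1, (d χ : ℂ) * d χ = 1 := fun χ hχ => by
    rcases hs χ hχ with e | e <;> simp [e]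
  have hc : ((B0 2 X).erase 1).card = 3 := by
    rw [Finset.sum_congr rfl (g := fun _ => 1) fun χ hχ => by
        rcases hs χ hχ with e | e <;> simp [e], Finset.sum_const, nsmul_eq_mul, mul_one] at h3
    exact_mod_cast h3
  obtain ⟨χ1, χ2, χ3, n12, n13, n23, e⟩ := Finset.card_eq_three.mp hc
  have m1 : χ1 ∈ (B0 2 X).erase 1 := by simp [e]
  have m2 : χ2 ∈ (B0 2 X).erase 1 := by simp [e]
  have m3 : χ3 ∈ (B0 2 X).erase 1 := by simp [e]
  have hdirr : ∀ χ ∈ (B0 2 X).erase 1, IsDirr X ((d χ : ℂ) • (χ : G → ℂ)) := fun χ hχ =>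
    isDirr_sign_smul χ.irr.isDirr (hs χ hχ)
  have hone : ∀ χ ∈ (B0 2 X).erase 1, cfdot X ((d χ : ℂ) • (χ : G → ℂ)) (cf1 X) = 0 :=
    fun χ hχ => by
      rw [cfdot_smul_left, χ.irr.cfdot_ne (isIrr_cf1 X) fun e =>
        (Finset.mem_erase.1 hχ).1 (Irr.ext e), mul_zero]
  have horth : ∀ χ ψ : Irr X, χ ≠ ψ →
      cfdot X ((d χ : ℂ) • (χ : G → ℂ)) ((d ψ : ℂ) • (ψ : G → ℂ)) = 0 := fun χ ψ hne => by
    rw [cfdot_smul_left, cfdot_smul_right, Irr.cfdot_eq, if_neg hne]; simp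
  have hval : ∀ χ ∈ (B0 2 X).erase 1, ∀ g ∈ X, 2 ∣ orderOf g →
      ((d χ : ℂ) • (χ : G → ℂ)) g = 1 := fun χ hχ g hg e => by
    rw [Pi.smul_apply, hev χ (Finset.mem_erase.1 hχ).2 g hg e, hd, smul_eq_mul, hsq χ hχ]
  obtain ⟨v, hv, h4v⟩ := h.four
  have hdeg : ∀ χ ∈ (B0 2 X).erase 1, ∃ y : ℤ, ((d χ : ℂ) • (χ : G → ℂ)) 1 = y ∧ y % 4 = 1 :=
    fun χ hχ => exists_deg h4v (V_le h.uX hv) h.oneCl (hdirr χ hχ)
      (hval χ hχ u h.uX h.ou.symm.dvd)
  obtain ⟨x, hx, hx'⟩ := hdeg χ1 m1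
  obtain ⟨y, hy, hy'⟩ := hdeg χ2 m2
  obtain ⟨z, hz, hz'⟩ := hdeg χ3 m3
  refine ⟨_, _, _, x, y, z, hdirr _ m1, hdirr _ m2, hdirr _ m3, hone _ m1, hone _ m2, hone _ m3,
    horth _ _ n12, horth _ _ n13, horth _ _ n23, hx, hy, hz,
    fun g hg e => ⟨hval _ m1 g hg e, hval _ m2 g hg e, hval _ m3 g hg e⟩, fun g hg ho => ?_,
    hx', hy', hz', fun χ hχ => ?_⟩
  · have := K0_eq_zero_of_reg (L := X) Nat.prime_two (Nat.coprime_two_right.2 ho) h.ou.symm.dvd
    rw [kerB, ← Finset.add_sum_erase _ _ (one_mem_B0 Nat.prime_two), e,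
      Finset.sum_insert (by simp [n12, n13]), Finset.sum_pair n23, hd, hd, hd, hd, h1,
      Irr.coe_one, cf1_apply hg] at this
    simp only [map_intCast, Pi.smul_apply, smul_eq_mul] at this ⊢
    push_cast at this
    linear_combination this
  · by_cases e1 : χ = 1
    · exact ⟨1, Or.inl (by simp [e1])⟩
    · have hm : χ ∈ (B0 2 X).erase 1 := Finset.mem_erase.2 ⟨e1, hχ⟩
      have h5 : (χ : G → ℂ) = (d χ : ℂ) • (d χ : ℂ) • (χ : G → ℂ) := by
        rw [smul_smul, hsq χ hm, one_smul]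
      refine ⟨d χ, Or.inr ?_⟩
      rw [e] at hm
      simp only [Finset.mem_insert, Finset.mem_singleton] at hm
      rcases hm with rfl | rfl | rfl
      · exact Or.inl h5
      · exact Or.inr (Or.inl h5)
      · exact Or.inr (Or.inr h5)

theorem num_lower' {a b c : ℤ} (ha : a % 4 = 1) (hb : b % 4 = 1) (hc : c % 4 = 1)
    (h : 1 + a + b + c = 0) : (8 / 15 : ℚ) ≤ 1 + 1 / a + 1 / b + 1 / c := by
  have key : ∀ y : ℤ, y % 4 = 1 → (-1 / 3 : ℚ) ≤ 1 / y := fun y hy => by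
    rcases (by omega : 1 ≤ y ∨ y ≤ -3) with e | e
    · have : (0 : ℚ) < 1 / y := by have : (0 : ℚ) < y := by exact_mod_cast (by omega : 0 < y)
                                   positivity
      linarith
    · have := (inv_ge_of_le (y := (y : ℚ)) (c := 3) (by norm_num) (by exact_mod_cast e)).2
      linarith
  by_cases h1 : a = 1
  · have := key b hb; have := key c hc; subst h1; push_cast; linarith
  by_cases h2 : b = 1
  · have := key a ha; have := key c hc; subst h2; push_cast; linarith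
  by_cases h3 : c = 1
  · have := key a ha; have := key b hb; subst h3; push_cast; linarith
  exact num_lower ha hb hc (by omega) h1 h2 h3

end CfsgLib.JR
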